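import Cfsg.Agent.Lib.Small.Order168Classes

/-!
# Actions of a simple group of order 168 on small elementary abelian groups: basic facts
-/

set_option autoImplicit false

namespace Cfsg.Lib.Small.SecRankFour.Linear

open Cfsg.Lib.Small

variable {L : Type*} [Group L] {V : Type*} [AddCommGroup V] [DistribMulAction L V]

/-- The displacement by a group element. -/
def dis (g : L) : V →+ V :=
  DistribSMul.toAddMonoidHom V g - AddMonoidHom.id V

theorem dis_apply (g : L) (v : V) : dis g v = g • v - v := rfl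

theorem dis_eq_zero {g : L} {v : V} : dis g v = 0 ↔ g • v = v := sub_eq_zero

theorem dis_mul (g k : L) (v : V) : dis (g * k) v = dis g (k • v) + dis k v := by
  simp only [dis_apply, mul_smul]; abel

theorem smul_eq_add (g : L) (v : V) : g • v = dis g v + v := by rw [dis_apply, sub_add_cancel]

/-- In exponent two the square of a displacement is the displacement of the square. -/
theorem dis_dis (h2 : ∀ v : V, v + v = 0) (g : L) (v : V) : dis g (dis g v) = dis (g * g) v := by
  rw [dis_mul, smul_eq_add g v, map_add, add_assoc, h2, add_zero]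

theorem dis_four (h2 : ∀ v : V, v + v = 0) {s : L} (hs : orderOf s = 4) (v : V) :
    dis s (dis s (dis s (dis s v))) = 0 := by
  have h : s * s * (s * s) = 1 := by
    calc s * s * (s * s) = s ^ 4 := by simp [pow_succ, mul_assoc]
      _ = 1 := by rw [← hs, pow_orderOf_eq_one]
  rw [dis_dis h2, dis_dis h2 s v, dis_dis h2, h, dis_eq_zero, one_smul]

theorem orderOf_sq {s : L} (hs : orderOf s = 4) : orderOf (s * s) = 2 := by
  rw [← pow_two, orderOf_pow' s two_ne_zero, hs]
  rfl

section Chain

open scoped Classical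

/-- A basis in an elementary group of order eight. -/
theorem coords_three [Finite V] (h2 : ∀ v : V, v + v = 0) (hV : Nat.card V = 8) (x y z : V)
    (hinj : ∀ a b c : ZMod 2, a.val • x + b.val • y + c.val • z = 0 → a = 0 ∧ b = 0 ∧ c = 0) :
    ∃ e : ZMod 2 × ZMod 2 × ZMod 2 ≃+ V,
      ∀ a b c : ZMod 2, e (a, b, c) = a.val • x + b.val • y + c.val • z := by
  letI : Module (ZMod 2) V := AddCommGroup.zmodModule fun v => by rw [two_nsmul, h2]
  have hval : ∀ (a : ZMod 2) (v : V), a • v = a.val • v := fun a v => by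
    rw [← Nat.cast_smul_eq_nsmul (ZMod 2), ZMod.natCast_zmod_val]
  let f : ZMod 2 × ZMod 2 × ZMod 2 →+ V :=
    { toFun := fun p => p.1 • x + p.2.1 • y + p.2.2 • z
      map_zero' := by simp
      map_add' := fun p q => by simp only [Prod.fst_add, Prod.snd_add, add_smul]; abel }
  have hf : Function.Injective f := (injective_iff_map_eq_zero f).2 fun p hp => by
    obtain ⟨a, b, c⟩ := p
    obtain ⟨rfl, rfl, rfl⟩ := hinj a b c (by rw [← hval, ← hval, ← hval]; exact hp)
    rfl
  refine ⟨AddEquiv.ofBijective f ((Nat.bijective_iff_injective_and_card f).2 ⟨hf, ?_⟩), fun a b c => ?_⟩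
  · rw [hV, Nat.card_prod, Nat.card_prod, Nat.card_zmod]
  · rw [← hval, ← hval, ← hval]; rfl

/-- A basis in an elementary group of order sixteen. -/
theorem coords_four [Finite V] (h2 : ∀ v : V, v + v = 0) (hV : Nat.card V = 16) (x y z w : V)
    (hinj : ∀ a b c d : ZMod 2, a.val • x + b.val • y + c.val • z + d.val • w = 0 →
      a = 0 ∧ b = 0 ∧ c = 0 ∧ d = 0) :
    ∃ e : ZMod 2 × ZMod 2 × ZMod 2 × ZMod 2 ≃+ V,
      ∀ a b c d : ZMod 2, e (a, b, c, d) = a.val • x + b.val • y + c.val • z + d.val • w := by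
  letI : Module (ZMod 2) V := AddCommGroup.zmodModule fun v => by rw [two_nsmul, h2]
  have hval : ∀ (a : ZMod 2) (v : V), a • v = a.val • v := fun a v => by
    rw [← Nat.cast_smul_eq_nsmul (ZMod 2), ZMod.natCast_zmod_val]
  let f : ZMod 2 × ZMod 2 × ZMod 2 × ZMod 2 →+ V :=
    { toFun := fun p => p.1 • x + p.2.1 • y + p.2.2.1 • z + p.2.2.2 • w
      map_zero' := by simp
      map_add' := fun p q => by simp only [Prod.fst_add, Prod.snd_add, add_smul]; abel }
  have hf : Function.Injective f := (injective_iff_map_eq_zero f).2 fun p hp => by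
    obtain ⟨a, b, c, d⟩ := p
    obtain ⟨rfl, rfl, rfl, rfl⟩ := hinj a b c d (by rw [← hval, ← hval, ← hval, ← hval]; exact hp)
    rfl
  refine ⟨AddEquiv.ofBijective f ((Nat.bijective_iff_injective_and_card f).2 ⟨hf, ?_⟩), fun a b c d => ?_⟩
  · rw [hV, Nat.card_prod, Nat.card_prod, Nat.card_prod, Nat.card_zmod]
  · rw [← hval, ← hval, ← hval, ← hval]; rfl

/-- The scalar of a nonzero vector of exponent two. -/
theorem eq_zero_of_val_nsmul {W : Type*} [AddMonoid W] {v : W} (hv : v ≠ 0) {a : ZMod 2}
    (h : a.val • v = 0) : a = 0 := by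
  rcases (show ∀ a : ZMod 2, a = 0 ∨ a = 1 by decide) a with rfl | rfl
  · rfl
  · exact absurd (by simpa [ZMod.val_one] using h) hv

/-- A nilpotent map of maximal class in order eight. -/
theorem chain_three [Finite V] (h2 : ∀ v : V, v + v = 0) (hV : Nat.card V = 8) (D : V →+ V)
    (hD : ∀ v, D (D (D v)) = 0) {x : V} (hx : D (D x) ≠ 0) :
    ∃ e : ZMod 2 × ZMod 2 × ZMod 2 ≃+ V, e (1, 0, 0) = x ∧ ∀ a b c, D (e (a, b, c)) = e (0, a, b) := by
  obtain ⟨e, he⟩ := coords_three h2 hV x (D x) (D (D x)) fun a b c h => by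
    have ha : a = 0 := eq_zero_of_val_nsmul hx (by simpa [hD] using congrArg (fun v => D (D v)) h)
    subst ha
    have hb : b = 0 := eq_zero_of_val_nsmul hx (by simpa [hD] using congrArg D h)
    subst hb
    exact ⟨rfl, rfl, eq_zero_of_val_nsmul hx (by simpa using h)⟩
  refine ⟨e, by rw [he]; simp [ZMod.val_one], fun a b c => ?_⟩
  rw [he, he]; simp [hD]

/-- A nilpotent map of maximal class in order sixteen. -/
theorem chain_four [Finite V] (h2 : ∀ v : V, v + v = 0) (hV : Nat.card V = 16) (D : V →+ V)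
    (hD : ∀ v, D (D (D (D v))) = 0) {x : V} (hx : D (D (D x)) ≠ 0) :
    ∃ e : ZMod 2 × ZMod 2 × ZMod 2 × ZMod 2 ≃+ V, e (1, 0, 0, 0) = x ∧
      ∀ a b c d, D (e (a, b, c, d)) = e (0, a, b, c) := by
  obtain ⟨e, he⟩ := coords_four h2 hV x (D x) (D (D x)) (D (D (D x))) fun a b c d h => by
    have ha : a = 0 := eq_zero_of_val_nsmul hx (by simpa [hD] using congrArg (fun v => D (D (D v))) h)
    subst ha
    have hb : b = 0 := eq_zero_of_val_nsmul hx (by simpa [hD] using congrArg (fun v => D (D v)) h)
    subst hb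
    have hc : c = 0 := eq_zero_of_val_nsmul hx (by simpa [hD] using congrArg D h)
    subst hc
    exact ⟨rfl, rfl, rfl, eq_zero_of_val_nsmul hx (by simpa using h)⟩
  refine ⟨e, by rw [he]; simp [ZMod.val_one], fun a b c d => ?_⟩
  rw [he, he]; simp [hD]

end Chain

section Simple

variable [Finite L] [IsSimpleGroup L] (hL : Nat.card L = 168)
include hL

theorem eq_one_of_comm {A : Type*} [Group A] (hA : ∀ a b : A, a * b = b * a) (f : L →* A) (g : L) :
    f g = 1 := by
  rcases (MonoidHom.normal_ker f).eq_bot_or_eq_top with h | h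
  · exfalso
    have hinj := (MonoidHom.ker_eq_bot_iff f).1 h
    obtain ⟨T⟩ : Nonempty (Sylow 2 L) := inferInstance
    exact Order168.not_comm_two hL T ⟨⟨fun a b => Subtype.ext (hinj (by
      rw [Subgroup.coe_mul, Subgroup.coe_mul, map_mul, map_mul, hA]))⟩⟩
  · exact MonoidHom.mem_ker.1 (h ▸ Subgroup.mem_top g)

omit hL in
/-- A nontrivial action is faithful. -/
theorem faithful {V : Type*} [AddCommGroup V] [DistribMulAction L V] (hnt : ∃ (g : L) (v : V), g • v ≠ v) {g : L} (hg : ∀ v : V, g • v = v) : g = 1 := by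
  set K : Subgroup L := (MulAction.toPermHom L V).ker with hK
  rcases (inferInstance : K.Normal).eq_bot_or_eq_top with h | h
  · have hm : g ∈ K := MonoidHom.mem_ker.2 (Equiv.ext hg)
    rwa [h, Subgroup.mem_bot] at hm
  · obtain ⟨k, v, hv⟩ := hnt
    have hk : k ∈ K := h ▸ Subgroup.mem_top k
    rw [hK, MonoidHom.mem_ker] at hk
    exact absurd (Equiv.ext_iff.1 hk v) hv

theorem exists_order (p : ℕ) (hp : p.Prime) (hd : p ∣ 168) : ∃ g : L, orderOf g = p := by
  haveI := Fact.mk hp
  exact exists_prime_orderOf_dvd_card' p (hL.symm ▸ hd)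

theorem exists_order_four : ∃ s : L, orderOf s = 4 := by
  obtain ⟨T⟩ : Nonempty (Sylow 2 L) := inferInstance
  obtain ⟨a, -, ha⟩ := Order168.exists_four hL T
  exact ⟨a, ha⟩

theorem orbit_cases {α : Type*} [MulAction L α] (a : α) :
    (∀ g : L, g • a = a) ∨
      (7 ≤ (MulAction.orbit L a).ncard ∧
        (MulAction.orbit L a).ncard * Nat.card (MulAction.stabilizer L a) = 168) := by
  by_cases h : MulAction.stabilizer L a = ⊤
  · exact Or.inl fun g => MulAction.mem_stabilizer_iff.1 (h ▸ Subgroup.mem_top g)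
  · refine Or.inr ?_
    rw [← MulAction.index_stabilizer, ← hL, mul_comm, Subgroup.card_mul_index]
    exact ⟨Order168.index_ge hL h, rfl⟩

/-- An orbit on which an invariant homomorphism is a nonzero constant, with no fixed point over
that constant, has stabilisers of odd order. -/
theorem stab_odd {W A : Type*} [AddCommGroup W] [DistribMulAction L W] [Finite W] [AddCommGroup A]
    (hA : ∀ x : A, x + x = 0) (f : W →+ A) (a : W) (hf : ∀ g : L, f (g • a) = f a) (ha : f a ≠ 0)
    (hle : (MulAction.orbit L a).ncard ≤ 8) (hno : ∀ b : W, (∀ g : L, g • b = b) → f b = 0) :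
    Odd (Nat.card (MulAction.stabilizer L a)) := by
  classical
  haveI : Fintype W := Fintype.ofFinite W
  rcases orbit_cases hL a with h | ⟨h7, hmul⟩
  · exact absurd (hno a h) ha
  · interval_cases hn : (MulAction.orbit L a).ncard
    · exfalso
      set S := (MulAction.orbit L a).toFinset with hS
      have hcard : S.card = 7 := by rw [hS, ← Set.ncard_eq_toFinset_card']; exact hn
      have hfix : ∀ g : L, g • (∑ x ∈ S, x) = ∑ x ∈ S, x := fun g => by
        rw [Finset.smul_sum]
        refine Finset.sum_equiv (MulAction.toPerm g) (fun x => ?_) fun x _ => rfl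
        rw [hS, Set.mem_toFinset, Set.mem_toFinset, MulAction.toPerm_apply]
        refine ⟨fun hx => MulAction.mem_orbit_of_mem_orbit g hx, fun hx => ?_⟩
        simpa using MulAction.mem_orbit_of_mem_orbit g⁻¹ hx
      apply ha
      have hs := hno _ hfix
      rw [map_sum, Finset.sum_congr rfl (g := fun _ => f a) (fun x hx => ?_), Finset.sum_const, hcard,
        show (7 : ℕ) = 1 + 1 + 1 + 1 + 1 + 1 + 1 from rfl] at hs
      · rw [add_smul, add_smul, add_smul, add_smul, add_smul, add_smul, one_smul] at hs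
        simpa [hA] using hs
      · obtain ⟨g, rfl⟩ := (Set.mem_toFinset.1 (hS ▸ hx) : x ∈ MulAction.orbit L a)
        exact hf g
    · rw [Nat.odd_iff]; omega

omit hL in
/-- An element fixing a point with stabiliser of odd order has odd order. -/
theorem not_fix_two {α : Type*} [MulAction L α] {a : α}
    (h : Odd (Nat.card (MulAction.stabilizer L a))) {t : L} (ht : orderOf t = 2) : t • a ≠ a := fun e => by
  have h2 : 2 ∣ Nat.card (MulAction.stabilizer L a) :=
    ht ▸ Subgroup.orderOf_dvd_natCard _ (MulAction.mem_stabilizer_iff.2 e)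
  obtain ⟨k, hk⟩ := h
  omega

end Simple

end Cfsg.Lib.Small.SecRankFour.Linear
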