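import Cfsg.Agent.Lib.Small.SecRankFour.Linear.Exponent

/-!
# Sections of rank five over homocyclic modules of exponent four
-/

set_option autoImplicit false

namespace Cfsg.Lib.Small.SecRankFour.Linear

variable {K : Type*} [Group K] [Finite K] {L : Type*} [Group L] [Finite L] [IsSimpleGroup L]
  (hL : Nat.card L = 168) {ρ : K →* L} (hρ : Function.Surjective ρ) {A : Subgroup K}
  {R : Type*} [AddCommGroup R] [Finite R] [DistribMulAction L R] {j : R → K} (hj : Embeds ρ A j)

omit [Finite K] [Finite L] [IsSimpleGroup L] [Finite R] in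
/-- The action of a conjugate. -/
theorem dis_conj (k t : L) (v : R) : dis (k * t * k⁻¹) v = k • dis t (k⁻¹ • v) := by
  rw [dis_apply, dis_apply, smul_sub, smul_inv_smul, mul_smul, mul_smul]

omit [Finite K] [Finite L] [IsSimpleGroup L] [Finite R] in
/-- The square of a conjugate of a lift. -/
theorem Embeds.conj_sq (hj : Embeds ρ A j) (k z : K) {n : R} (hn : j n = z * z) :
    j (ρ k • n) = k * z * k⁻¹ * (k * z * k⁻¹) := by
  rw [hj.smul, hn]; group

omit [Finite L] [IsSimpleGroup L] [Finite R] in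
theorem exists_lift (hker : ρ.ker ≤ A) (hj : Embeds ρ A j) {x y : K} (h : ρ x = ρ y) :
    ∃ v, j v * y = x := by
  obtain ⟨v, hv⟩ := hj.surj (x * y⁻¹) (hker (by rw [MonoidHom.mem_ker, map_mul, map_inv, h, mul_inv_cancel]))
  exact ⟨v, by rw [hv, inv_mul_cancel_right]⟩

include hL hρ hj

/-- A homocyclic module of exponent four and rank three gives a section of rank five. -/
theorem no_homocyclic (hA : ρ.ker = A) (h4 : ∀ a : R, a + a + (a + a) = 0) (hR : Nat.card R = 64)
    (h8 : Nat.card (tor R) = 8) (hnt : ∃ (g : L) (v : R), g • v ≠ v) :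
    ¬ Cfsg.SectionalPRankLE 2 4 K := by
  letI : Module (ZMod 4) R := AddCommGroup.zmodModule fun v => by
    rw [show (4 : ℕ) • v = v + v + (v + v) by simp [succ_nsmul]; abel, h4]
  have htop : (⊤ : AddSubgroup R) ⊓ tor R = tor R := top_inf_eq _
  have hdiv : ∀ a ∈ (⊤ : AddSubgroup R), a + a = 0 → ∃ y ∈ (⊤ : AddSubgroup R), y + y = a := by
    intro a _ ha
    have hle : (nsmulAddMonoidHom 2 : R →+ R).range ≤ tor R := by
      rintro _ ⟨v, rfl⟩
      rw [mem_tor, nsmulAddMonoidHom_apply, two_nsmul]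
      exact h4 v
    have hc := card_ker_two (R := R)
    rw [show Nat.card (nsmulAddMonoidHom 2 : R →+ R).ker = 8 from h8, hR] at hc
    have heq := AddSubgroup.eq_of_le_of_card_ge hle (by rw [h8]; omega)
    obtain ⟨y, hy⟩ := heq.ge (mem_tor.2 ha)
    exact ⟨y, trivial, by rw [← hy, nsmulAddMonoidHom_apply, two_nsmul]⟩
  obtain ⟨s, hs⟩ := exists_order_four hL
  obtain ⟨x, c, e, k₁, k₂, -, hinj, hmem, hsurj, he, ht, hk₁, hk₂, hg, hprod, h100, h010, h001, hd3⟩ :=
    halves hL ⊤ (fun _ _ _ => trivial) h4 (by rw [htop, h8]) (fun _ _ => trivial) (fun _ => trivial) hnt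
      hdiv hs
  set Dx := dis s x with hDx
  set D2x := dis s Dx with hD2x
  have hdec : ∀ a b c : ZMod 2, e (a, b, c) =
      a.val • (x + x) + b.val • (Dx + Dx) + c.val • (D2x + D2x) := fun a b c => by
    rw [← h100, ← h010, ← h001, ← map_nsmul, ← map_nsmul, ← map_nsmul, ← map_add, ← map_add]
    exact congrArg e (by revert a b c; decide)
  obtain ⟨φ, hφ⟩ := basis_four hR x Dx D2x fun a b c h => by
    rw [← hdec] at h
    have h' := hinj (h.trans (map_zero e).symm)
    simpa using h'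
  -- the determinant of an element of order four is one
  have hc : c = 1 := by
    have h := detHom_eq φ s !![1, 0, 0; 1, 1, 2; 0, 1, 1 + 2 * (c.val : ZMod 4)] fun p => by
      have h2 : (2 : ZMod 4) • Dx = Dx + Dx := two_smul _ _
      have hD : dis s D2x = (2 : ZMod 4) • Dx + (2 * (c.val : ZMod 4)) • D2x := by
        rw [hd3, hdec, h2, mul_comm, mul_smul, two_smul, Nat.cast_smul_eq_nsmul]
        simp [ZMod.val_one]
      have hsm : ∀ (r : ZMod 4) (v : R), s • (r • v) = r • (s • v) := fun r v => by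
        rw [← ZMod.natCast_zmod_val r, Nat.cast_smul_eq_nsmul, Nat.cast_smul_eq_nsmul, smul_comm]
      rw [hφ, hφ]
      simp only [Matrix.mulVec, dotProduct, Fin.sum_univ_three, smul_add, hsm, smul_eq_add s x,
        smul_eq_add s Dx, smul_eq_add s D2x, ← hDx, ← hD2x, hD]
      simp
      module
    have h1 : detHom L R s = 1 := eq_one_of_comm hL (fun a b => mul_comm a b) _ _
    rw [h1, Units.val_one, Matrix.det_fin_three] at h
    simp at h
    rcases (show ∀ c : ZMod 2, c = 0 ∨ c = 1 by decide) c with rfl | rfl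
    · exact absurd h (by decide)
    · rfl
  subst hc
  set u := e (0, 0, 1) with hu
  set N : AddSubgroup R := AddSubgroup.zmultiples u with hN
  have huu : u + u = 0 := (hmem _).2
  have hNmem : ∀ r : ZMod 2, e (0, 0, r) ∈ N := fun r => by
    rcases (show ∀ c : ZMod 2, c = 0 ∨ c = 1 by decide) r with rfl | rfl
    · rw [show ((0, 0, 0) : ZMod 2 × ZMod 2 × ZMod 2) = 0 from rfl, map_zero]; exact zero_mem N
    · exact AddSubgroup.mem_zmultiples u
  have hNcases : ∀ n ∈ N, n = 0 ∨ n = u := by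
    intro n hn
    obtain ⟨i, rfl⟩ := AddSubgroup.mem_zmultiples_iff.1 hn
    rcases Int.even_or_odd i with ⟨l, rfl⟩ | ⟨l, rfl⟩
    · left; rw [add_zsmul, ← zsmul_add, huu, zsmul_zero]
    · right
      rw [add_zsmul, two_mul, add_zsmul, ← zsmul_add, huu, zsmul_zero, zero_add, one_zsmul]
  set U : AddSubgroup R := N.comap (nsmulAddMonoidHom 2) with hU
  have hUmem : ∀ v, v ∈ U ↔ v + v ∈ N := fun v => by
    rw [hU, AddSubgroup.mem_comap, nsmulAddMonoidHom_apply, two_nsmul]
  have hkN : ∀ k : L, k • u = u → ∀ n ∈ N, k • n ∈ N := fun k hk n hn => by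
    rcases hNcases n hn with rfl | rfl
    · rw [smul_zero]; exact hn
    · rw [hk]; exact hn
  set t := s * s with htdef
  have hTdef : ∀ v : R, dis t v = dis s (dis s v) + (dis s v + dis s v) := fun v => dis_dis' s v
  have hTω : ∀ ω, ω + ω = 0 → dis t ω ∈ N := fun ω hω => by
    obtain ⟨⟨a, b, c⟩, rfl⟩ := hsurj ω trivial hω
    rw [ht]; exact hNmem a
  have hD3x : dis s D2x = (Dx + Dx) + (D2x + D2x) := by
    rw [hd3, hdec]; simp [ZMod.val_one]
  have hTDx : dis t Dx = Dx + Dx := by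
    rw [hTdef, ← hD2x, hD3x, add_assoc, h4, add_zero]
  have hTD2x : dis t D2x = u := by
    rw [hTdef, hD3x, map_add, map_add, map_add, ← hD2x, hD3x, h001, show Dx + Dx + (D2x + D2x) + (Dx + Dx + (D2x + D2x))
      = (Dx + Dx + (Dx + Dx)) + (D2x + D2x + (D2x + D2x)) by abel, h4, h4, add_zero]
    simp only [add_zero]
  -- displacements of the subgroup over the common centre
  have hUt : ∀ v ∈ U, dis t v ∈ N := fun v hv => by
    rcases hNcases _ ((hUmem v).1 hv) with h | h
    · exact hTω v h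
    · have hω : v - D2x + (v - D2x) = 0 := by
        rw [show v - D2x + (v - D2x) = v + v - (D2x + D2x) by abel, h, h001, sub_self]
      rw [← sub_add_cancel v D2x, map_add]
      exact add_mem (hTω _ hω) (hTD2x ▸ AddSubgroup.mem_zmultiples u)
  have hsumt : ∀ v, dis t (v + v) = 0 → v + t • v ∈ N := fun v hv => by
    obtain ⟨⟨a, b, c⟩, hp⟩ := hsurj (v + v) trivial (h4 v)
    have ha : a = 0 := by
      rw [← hp, ht] at hv
      simpa using hinj (hv.trans (map_zero e).symm)
    subst ha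
    set w := v - (b.val • Dx + c.val • D2x) with hw
    have hw0 : w + w = 0 := by
      rw [hw, show v - (b.val • Dx + c.val • D2x) + (v - (b.val • Dx + c.val • D2x)) =
        v + v - (b.val • (Dx + Dx) + c.val • (D2x + D2x)) by rw [nsmul_add, nsmul_add]; abel,
        ← hp, hdec]
      simp
    have hv' : v = w + (b.val • Dx + c.val • D2x) := by rw [hw]; abel
    have hkey : v + t • v = dis t w + c.val • u + (b.val • (Dx + Dx) + b.val • (Dx + Dx) +
        c.val • (D2x + D2x)) + (w + w) := by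
      rw [smul_eq_add t v, hv', map_add, map_add, map_nsmul, map_nsmul, hTDx, hTD2x, nsmul_add, nsmul_add]
      abel
    rw [hkey, hw0, add_zero, ← nsmul_add, h4, nsmul_zero, zero_add, ← h001]
    exact add_mem (add_mem (hTω w hw0) (nsmul_mem (AddSubgroup.mem_zmultiples u) _))
      (nsmul_mem (AddSubgroup.mem_zmultiples u) _)
  have hku₁ : k₁ • u = u := hk₁ 0 0 1
  have hku₂ : k₂ • u = u := by rw [hu, hk₂, add_zero]
  have hUk : ∀ k : L, k • u = u → ∀ v ∈ U, dis (k * t * k⁻¹) v ∈ N := fun k hk v hv => by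
    rw [dis_conj]
    refine hkN k hk _ (hUt _ ((hUmem _).2 ?_))
    rw [← smul_add]
    exact hkN k⁻¹ (by rw [inv_smul_eq_iff, hk]) _ ((hUmem v).1 hv)
  have hsumk : ∀ k : L, k • u = u → ∀ v, dis (k * t * k⁻¹) (v + v) = 0 → v + (k * t * k⁻¹) • v ∈ N := by
    intro k hk v hv
    rw [dis_conj, smul_eq_zero_iff_eq, smul_add] at hv
    have h := hkN k hk _ (hsumt _ hv)
    rwa [smul_add, smul_inv_smul, ← mul_smul, ← mul_smul] at h
  -- a lift of the involution
  obtain ⟨sl, rfl⟩ := hρ s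
  have hker' : ρ.ker ≤ A := hA.le
  obtain ⟨r, hr⟩ := hj.surj (sl ^ 4) (hker' (by
    rw [MonoidHom.mem_ker, map_pow, ← hs, pow_orderOf_eq_one]))
  have hrs : dis (ρ sl) r = 0 := dis_eq_zero.2 (hj.smul_pow sl 4 hr)
  have hr2 : r + r ∈ N := by
    obtain ⟨⟨a, b, c⟩, hp⟩ := hsurj (r + r) trivial (h4 r)
    have h := he a b c
    rw [hp, map_add, hrs, add_zero] at h
    have h' := hinj ((map_zero e).trans h)
    simp only [Prod.mk.injEq, Prod.ext_iff, Prod.fst_zero, Prod.snd_zero] at h'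
    obtain ⟨-, rfl, rfl⟩ := h'
    rw [← hp]; exact hNmem c
  obtain ⟨y, hy⟩ : ∃ y, y + t • y + r ∈ N := by
    rcases hNcases _ hr2 with h | h
    · refine ⟨0, ?_⟩
      rw [smul_zero, add_zero, zero_add]
      obtain ⟨⟨a, b, c⟩, rfl⟩ := hsurj r trivial h
      rw [he] at hrs
      have h' := hinj (hrs.trans (map_zero e).symm)
      simp only [Prod.ext_iff, Prod.fst_zero, Prod.snd_zero] at h'
      obtain ⟨-, rfl, rfl⟩ := h'
      exact hNmem c
    · refine ⟨x, ?_⟩
      set r₁ := x + t • x + r with hr₁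
      have hr1' : r₁ = (x + x) + dis t x + r := by rw [hr₁, smul_eq_add t x]; abel
      have h10 : r₁ + r₁ = 0 := by
        rw [hr1', show x + x + dis t x + r + (x + x + dis t x + r) =
          (x + x + (x + x)) + (dis t x + dis t x) + (r + r) by abel, h4, zero_add, h, ← map_add, ← h100,
          ht, ← hu, huu]
      have h1D : dis (ρ sl) r₁ = 0 := by
        rw [hr1', map_add, map_add, map_add, hrs, add_zero, dis_comm (Commute.mul_right (Commute.refl _)
          (Commute.refl _)), hTDx, h4]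
      obtain ⟨⟨a, b, c⟩, hp⟩ := hsurj r₁ trivial h10
      rw [← hp, he] at h1D
      have h' := hinj (h1D.trans (map_zero e).symm)
      simp only [Prod.ext_iff, Prod.fst_zero, Prod.snd_zero] at h'
      obtain ⟨-, rfl, rfl⟩ := h'
      rw [← hp]; exact hNmem c
  set z := j y * (sl * sl) with hz
  have hρj : ∀ v, ρ (j v) = 1 := fun v => MonoidHom.mem_ker.1 (hA ▸ hj.mem v)
  have hρz : ρ z = t := by rw [hz, map_mul, map_mul, hρj, one_mul, htdef]
  have hzz : j (y + t • y + r) = z * z := by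
    rw [hz, hj.coset_sq y (sl * sl) (hr.trans (by simp [pow_succ, mul_assoc] : sl ^ 4 = sl * sl * (sl * sl))), map_mul, htdef]
  obtain ⟨l₁, hl₁⟩ := hρ k₁
  obtain ⟨l₂, hl₂⟩ := hρ k₂
  set n := y + t • y + r with hn
  set f := l₁ * z * l₁⁻¹ with hf
  set g := l₂ * z * l₂⁻¹ with hg'
  have hρf : ρ f = k₁ * t * k₁⁻¹ := by rw [hf, map_mul, map_mul, map_inv, hρz, hl₁]
  have hρg : ρ g = k₂ * t * k₂⁻¹ := by rw [hg', map_mul, map_mul, map_inv, hρz, hl₂]
  have hnf : ρ l₁ • n ∈ N := hkN _ (hl₁ ▸ hku₁) n hy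
  have hng : ρ l₂ • n ∈ N := hkN _ (hl₂ ▸ hku₂) n hy
  obtain ⟨v, hv⟩ := exists_lift hker' hj (x := z * f) (y := g) (by
    rw [map_mul, hρz, hρf, hρg, hprod])
  have hU8 : 8 * Nat.card N ≤ Nat.card U := by
    set d := (nsmulAddMonoidHom 2 : R →+ R).comp U.subtype
    have hdk := d.ker.card_mul_index
    have hdr : d.range = N := by
      ext a
      constructor
      · rintro ⟨⟨w, hw⟩, rfl⟩
        exact AddSubgroup.mem_comap.1 hw
      · intro ha
        rcases hNcases a ha with rfl | rfl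
        · exact zero_mem _
        · refine ⟨⟨D2x, (hUmem D2x).2 (h001 ▸ AddSubgroup.mem_zmultiples u)⟩, ?_⟩
          show (2 : ℕ) • D2x = u
          rw [two_nsmul, h001]
    have hdkc : Nat.card d.ker = 8 := by
      rw [← h8]
      refine Nat.card_congr
        { toFun := fun a => ⟨a.1.1, a.2⟩
          invFun := fun a => ⟨⟨a.1, (hUmem a.1).2 ((mem_tor.1 a.2).symm ▸ zero_mem N)⟩, a.2⟩
          left_inv := fun a => rfl
          right_inv := fun a => rfl }
    rw [AddSubgroup.index_ker, hdkc, hdr] at hdk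
    exact hdk.le
  have hNU : N ≤ U := fun a ha => (hUmem a).2 (by
    rcases hNcases a ha with rfl | rfl
    · rw [add_zero]; exact ha
    · rw [huu]; exact zero_mem N)
  have h2U : ∀ a ∈ U, a + a ∈ N := fun a ha => (hUmem a).1 ha
  have ht1 : t ≠ 1 := fun h => by
    have := orderOf_sq hs
    rw [← htdef, h, orderOf_one] at this
    exact absurd this (by norm_num)
  have htf : t ≠ k₁ * t * k₁⁻¹ := fun h => by
    rw [← h] at hprod
    have h' : k₂ * t * k₂⁻¹ = 1 := hprod.trans (by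
      rw [htdef, show ρ sl * ρ sl * (ρ sl * ρ sl) = ρ sl ^ 4 by simp [pow_succ, mul_assoc], ← hs,
        pow_orderOf_eq_one])
    exact ht1 (conj_eq_one_iff.1 h')
  have hUe : ∀ a ∈ U, dis t a ∈ N := hUt
  by_cases hcase : dis (k₂ * t * k₂⁻¹) (v + v) = 0
  · refine pair_criterion hj hA.ge hNU hU8 h2U (e := z) (f := f) (by rw [hρz]; exact ht1)
      (by rw [hρf]; exact fun h => ht1 (conj_eq_one_iff.1 h)) (by rw [hρz, hρf]; exact htf)
      (ne := n) (nf := ρ l₁ • n) (ng := v + (k₂ * t * k₂⁻¹) • v + ρ l₂ • n) hy hnf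
      (add_mem (hsumk k₂ hku₂ v hcase) hng) hzz (hj.conj_sq l₁ z hzz) ?_
      (by rw [hρz]; exact hUe) (by rw [hρf]; exact hUk k₁ hku₁)
    rw [← hv, hj.coset_sq v g (hj.conj_sq l₂ z hzz), hρg]
  · set v' := Dx + v with hv'
    have hcase' : dis (k₂ * t * k₂⁻¹) (v' + v') = 0 := by
      rw [hv', show Dx + v + (Dx + v) = Dx + Dx + (v + v) by abel, map_add, ← h010, hg]
      obtain ⟨⟨a, b, c⟩, hp⟩ := hsurj (v + v) trivial (h4 v)
      rw [← hp, hg] at hcase ⊢
      rw [← map_add]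
      rcases (show ∀ r : ZMod 2, r = 0 ∨ r = 1 by decide) (a + b) with h | h
      · exact absurd (by rw [h]; exact map_zero e) hcase
      · rw [h]; exact map_zero e
    refine pair_criterion hj hA.ge hNU hU8 h2U (e := j Dx * z) (f := f)
      (by rw [map_mul, hρj, one_mul, hρz]; exact ht1)
      (by rw [hρf]; exact fun h => ht1 (conj_eq_one_iff.1 h))
      (by rw [map_mul, hρj, one_mul, hρz, hρf]; exact htf)
      (ne := Dx + t • Dx + n) (nf := ρ l₁ • n) (ng := v' + (k₂ * t * k₂⁻¹) • v' + ρ l₂ • n)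
      (add_mem (hsumt Dx (by rw [← h010, ht]; exact map_zero e)) hy) hnf
      (add_mem (hsumk k₂ hku₂ v' hcase') hng) ?_ (hj.conj_sq l₁ z hzz) ?_
      (by rw [map_mul, hρj, one_mul, hρz]; exact hUe) (by rw [hρf]; exact hUk k₁ hku₁)
    · rw [hj.coset_sq Dx z hzz, hρz]
    · rw [show j Dx * z * f = j v' * g by rw [mul_assoc, ← hv, hv', hj.add, mul_assoc],
        hj.coset_sq v' g (hj.conj_sq l₂ z hzz), hρg]

/-- A homocyclic hyperplane with no fixed involution outside it gives a section of rank five. -/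
theorem no_hyperplane (hA : ρ.ker = A) (h4 : ∀ a : R, a + a + (a + a) = 0)
    (h16 : Nat.card (tor R) = 16) (C : AddSubgroup R) (hCi : ∀ (g : L), ∀ c ∈ C, g • c ∈ C)
    (hdC : ∀ (g : L) (v : R), dis g v ∈ C) (h2C : ∀ v : R, v + v ∈ C)
    (h8 : Nat.card (C ⊓ tor R : AddSubgroup R) = 8)
    (hdiv : ∀ a ∈ C, a + a = 0 → ∃ y ∈ C, y + y = a)
    (hno : ∀ a : R, a + a = 0 → (∀ g : L, g • a = a) → a ∈ C)
    (hnt : ∃ (g : L) (v : R), g • v ≠ v) :
    ¬ Cfsg.SectionalPRankLE 2 4 K := by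
  obtain ⟨s, hs⟩ := exists_order_four hL
  obtain ⟨x, c, e, -, -, -, hinj, hmem, hsurj, he, ht, -, -, -, -, h100, h010, h001, hd3⟩ :=
    halves hL C hCi h4 h8 hdC h2C hnt hdiv hs
  set t := s * s with htdef
  have hTdef : ∀ v : R, dis t v = dis s (dis s v) + (dis s v + dis s v) := fun v => dis_dis' s v
  set Dx := dis s x with hDx
  set D2x := dis s Dx with hD2x
  -- the involutions as a module
  letI := subAct (tor R) (tor_inv (L := L))
  set M' : AddSubgroup (tor R) := C.comap (tor R).subtype with hM'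
  have h2T : ∀ a : tor R, a + a = 0 := fun a => Subtype.ext (mem_tor.1 a.2)
  have hM'8 : Nat.card M' = 8 := by
    rw [← h8]
    exact Nat.card_congr
      { toFun := fun a => ⟨a.1.1, a.2, a.1.2⟩
        invFun := fun a => ⟨⟨a.1, a.2.2⟩, a.2.1⟩
        left_inv := fun a => rfl
        right_inv := fun a => rfl }
  have hTnt : ∃ (g : L) (a : tor R), g • a ≠ a := by
    refine ⟨s, ⟨e (0, 1, 0), mem_tor.2 (hmem _).2⟩, fun h => ?_⟩
    have h' : dis s (e (0, 1, 0)) = 0 := dis_eq_zero.2 (congrArg Subtype.val h)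
    rw [he] at h'
    exact absurd (hinj (h'.trans (map_zero e).symm)) (by decide)
  have hblock : ∀ a, a + a = 0 → a ∉ C → dis s (dis s (dis s a)) ≠ 0 := fun a ha haC h =>
    block_of_invariant hL h2T h16 hTnt hM'8 (fun g c hc => hCi g c.1 hc)
      (fun b hb => hno b.1 (mem_tor.1 b.2) fun g => congrArg Subtype.val (hb g))
      hs (w := ⟨a, mem_tor.2 ha⟩) haC (Subtype.ext h)
  set U : AddSubgroup R := ((dis t : R →+ R).comp (nsmulAddMonoidHom 2)).ker with hU
  have hUmem : ∀ v, v ∈ U ↔ dis t (v + v) = 0 := fun v => by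
    rw [hU, AddMonoidHom.mem_ker, AddMonoidHom.comp_apply, nsmulAddMonoidHom_apply, two_nsmul]
  have htwo : ∀ b c, e (0, b, c) ∈ twice U := fun b c => by
    have hdec : e (0, b, c) = (b.val • Dx + c.val • D2x) + (b.val • Dx + c.val • D2x) := by
      rw [show b.val • Dx + c.val • D2x + (b.val • Dx + c.val • D2x) = b.val • (Dx + Dx) +
        c.val • (D2x + D2x) by rw [nsmul_add, nsmul_add]; abel, ← h010, ← h001, ← map_nsmul, ← map_nsmul,
        ← map_add]
      exact congrArg e (by revert b c; decide)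
    refine mem_twice.2 ⟨_, (hUmem _).2 ?_, hdec.symm⟩
    rw [← hdec, ht]
    exact map_zero e
  have hD3x : dis s D2x = e (0, 1, c) := hd3
  have hTω : ∀ ω, ω + ω = 0 → dis t ω ∈ twice U := fun ω hω => by
    have hD : dis s ω + dis s ω = 0 := by rw [← map_add, hω, map_zero]
    obtain ⟨⟨a, b, d⟩, hp⟩ := hsurj (dis s ω) (hdC s ω) hD
    rw [hTdef, hD, add_zero, ← hp, he]
    exact htwo a b
  have hUt : ∀ v ∈ U, dis t v ∈ twice U := fun v hv => by
    obtain ⟨⟨a, b, d⟩, hp⟩ := hsurj (v + v) (h2C v) (h4 v)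
    have ha : a = 0 := by
      have h := (hUmem v).1 hv
      rw [← hp, ht] at h
      simpa using hinj (h.trans (map_zero e).symm)
    subst ha
    have hw0 : v - (b.val • Dx + d.val • D2x) + (v - (b.val • Dx + d.val • D2x)) = 0 := by
      rw [show v - (b.val • Dx + d.val • D2x) + (v - (b.val • Dx + d.val • D2x)) =
        v + v - (b.val • (Dx + Dx) + d.val • (D2x + D2x)) by rw [nsmul_add, nsmul_add]; abel,
        ← hp, ← h010, ← h001, ← map_nsmul, ← map_nsmul, ← map_add, sub_eq_zero]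
      exact congrArg e ((show ∀ b d : ZMod 2, ((0 : ZMod 2), b, d) =
        b.val • ((0 : ZMod 2), (1 : ZMod 2), (0 : ZMod 2)) + d.val • ((0 : ZMod 2), (0 : ZMod 2), (1 : ZMod 2))
        by decide) b d)
    rw [← sub_add_cancel v (b.val • Dx + d.val • D2x), map_add, map_add, map_nsmul, map_nsmul]
    have h1 : dis t Dx ∈ twice U := by
      rw [hTdef, ← hD2x, hD3x, ← h001, ← map_add]
      exact htwo _ _
    have h2 : dis t D2x ∈ twice U := by
      rw [hTdef, hD3x, he, ← map_add, ← map_add]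
      exact htwo _ _
    exact add_mem (hTω _ hw0) (add_mem (nsmul_mem h1 _) (nsmul_mem h2 _))
  obtain ⟨sl, rfl⟩ := hρ s
  obtain ⟨r, hr⟩ := hj.surj (sl ^ 4) (hA ▸ (by
    rw [MonoidHom.mem_ker, map_pow, ← hs, pow_orderOf_eq_one] : sl ^ 4 ∈ ρ.ker))
  have hrs : dis (ρ sl) r = 0 := dis_eq_zero.2 (hj.smul_pow sl 4 hr)
  obtain ⟨y, hy⟩ : ∃ y, (y + t • y + r) + (y + t • y + r) = 0 := by
    obtain ⟨⟨a, b, d⟩, hp⟩ := hsurj (r + r) (h2C r) (h4 r)
    have h := he a b d
    rw [hp, map_add, hrs, add_zero] at h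
    have h' := hinj ((map_zero e).trans h)
    simp only [Prod.mk.injEq, Prod.ext_iff, Prod.fst_zero, Prod.snd_zero] at h'
    obtain ⟨-, rfl, rfl⟩ := h'
    refine ⟨d.val • x, ?_⟩
    rw [smul_eq_add t, map_nsmul, show d.val • x + (d.val • dis t x + d.val • x) + r +
      (d.val • x + (d.val • dis t x + d.val • x) + r) =
      d.val • (x + x + (x + x)) + d.val • (dis t x + dis t x) + (r + r) by
        simp only [nsmul_add]; abel, h4, nsmul_zero, zero_add, ← map_add, ← hp, ← h100, ht, ← map_nsmul,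
      ← map_add]
    exact (congrArg e ((show ∀ d : ZMod 2, d.val • ((0 : ZMod 2), (0 : ZMod 2), (1 : ZMod 2)) +
      ((0 : ZMod 2), (0 : ZMod 2), d) = 0 by decide) d)).trans (map_zero e)
  set z := j y * (sl * sl) with hz
  have hρz : ρ z = t := by
    rw [hz, map_mul, map_mul, MonoidHom.mem_ker.1 (hA ▸ hj.mem y : j y ∈ ρ.ker), one_mul, htdef]
  have hzz : j (y + t • y + r) = z * z := by
    rw [hz, hj.coset_sq y (sl * sl) (hr.trans (by simp [pow_succ, mul_assoc] : sl ^ 4 = sl * sl * (sl * sl))), map_mul, htdef]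
  have hfix : dis t (y + t • y + r) = 0 := by
    rw [← hρz, dis_eq_zero]
    refine hj.smul_pow z 2 ?_
    rw [← hρz] at hzz
    rw [hzz, pow_two]
  set n := y + t • y + r with hn
  have hnC : n ∈ C := by
    by_contra h
    refine hblock n hy h ?_
    have h' : dis (ρ sl) (dis (ρ sl) n) = 0 := by
      have h'' := hTdef n
      rw [hfix, ← map_add, hy, map_zero, add_zero] at h''
      exact h''.symm
    rw [h', map_zero]
  obtain ⟨⟨a, b, d⟩, hp⟩ := hsurj n hnC hy
  have ha : a = 0 := by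
    rw [← hp, ht] at hfix
    simpa using hinj (hfix.trans (map_zero e).symm)
  subst ha
  refine involution_criterion hj (fun a ha => (hUmem a).2 (by rw [ha, map_zero])) h16 (z := z)
    (fun h => ?_) (n := n) (hp ▸ htwo b d) hzz (by rw [hρz]; exact hUt)
  rw [← hA, MonoidHom.mem_ker, hρz] at h
  have := orderOf_sq hs
  rw [← htdef, h, orderOf_one] at this
  exact absurd this (by norm_num)

/-- Sixteen involutions and one block on the Frattini quotient give a section of rank five. -/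
theorem no_block (hA : ρ.ker = A) (h4 : ∀ a : R, a + a + (a + a) = 0) (h16 : Nat.card (tor R) = 16)
    {s : L} (hs : orderOf s = 4) {x : R}
    (hx : dis s (dis s (dis s x)) ∉ twice (⊤ : AddSubgroup R))
    (hω : ∀ a : R, a + a = 0 → dis s a ∈ twice (⊤ : AddSubgroup R)) :
    ¬ Cfsg.SectionalPRankLE 2 4 K := by
  set Z : AddSubgroup R := twice ⊤ with hZ
  have hZinv : ∀ (g : L), ∀ c ∈ Z, g • c ∈ Z := fun g c hc => by
    obtain ⟨v, -, rfl⟩ := mem_twice.1 hc
    exact mem_twice.2 ⟨g • v, trivial, by rw [smul_add]⟩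
  letI := quotAct Z hZinv
  set m := QuotientAddGroup.mk' Z with hm
  have hdm : ∀ (g : L) v, m (dis g v) = dis g (m v) := fun g v => map_sub m (g • v) v
  have hm0 : ∀ v, m v = 0 ↔ v ∈ Z := fun v => QuotientAddGroup.eq_zero_iff v
  have h2q : ∀ q : R ⧸ Z, q + q = 0 := fun q => by
    obtain ⟨v, rfl⟩ := QuotientAddGroup.mk_surjective q
    rw [← QuotientAddGroup.mk_add, QuotientAddGroup.eq_zero_iff]
    exact mem_twice.2 ⟨v, trivial, rfl⟩
  have hQ16 : Nat.card (R ⧸ Z) = 16 := by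
    have h1 := card_ker_two (R := R)
    have h2 := Z.card_mul_index
    rw [show Nat.card (nsmulAddMonoidHom 2 : R →+ R).ker = 16 from h16,
      show (nsmulAddMonoidHom 2 : R →+ R).range = Z from AddMonoidHom.range_eq_map _,
      ← h2, AddSubgroup.index_eq_card, mul_comm] at h1
    exact (Nat.eq_of_mul_eq_mul_left Nat.card_pos h1).symm
  have hkern := block_kernels h2q hQ16 (dis s (V := R ⧸ Z)) (dis_four h2q hs)
    (x := m x) (by rw [← hdm, ← hdm, ← hdm]; exact fun h => hx ((hm0 _).1 h))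
  set t := s * s with htdef
  have hTdef : ∀ v : R, dis t v = dis s (dis s v) + (dis s v + dis s v) := fun v => dis_dis' s v
  set D := dis s (V := R) with hD
  have hD4 : ∀ v, D (D (D (D v))) = D (D v) + D (D v) := dis_four' h4 hs
  set U : AddSubgroup R := tor R ⊔ (D.comp D).range with hU
  have hDD : ∀ v, D (D v) ∈ U := fun v => AddSubgroup.mem_sup_right ⟨v, rfl⟩
  have hTω : ∀ ω, ω + ω = 0 → dis t ω ∈ twice U := fun ω hω' => by
    have h0 : dis s (m ω) = 0 := by rw [← hdm, hm0]; exact hω ω hω'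
    obtain ⟨q, hq⟩ := hkern.1 _ h0
    obtain ⟨v, rfl⟩ := QuotientAddGroup.mk_surjective q
    rw [← QuotientAddGroup.mk'_apply, ← hm, ← hdm, ← hdm, ← hdm, ← sub_eq_zero, ← map_sub, hm0] at hq
    obtain ⟨y, -, hy⟩ := mem_twice.1 hq
    refine mem_twice.2 ⟨D (D (D v - y)), hDD _, ?_⟩
    have hω2 : D ω + D ω = 0 := by rw [← map_add, hω', map_zero]
    rw [hTdef, hω2, add_zero, show ω = D (D (D v)) - (y + y) by rw [hy]; abel]
    simp only [map_sub, map_add]
    rw [hD4]
    abel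
  have hUt : ∀ u ∈ U, dis t u ∈ twice U := fun u hu => by
    obtain ⟨ω, hω', _, ⟨v, rfl⟩, rfl⟩ := AddSubgroup.mem_sup.1 hu
    rw [map_add]
    refine add_mem (hTω ω (mem_tor.1 hω')) (mem_twice.2 ⟨D (D (v + D v)), hDD _, ?_⟩)
    rw [hTdef]
    show _ = D (D (D (D v))) + (D (D (D v)) + D (D (D v)))
    rw [hD4, map_add, map_add]
    abel
  obtain ⟨sl, rfl⟩ := hρ s
  obtain ⟨r, hr⟩ := hj.surj (sl ^ 4) (hA ▸ (by
    rw [MonoidHom.mem_ker, map_pow, ← hs, pow_orderOf_eq_one] : sl ^ 4 ∈ ρ.ker))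
  have hrs : dis (ρ sl) r = 0 := dis_eq_zero.2 (hj.smul_pow sl 4 hr)
  obtain ⟨q, hq⟩ := hkern.1 (m r) (by rw [← hdm, hrs, map_zero])
  obtain ⟨a, rfl⟩ := QuotientAddGroup.mk_surjective q
  rw [← QuotientAddGroup.mk'_apply, ← hm, ← hdm, ← hdm, ← hdm, ← sub_eq_zero, ← map_sub, hm0] at hq
  obtain ⟨y, -, hy⟩ := mem_twice.1 hq
  set sa := j a * sl with hsa
  have hρsa : ρ sa = ρ sl := by
    rw [hsa, map_mul, MonoidHom.mem_ker.1 (hA ▸ hj.mem a : j a ∈ ρ.ker), one_mul]
  have hr' : j (a + ρ sl • a + (ρ sl * ρ sl) • (a + ρ sl • a) + r) = sa ^ 4 := by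
    rw [hj.add, hj.add, hj.add, hr, hj.smul, show ρ sl * ρ sl = ρ (sl * sl) from (map_mul ρ _ _).symm,
      hj.smul, hj.add, hj.smul, hsa]
    simp only [pow_succ, pow_zero, one_mul]
    group
  set y₁ := D (D (D a)) + D a - y with hy₁
  have hn : a + ρ sl • a + (ρ sl * ρ sl) • (a + ρ sl • a) + r = y₁ + y₁ := by
    have hr0 : r = D (D (D a)) - (y + y) := by rw [hy]; abel
    have hsum : a + ρ sl • a + (ρ sl * ρ sl) • (a + ρ sl • a) =
        D (D (D a)) + (D a + D a) + ((a + a + (a + a)) + (D a + D a + (D a + D a)) +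
          (D (D a) + D (D a) + (D (D a) + D (D a)))) := by
      simp only [hD, dis_apply, mul_smul, smul_add, smul_sub]
      abel
    rw [hsum, h4, h4, h4, add_zero, add_zero, add_zero, hr0, hy₁]
    abel
  rw [hn] at hr'
  have hfix : dis (ρ sl) (y₁ + y₁) = 0 := by
    rw [← hρsa, dis_eq_zero]
    exact hj.smul_pow sa 4 hr'
  have hy₁U : y₁ ∈ U := by
    have h1 : m (D (D y₁)) = 0 := (hm0 _).2 (hω _ (by rw [← map_add]; exact hfix))
    rw [hD, hdm, hdm] at h1
    obtain ⟨q, hq⟩ := hkern.2 _ h1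
    obtain ⟨v, rfl⟩ := QuotientAddGroup.mk_surjective q
    rw [← QuotientAddGroup.mk'_apply, ← hm, ← hdm, ← hdm, ← sub_eq_zero, ← map_sub, hm0] at hq
    rw [← sub_sub_cancel (D (D v)) y₁]
    obtain ⟨w, -, hw⟩ := mem_twice.1 hq
    rw [← hw]
    exact sub_mem (hDD v) (AddSubgroup.mem_sup_left (mem_tor.2 (h4 w)))
  refine involution_criterion hj (fun a ha => AddSubgroup.mem_sup_left (mem_tor.2 ha)) h16
    (z := sa * sa) (fun h => ?_) (n := y₁ + y₁) (mem_twice.2 ⟨y₁, hy₁U, rfl⟩) ?_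
    (by rw [map_mul, hρsa]; exact hUt)
  · rw [← hA, MonoidHom.mem_ker, map_mul, hρsa] at h
    have := orderOf_sq hs
    rw [h, orderOf_one] at this
    exact absurd this (by norm_num)
  · rw [hr']; simp only [pow_succ, pow_zero, one_mul, mul_assoc]

end Cfsg.Lib.Small.SecRankFour.Linear
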