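import Cfsg.Agent.Lib.Small.SecRankFour.Linear.Transfer
import Cfsg.Agent.Lib.Small.SecRankFour.Linear.Homocyclic

/-!
# A cyclic group of order eight over an elementary group
-/

set_option autoImplicit false

namespace Cfsg.Lib.Small.SecRankFour.Linear

variable {K : Type*} [Group K] [Finite K] {L : Type*} [Group L] [Finite L] [IsSimpleGroup L]
  (hL : Nat.card L = 168) {ρ : K →* L} (hρ : Function.Surjective ρ) {A : Subgroup K}
  {R : Type*} [AddCommGroup R] [Finite R] [DistribMulAction L R] {j : R → K} (hj : Embeds ρ A j)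

include hρ hj

/-- The common part of the two cases. -/
theorem pencil_finish (hA : ρ.ker = A) {N U : AddSubgroup R} (hNU : N ≤ U)
    (hcard : 8 * Nat.card N ≤ Nat.card U) (h2 : ∀ u ∈ U, u + u ∈ N) {t k₁ k₂ : L}
    (ht : t ≠ 1) (htt : t * t = 1) (hprod : k₂ * t * k₂⁻¹ = t * (k₁ * t * k₁⁻¹))
    (hk₁ : ∀ n ∈ N, k₁ • n ∈ N) (hk₂ : ∀ n ∈ N, k₂ • n ∈ N)
    (hU₀ : ∀ u ∈ U, dis t u ∈ N) (hU₁ : ∀ u ∈ U, dis (k₁ * t * k₁⁻¹) u ∈ N)
    (K₁ : Subgroup K) (hK₁ : K₁.map ρ = ⊤)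
    (hsum : ∀ v, j v ∈ K₁ → v + (k₂ * t * k₂⁻¹) • v ∈ N)
    {z : K} (hzK : z ∈ K₁) (hρz : ρ z = t) {n : R} (hn : n ∈ N) (hzz : j n = z * z) :
    ¬ Cfsg.SectionalPRankLE 2 4 K := by
  obtain ⟨l₁, hl₁K, hl₁⟩ : k₁ ∈ K₁.map ρ := hK₁ ▸ Subgroup.mem_top _
  obtain ⟨l₂, hl₂K, hl₂⟩ : k₂ ∈ K₁.map ρ := hK₁ ▸ Subgroup.mem_top _
  set f := l₁ * z * l₁⁻¹ with hf
  set g := l₂ * z * l₂⁻¹ with hg
  have hρf : ρ f = k₁ * t * k₁⁻¹ := by rw [hf, map_mul, map_mul, map_inv, hρz, hl₁]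
  have hρg : ρ g = k₂ * t * k₂⁻¹ := by rw [hg, map_mul, map_mul, map_inv, hρz, hl₂]
  obtain ⟨v, hv⟩ := exists_lift hA.le hj (x := z * f) (y := g) (by
    rw [map_mul, hρz, hρf, hρg, hprod])
  have hvK : j v ∈ K₁ := by
    have hfK : f ∈ K₁ := mul_mem (mul_mem hl₁K hzK) (inv_mem hl₁K)
    have hgK : g ∈ K₁ := mul_mem (mul_mem hl₂K hzK) (inv_mem hl₂K)
    rw [show j v = z * f * g⁻¹ by rw [← hv, mul_inv_cancel_right]]
    exact mul_mem (mul_mem hzK hfK) (inv_mem hgK)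
  have htf : t ≠ k₁ * t * k₁⁻¹ := fun h => by
    rw [← h, htt] at hprod
    exact ht (conj_eq_one_iff.1 hprod)
  refine pair_criterion hj hA.ge hNU hcard h2 (e := z) (f := f) (by rw [hρz]; exact ht)
    (by rw [hρf]; exact fun h => ht (conj_eq_one_iff.1 h)) (by rw [hρz, hρf]; exact htf)
    (ne := n) (nf := ρ l₁ • n) (ng := v + (k₂ * t * k₂⁻¹) • v + ρ l₂ • n) hn (hl₁ ▸ hk₁ n hn)
    (add_mem (hsum v hvK) (hl₂ ▸ hk₂ n hn)) hzz (hj.conj_sq l₁ z hzz) ?_
    (by rw [hρz]; exact hU₀) (by rw [hρf]; exact hU₁)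
  rw [← hv, hj.coset_sq v g (hj.conj_sq l₂ z hzz), hρg]

include hL

/-- A cyclic group of order eight times an elementary group gives a section of rank five. -/
theorem no_cyclic (hA : ρ.ker = A) {w : R} (hw : w + w + (w + w) ≠ 0)
    (hw8 : w + w + (w + w) + (w + w + (w + w)) = 0)
    (hgen : ∀ a : R, ∃ i : ℕ, a - i • w ∈ tor R) (h16 : Nat.card (tor R) = 16)
    (hR : Nat.card R = 64) (hfix : ∀ g : L, g • (w + w) = w + w)
    (hnt : ∃ (g : L) (v : R), g • v ≠ v) : ¬ Cfsg.SectionalPRankLE 2 4 K := by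
  classical
  set τ := w + w + (w + w) with hτ
  have hτfix : ∀ g : L, g • τ = τ := fun g => by rw [hτ, smul_add, hfix]
  have hdw : ∀ g : L, dis g w ∈ tor R := fun g => mem_tor.2 (by
    rw [← map_add]; exact dis_eq_zero.2 (hfix g))
  have hdis : ∀ (g : L) (a : R), dis g a ∈ tor R := fun g a => by
    obtain ⟨i, hi⟩ := hgen a
    rw [← add_sub_cancel (i • w) a, map_add, map_nsmul]
    refine add_mem (nsmul_mem (hdw g) i) ?_
    rw [dis_apply]
    exact sub_mem (tor_inv g _ hi) hi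
  have h8R : ∀ a : R, a + a + (a + a) + (a + a + (a + a)) = 0 := fun a => by
    obtain ⟨i, hi⟩ := hgen a
    rw [← add_sub_cancel (i • w) a]
    generalize a - i • w = ω at hi
    have h := mem_tor.1 hi
    rw [show i • w + ω + (i • w + ω) + (i • w + ω + (i • w + ω)) +
      (i • w + ω + (i • w + ω) + (i • w + ω + (i • w + ω))) =
      i • (τ + τ) + (ω + ω + (ω + ω) + (ω + ω + (ω + ω))) by rw [hτ]; simp only [nsmul_add]; abel,
      hw8, nsmul_zero, h, zero_add, add_zero, add_zero]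
  have height : ∀ a : R, (8 : ℕ) • a = 0 := fun a => by
    have e : (8 : ℕ) • a = a + a + (a + a) + (a + a + (a + a)) := by simp [succ_nsmul]; abel
    rw [e, h8R]
  set Z : AddSubgroup R := AddSubgroup.zmultiples (w + w) with hZ
  have hZ4 : Nat.card Z = 4 := by
    rw [hZ, Nat.card_zmultiples]
    exact addOrderOf_eq_prime_pow (p := 2) (n := 1) (by
      rw [pow_one, two_nsmul]; exact hw) (by
      rw [show (2 : ℕ) ^ (1 + 1) = 2 + 2 from rfl, add_nsmul, two_nsmul]; exact hw8)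
  have hZtor : ∀ a ∈ Z, a + a = 0 → a ∈ AddSubgroup.zmultiples τ := by
    intro a ha h
    obtain ⟨i, rfl⟩ := AddSubgroup.mem_zmultiples_iff.1 ha
    rcases Int.even_or_odd i with ⟨l, rfl⟩ | ⟨l, rfl⟩
    · exact AddSubgroup.mem_zmultiples_iff.2 ⟨l, by rw [add_zsmul, hτ, zsmul_add]⟩
    · exfalso
      apply hw
      rw [add_zsmul, two_mul, add_zsmul, one_zsmul] at h
      rw [show l • (w + w) + l • (w + w) + (w + w) + (l • (w + w) + l • (w + w) + (w + w)) =
        l • (τ + τ) + τ by rw [hτ]; simp only [zsmul_add]; abel, hw8, zsmul_zero, zero_add] at h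
      exact h
  -- the involutions
  letI := subAct (tor R) (tor_inv (L := L))
  set τ' : tor R := ⟨τ, mem_tor.2 hw8⟩ with hτ'
  have hτ'fix : ∀ g : L, g • τ' = τ' := fun g => Subtype.ext (hτfix g)
  have hτ'0 : τ' ≠ 0 := fun h => hw (congrArg Subtype.val h)
  have h2T : ∀ a : tor R, a + a = 0 := fun a => Subtype.ext (mem_tor.1 a.2)
  have hTnt : ∃ (g : L) (a : tor R), g • a ≠ a := by
    by_contra hcon
    push Not at hcon
    obtain ⟨g, v, hv⟩ := hnt
    exact hv (dis_eq_zero_of_fixed hL (fun a b u =>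
      congrArg Subtype.val (hcon a ⟨dis b u, hdis b u⟩)) g v)
  have hinvτ : ∀ (g : L), ∀ c ∈ AddSubgroup.zmultiples τ', g • c ∈ AddSubgroup.zmultiples τ' := fun g c hc => by
    obtain ⟨i, rfl⟩ := AddSubgroup.mem_zmultiples_iff.1 hc
    rw [smul_comm g i τ', hτ'fix]; exact hc
  have hqnt := quot_nontrivial hL h2T h16 hTnt hτ'fix hinvτ
  have hq8 := quot_card h2T h16 hτ'0
  letI := quotAct (AddSubgroup.zmultiples τ') hinvτ
  set m := QuotientAddGroup.mk' (AddSubgroup.zmultiples τ') with hm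
  have h2q : ∀ q : tor R ⧸ AddSubgroup.zmultiples τ', q + q = 0 := fun q => by
    obtain ⟨v, rfl⟩ := QuotientAddGroup.mk_surjective q
    rw [← QuotientAddGroup.mk_add, h2T, QuotientAddGroup.mk_zero]
  obtain ⟨s, hs⟩ := exists_order_four hL
  obtain ⟨e, k₁, k₂, he, ht, hk₁, hk₂, hg1, hg2, hprod⟩ := pencil hL h2q hq8 hqnt hs
  obtain ⟨ωu, hωu⟩ := QuotientAddGroup.mk'_surjective (AddSubgroup.zmultiples τ') (e (0, 0, 1))
  set P : AddSubgroup R := AddSubgroup.zmultiples τ ⊔ AddSubgroup.zmultiples ωu.1 with hP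
  have hclass : ∀ (ω : tor R) (c : ZMod 2), m ω = e (0, 0, c) → ω.1 ∈ P := by
    intro ω c hω
    have hkey : m (ω - c.val • ωu) = 0 := by
      rw [map_sub, map_nsmul, hωu, hω, ← map_nsmul, ← map_sub]
      exact (congrArg e ((show ∀ c : ZMod 2, ((0 : ZMod 2), (0 : ZMod 2), c) -
        c.val • ((0 : ZMod 2), (0 : ZMod 2), (1 : ZMod 2)) = 0 by decide) c)).trans (map_zero e)
    obtain ⟨i, hi⟩ := AddSubgroup.mem_zmultiples_iff.1 ((QuotientAddGroup.eq_zero_iff _).1 hkey)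
    have h : ω.1 = i • τ + c.val • ωu.1 := by
      have h' := congrArg Subtype.val hi
      simp only [AddSubgroup.coe_zsmul, AddSubgroup.coe_sub, AddSubgroup.coe_nsmul, hτ'] at h'
      rw [h', sub_add_cancel]
    rw [h]
    exact add_mem (AddSubgroup.mem_sup_left (zsmul_mem (AddSubgroup.mem_zmultiples τ) i))
      (AddSubgroup.mem_sup_right (nsmul_mem (AddSubgroup.mem_zmultiples _) _))
  have hmd : ∀ (g : L) (ω : tor R), m (dis g ω) = dis g (m ω) := fun g ω => map_sub m (g • ω) ω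
  have hPdis : ∀ g : L, (∀ a b c, ∃ c', dis g (e (a, b, c)) = e (0, 0, c')) →
      ∀ ω ∈ tor R, dis g ω ∈ P := by
    intro g hg ω hω
    obtain ⟨⟨a, b, c⟩, hp⟩ := e.surjective (m ⟨ω, hω⟩)
    obtain ⟨c', hc'⟩ := hg a b c
    exact hclass (dis g ⟨ω, hω⟩) c' (by rw [hmd, ← hp, hc'])
  set t := s * s with htdef
  have hd₀ := hPdis t fun a b c => ⟨a, ht a b c⟩
  have hd₁ := hPdis (k₁ * t * k₁⁻¹) fun a b c => ⟨b, hg1 a b c⟩
  have hd₂ := hPdis (k₂ * t * k₂⁻¹) fun a b c => ⟨a + b, hg2 a b c⟩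
  have hkP : ∀ k : L, k • e (0, 0, 1) = e (0, 0, 1) → ∀ n ∈ P, k • n ∈ P := by
    intro k hk n hn
    obtain ⟨p, hp, q, hq, rfl⟩ := AddSubgroup.mem_sup.1 hn
    obtain ⟨i, rfl⟩ := AddSubgroup.mem_zmultiples_iff.1 hp
    obtain ⟨l, rfl⟩ := AddSubgroup.mem_zmultiples_iff.1 hq
    rw [smul_add, smul_comm k i τ, hτfix, smul_comm k l ωu.1]
    refine add_mem (AddSubgroup.mem_sup_left (zsmul_mem (AddSubgroup.mem_zmultiples τ) i))
      (zsmul_mem (hclass (k • ωu) 1 ?_) l)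
    rw [← hωu] at hk
    exact hk.trans hωu
  have hkP₁ := hkP k₁ (hk₁ 0 0 1)
  have hkP₂ := hkP k₂ (by rw [hk₂, add_zero])
  have hPtor : P ≤ tor R := sup_le (AddSubgroup.zmultiples_le.2 τ'.2) (AddSubgroup.zmultiples_le.2 ωu.2)
  have hωu2 : Nat.card (AddSubgroup.zmultiples ωu.1) ≤ 2 := by
    rw [Nat.card_zmultiples]
    exact addOrderOf_le_of_nsmul_eq_zero two_pos (by rw [two_nsmul]; exact mem_tor.1 ωu.2)
  have hcsup : ∀ B : AddSubgroup R, Nat.card (B ⊔ AddSubgroup.zmultiples ωu.1 : AddSubgroup R) ≤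
      Nat.card B * 2 := fun B => by
    refine le_trans ?_ (Nat.mul_le_mul_left _ hωu2)
    rw [← Nat.card_prod]
    refine Nat.card_le_card_of_surjective (fun p : B × AddSubgroup.zmultiples ωu.1 =>
      (⟨p.1.1 + p.2.1, add_mem (AddSubgroup.mem_sup_left p.1.2) (AddSubgroup.mem_sup_right p.2.2)⟩ :
        (B ⊔ AddSubgroup.zmultiples ωu.1 : AddSubgroup R))) fun x => ?_
    obtain ⟨p, hp, q, hq, hpq⟩ := AddSubgroup.mem_sup.1 x.2
    exact ⟨(⟨p, hp⟩, ⟨q, hq⟩), Subtype.ext hpq⟩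
  have ht1 : t ≠ 1 := fun h => by
    have := orderOf_sq hs
    rw [← htdef, h, orderOf_one] at this
    exact absurd this (by norm_num)
  have htt : t * t = 1 := by
    rw [htdef, show s * s * (s * s) = s ^ 4 by simp [pow_succ, mul_assoc], ← hs, pow_orderOf_eq_one]
  obtain ⟨sl₀, hsl₀⟩ := hρ s
  -- fixed classes of a fourth power
  have hfix4 : ∀ ω ∈ tor R, dis s ω = 0 → ω ∈ P := by
    intro ω hω h
    obtain ⟨⟨a, b, c⟩, hp⟩ := e.surjective (m ⟨ω, hω⟩)
    have h' : dis s (e (a, b, c)) = 0 := by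
      rw [hp, ← hmd, show dis s (⟨ω, hω⟩ : tor R) = 0 from Subtype.ext h, map_zero]
    rw [he, AddEquiv.map_eq_zero_iff] at h'
    simp only [Prod.mk_eq_zero] at h'
    obtain ⟨-, rfl, rfl⟩ := h'
    exact hclass _ c hp.symm
  by_cases hfc : ∃ ω ∈ tor R, ∀ g : L, dis g (w + ω) ∈ AddSubgroup.zmultiples τ
  · -- a fixed generator of order eight
    obtain ⟨ω₀, hω₀, hf⟩ := hfc
    set w' := w + ω₀ with hw'
    have hw'fix : ∀ g : L, g • w' = w' := by
      intro g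
      let φ : L →* Multiplicative R :=
        { toFun := fun k => Multiplicative.ofAdd (dis k w')
          map_one' := by simp [dis_apply]
          map_mul' := fun a b => (congrArg Multiplicative.ofAdd (by
            obtain ⟨i, hi⟩ := AddSubgroup.mem_zmultiples_iff.1 (hf b)
            rw [dis_mul, smul_eq_add b w', map_add, ← hi, dis_eq_zero.2 (by rw [smul_comm a i τ, hτfix]),
              zero_add] : dis (a * b) w' = dis a w' + dis b w')).trans (ofAdd_add _ _) }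
      exact dis_eq_zero.1 (congrArg Multiplicative.toAdd (eq_one_of_comm hL (fun a b => mul_comm a b) φ g))
    have hw'2 : w' + w' = w + w := by
      rw [hw', show w + ω₀ + (w + ω₀) = w + w + (ω₀ + ω₀) by abel, mem_tor.1 hω₀, add_zero]
    have hgen' : ∀ a : R, ∃ (i : ℕ) (ω : R), ω ∈ tor R ∧ a = i • w' + ω := fun a => by
      obtain ⟨i, hi⟩ := hgen a
      refine ⟨i, a - i • w - i • ω₀, sub_mem hi (nsmul_mem hω₀ i), ?_⟩
      rw [hw', nsmul_add]; abel
    set N : AddSubgroup R := Z ⊔ AddSubgroup.zmultiples ωu.1 with hN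
    have hPN : P ≤ N := sup_le_sup_right (AddSubgroup.zmultiples_le.2
      (add_mem (AddSubgroup.mem_zmultiples _) (AddSubgroup.mem_zmultiples _))) _
    have h2w : w + w ∈ N := AddSubgroup.mem_sup_left (AddSubgroup.mem_zmultiples _)
    have h2 : ∀ a : R, a + a ∈ N := fun a => by
      obtain ⟨i, ω, hω, rfl⟩ := hgen' a
      rw [show i • w' + ω + (i • w' + ω) = i • (w' + w') + (ω + ω) by
          simp only [hw', nsmul_add]; abel,
        mem_tor.1 hω, add_zero, hw'2]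
      exact nsmul_mem h2w i
    have hdN : ∀ g : L, (∀ ω ∈ tor R, dis g ω ∈ P) → ∀ a, dis g a ∈ N := fun g hg a => by
      obtain ⟨i, ω, hω, rfl⟩ := hgen' a
      rw [map_add, map_nsmul, dis_eq_zero.2 (hw'fix g), nsmul_zero, zero_add]
      exact hPN (hg ω hω)
    have hkN : ∀ k : L, (∀ n ∈ P, k • n ∈ P) → ∀ n ∈ N, k • n ∈ N := by
      intro k hk n hn
      obtain ⟨p, hp, q, hq, rfl⟩ := AddSubgroup.mem_sup.1 hn
      obtain ⟨i, rfl⟩ := AddSubgroup.mem_zmultiples_iff.1 hp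
      rw [smul_add, smul_comm k i (w + w), hfix]
      exact add_mem (zsmul_mem h2w i) (hPN (hk q (AddSubgroup.mem_sup_right hq)))
    obtain ⟨r, hr⟩ := hj.surj (sl₀ ^ 4) (hA ▸ (by
      rw [MonoidHom.mem_ker, map_pow, hsl₀, ← hs, pow_orderOf_eq_one] : sl₀ ^ 4 ∈ ρ.ker))
    have hrs : dis s r = 0 := dis_eq_zero.2 (hsl₀ ▸ hj.smul_pow sl₀ 4 hr)
    have hrN : r ∈ N := by
      obtain ⟨i, ω, hω, hrw⟩ := hgen' r
      have hω0 : dis s ω = 0 := by
        rwa [hrw, map_add, map_nsmul, dis_eq_zero.2 (hw'fix s), nsmul_zero, zero_add] at hrs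
      have hi : Even i := by
        obtain ⟨c, hc⟩ := isConj_iff.1 (Order168.four_conj hL hs (t := s⁻¹) (by rw [orderOf_inv, hs]))
        obtain ⟨cl, hcl⟩ := hρ c
        obtain ⟨p, hp⟩ := exists_lift hA.le hj (x := cl * sl₀ * cl⁻¹) (y := sl₀⁻¹) (by
          rw [map_mul, map_mul, map_inv, map_inv, hcl, hsl₀, hc])
        have hfour : c • r = p + s⁻¹ • p + (s⁻¹ * s⁻¹) • (p + s⁻¹ • p) + -r := by
          apply hj.inj
          rw [← hcl, ← hsl₀, ← map_inv, ← map_mul, hj.smul, hj.add, hj.add, hj.add, hj.neg, hj.smul,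
            hj.smul, hj.add, hj.smul, hr,
            show cl * sl₀ ^ 4 * cl⁻¹ = (cl * sl₀ * cl⁻¹) ^ 4 by rw [conj_pow], ← hp]
          simp only [pow_succ, pow_zero, one_mul, mul_inv_rev, inv_inv]
          group
        obtain ⟨l, π, hπ, hpw⟩ := hgen' p
        have hg4 : ∀ g : L, ∃ π' ∈ tor R, g • (p : R) = l • w' + π' := fun g =>
          ⟨g • π, tor_inv g π hπ, by rw [hpw, smul_add, smul_comm g l w', hw'fix]⟩
        obtain ⟨π₁, hπ₁, h₁⟩ := hg4 s⁻¹
        obtain ⟨π₂, hπ₂, h₂⟩ := hg4 (s⁻¹ * s⁻¹)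
        obtain ⟨π₃, hπ₃, h₃⟩ := hg4 (s⁻¹ * s⁻¹ * s⁻¹)
        rw [smul_add (s⁻¹ * s⁻¹), ← mul_smul, h₁, h₂, h₃, hpw, hrw, smul_add c,
          smul_comm c i w', hw'fix] at hfour
        have hcω := tor_inv c ω hω
        have h' := congrArg (fun v : R => v + v + (i • w' + i • w')) hfour
        have h0 : i • (w' + w') + i • (w' + w') = 0 := by
          have e : i • w' + c • ω + (i • w' + c • ω) + (i • w' + i • w') =
              i • (w' + w') + i • (w' + w') + (c • ω + c • ω) := by simp only [nsmul_add]; abel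
          have e' : l • w' + π + (l • w' + π₁) + (l • w' + π₂ + (l • w' + π₃)) + -(i • w' + ω) +
              (l • w' + π + (l • w' + π₁) + (l • w' + π₂ + (l • w' + π₃)) + -(i • w' + ω)) +
              (i • w' + i • w') = l • (w' + w' + (w' + w') + (w' + w' + (w' + w'))) +
              ((π + π) + (π₁ + π₁) + ((π₂ + π₂) + (π₃ + π₃))) - (ω + ω) := by
            simp only [nsmul_add]; abel
          simp only [e, e', h8R, mem_tor.1 hπ, mem_tor.1 hπ₁, mem_tor.1 hπ₂, mem_tor.1 hπ₃,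
            mem_tor.1 hω, mem_tor.1 hcω, nsmul_zero, add_zero, sub_zero] at h'
          exact h'
        rw [hw'2, ← nsmul_add, ← hτ] at h0
        by_contra hodd
        rw [Nat.not_even_iff_odd] at hodd
        obtain ⟨k, rfl⟩ := hodd
        apply hw
        rw [add_nsmul, one_nsmul, two_mul, add_nsmul, ← nsmul_add] at h0
        rwa [hw8, nsmul_zero, zero_add] at h0
      obtain ⟨k, rfl⟩ := hi
      rw [hrw, add_nsmul, ← nsmul_add, hw'2]
      exact add_mem (nsmul_mem h2w k) (hPN (hfix4 ω hω hω0))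
    refine pencil_finish hρ hj hA (N := N) (U := ⊤) le_top ?_ (fun a _ => h2 a) ht1 htt hprod
      (hkN k₁ hkP₁) (hkN k₂ hkP₂) (fun a _ => hdN t hd₀ a) (fun a _ => hdN _ hd₁ a) ⊤
      (Subgroup.map_top_of_surjective ρ hρ) (fun v _ => ?_) (z := sl₀ * sl₀) (Subgroup.mem_top _)
      (by rw [map_mul, hsl₀]) hrN (by rw [hr]; simp [pow_succ, mul_assoc])
    · rw [AddSubgroup.card_top, hR]
      have := hcsup Z
      rw [hZ4, ← hN] at this
      omega
    · rw [smul_eq_add (k₂ * t * k₂⁻¹) v, show v + (dis (k₂ * t * k₂⁻¹) v + v) =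
        v + v + dis (k₂ * t * k₂⁻¹) v by abel]
      exact add_mem (h2 v) (hdN _ hd₂ v)
  -- no fixed generator: one block on the Frattini quotient
  push Not at hfc
  have hinvZ : ∀ (g : L), ∀ c ∈ Z, g • c ∈ Z := fun g c hc => by
    obtain ⟨i, rfl⟩ := AddSubgroup.mem_zmultiples_iff.1 hc
    rw [smul_comm g i (w + w), hfix]; exact hc
  letI := quotAct Z hinvZ
  have hW16 : Nat.card (R ⧸ Z) = 16 := by
    have h := Z.card_mul_index
    rw [hZ4, hR, AddSubgroup.index_eq_card] at h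
    omega
  have h2W : ∀ q : R ⧸ Z, q + q = 0 := fun q => by
    obtain ⟨v, rfl⟩ := QuotientAddGroup.mk_surjective q
    rw [← QuotientAddGroup.mk_add, QuotientAddGroup.eq_zero_iff]
    obtain ⟨i, hi⟩ := hgen v
    rw [← add_sub_cancel (i • w) v, show i • w + (v - i • w) + (i • w + (v - i • w)) =
      i • (w + w) + ((v - i • w) + (v - i • w)) by rw [nsmul_add]; abel, mem_tor.1 hi, add_zero]
    exact nsmul_mem (AddSubgroup.mem_zmultiples _) i
  set p := QuotientAddGroup.mk' Z with hp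
  have hpd : ∀ (g : L) v, p (dis g v) = dis g (p v) := fun g v => map_sub p (g • v) v
  have hp0 : ∀ v, p v = 0 ↔ v ∈ Z := fun v => QuotientAddGroup.eq_zero_iff v
  set C := (tor R).map p with hC
  have hC8 : Nat.card C = 8 := by
    set f := p.comp (tor R).subtype
    have hf : f.range = C := by rw [AddMonoidHom.range_comp, AddSubgroup.range_subtype]
    have hk : Nat.card f.ker = 2 := by
      have hk : f.ker = AddSubgroup.zmultiples τ' := by
        ext a
        rw [AddMonoidHom.mem_ker, AddMonoidHom.comp_apply, AddSubgroup.coe_subtype, hp0]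
        constructor
        · intro ha
          obtain ⟨i, hi⟩ := AddSubgroup.mem_zmultiples_iff.1 (hZtor a.1 ha (mem_tor.1 a.2))
          exact AddSubgroup.mem_zmultiples_iff.2 ⟨i, Subtype.ext hi⟩
        · intro ha
          obtain ⟨i, rfl⟩ := AddSubgroup.mem_zmultiples_iff.1 ha
          exact zsmul_mem (add_mem (AddSubgroup.mem_zmultiples _) (AddSubgroup.mem_zmultiples _)) i
      rw [hk, Nat.card_zmultiples]
      exact addOrderOf_eq_prime (by rw [two_nsmul]; exact h2T τ') hτ'0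
    have h := f.ker.card_mul_index
    rw [AddSubgroup.index_ker, hk, hf, h16] at h
    omega
  have hCi : ∀ (g : L), ∀ c ∈ C, g • c ∈ C := by
    rintro g _ ⟨v, hv, rfl⟩
    exact ⟨g • v, tor_inv g v hv, rfl⟩
  have hwC : p w ∉ C := by
    rintro ⟨v, hv, hvw⟩
    rw [← sub_eq_zero, ← map_sub, hp0] at hvw
    obtain ⟨i, hi⟩ := AddSubgroup.mem_zmultiples_iff.1 hvw
    apply hw
    have h' := congrArg (fun a : R => a + a + (a + a)) hi
    rw [show i • (w + w) + i • (w + w) + (i • (w + w) + i • (w + w)) = i • (τ + τ) by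
      rw [hτ]; simp only [zsmul_add], hw8, zsmul_zero,
      show v - w + (v - w) + (v - w + (v - w)) = (v + v) + (v + v) - τ by rw [hτ]; try abel,
      mem_tor.1 hv, add_zero, zero_sub, eq_comm, neg_eq_zero] at h'
    exact h'
  have hno : ∀ q : R ⧸ Z, (∀ g : L, g • q = q) → q ∈ C := by
    intro q hq
    obtain ⟨v, rfl⟩ := QuotientAddGroup.mk_surjective q
    obtain ⟨i, hi⟩ := hgen v
    rcases Nat.even_or_odd i with ⟨k, rfl⟩ | ⟨k, rfl⟩
    · refine ⟨v - (k + k) • w, hi, ?_⟩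
      show p (v - (k + k) • w) = p v
      rw [map_sub, sub_eq_self, hp0, add_nsmul, ← nsmul_add]
      exact nsmul_mem (AddSubgroup.mem_zmultiples _) k
    · exfalso
      obtain ⟨g, hg⟩ := hfc _ hi
      apply hg
      refine hZtor _ ?_ (mem_tor.1 (hdis g _))
      rw [← hp0, hpd]
      have hv : p (w + (v - (2 * k + 1) • w)) = p v := by
        rw [← sub_eq_zero, ← map_sub, hp0, show w + (v - (2 * k + 1) • w) - v = -(k • (w + w)) by
          rw [add_nsmul, one_nsmul, two_mul, add_nsmul, nsmul_add]; abel]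
        exact neg_mem (nsmul_mem (AddSubgroup.mem_zmultiples _) k)
      rw [hv, dis_eq_zero]
      exact hq g
  have hWnt : ∃ (g : L) (q : R ⧸ Z), g • q ≠ q := by
    obtain ⟨g, hg⟩ := hfc 0 (zero_mem _)
    refine ⟨g, p w, fun h => hg (hZtor _ ?_ (mem_tor.1 (hdis g _)))⟩
    rw [add_zero, ← hp0, hpd]
    exact dis_eq_zero.2 h
  have hblock := block_of_invariant hL h2W hW16 hWnt hC8 hCi hno hs hwC
  rw [← hpd, ← hpd, ← hpd, Ne, hp0] at hblock
  set δ : tor R := ⟨dis s w, hdw s⟩ with hδ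
  have hδx : dis s (dis s δ) ∉ AddSubgroup.zmultiples τ' := by
    intro h
    apply hblock
    obtain ⟨i, hi⟩ := AddSubgroup.mem_zmultiples_iff.1 h
    have h' : i • τ = dis s (dis s (dis s w)) := congrArg Subtype.val hi
    rw [← h']
    exact zsmul_mem (add_mem (AddSubgroup.mem_zmultiples _) (AddSubgroup.mem_zmultiples _)) i
  by_cases hsplit : ∃ C₁ : AddSubgroup (tor R), Nat.card C₁ = 8 ∧ ∀ (g : L), ∀ c ∈ C₁, g • c ∈ C₁
  swap
  · push Not at hsplit
    have h := block_of_fixed hL h2T h16 hTnt hτ'0 hτ'fix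
      (fun C hC hCi => by obtain ⟨g, c, hc, hgc⟩ := hsplit C hC; exact hgc (hCi g c hc)) hs hδx
    exfalso
    apply hτ'0
    rw [← h]
    apply Subtype.ext
    show dis s (dis s (dis s (dis s w))) = 0
    have hT : dis t w = dis s (dis s w) := by
      rw [htdef, dis_dis', mem_tor.1 (hdw s), add_zero]
    have hTT := dis_dis' t w
    rw [htt, dis_eq_zero.2 (one_smul L w), mem_tor.1 (hdis t w), add_zero, hT] at hTT
    rw [hTT, htdef, dis_dis', mem_tor.1 (hdis s _), add_zero]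
  -- a complement inside the involutions
  obtain ⟨C₁, hC₁8, hC₁i⟩ := hsplit
  have hτC₁ : τ' ∉ C₁ := by
    intro hτC
    letI := subAct C₁ hC₁i
    have h2C : ∀ c : C₁, c + c = 0 := fun c => Subtype.ext (h2T c.1)
    have hCnt := sub_nontrivial hL h2T h16 hTnt hC₁8 hC₁i
    obtain ⟨g, c, hc⟩ := hCnt
    obtain ⟨k, hk⟩ := transitive hL h2C hC₁8 ⟨g, c, hc⟩ (x := (⟨τ', hτC⟩ : C₁))
      (fun h => hτ'0 (congrArg Subtype.val h)) (y := c) (fun h => hc (by rw [h, smul_zero]))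
    apply hc
    rw [← hk]
    refine Subtype.ext ?_
    show g • (k • τ') = k • τ'
    rw [hτ'fix, hτ'fix]
  set C' : AddSubgroup R := C₁.map (tor R).subtype with hC'
  have hC'i : ∀ (g : L), ∀ c ∈ C', g • c ∈ C' := by
    rintro g _ ⟨c, hc, rfl⟩
    exact ⟨g • c, hC₁i g c hc, rfl⟩
  have hC'tor : C' ≤ tor R := AddSubgroup.map_subtype_le _
  have hτC' : τ ∉ C' := fun ⟨c, hc, hcτ⟩ => hτC₁ ((Subtype.ext hcτ : c = τ') ▸ hc)
  -- displacements lie in the complement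
  have hdC' : ∀ (g : L) (a : R), dis g a ∈ C' := by
    letI := quotAct C' hC'i
    intro g a
    have hidx := index_two h16 hC₁8
    have hfixq : ∀ (g k : L) (q : R ⧸ C'), g • dis k q = dis k q := by
      intro g k q
      obtain ⟨v, rfl⟩ := QuotientAddGroup.mk_surjective q
      show QuotientAddGroup.mk' C' (g • dis k v) = QuotientAddGroup.mk' C' (dis k v)
      rw [← sub_eq_zero, ← map_sub, QuotientAddGroup.mk'_apply, QuotientAddGroup.eq_zero_iff]
      exact ⟨dis g ⟨dis k v, hdis k v⟩, dis_mem h16 hC₁8 hC₁i g _, rfl⟩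
    have h := dis_eq_zero_of_fixed hL hfixq g (a : R ⧸ C')
    rw [show g • (a : R ⧸ C') = ((g • a : R) : R ⧸ C') from rfl, ← sub_eq_zero, ← QuotientAddGroup.mk_sub,
      QuotientAddGroup.eq_zero_iff] at h
    exact h
  have hCn : (hj.sub C').Normal := ⟨by
    rintro _ ⟨c, hc, rfl⟩ k
    rw [← hj.smul]
    exact hj.mem_sub.2 (hC'i _ c hc)⟩
  haveI := hCn
  let π := QuotientGroup.mk' (hj.sub C')
  have hCker : hj.sub C' ≤ ρ.ker := hj.sub_le.trans hA.ge
  let ρ' : K ⧸ hj.sub C' →* L := QuotientGroup.lift (hj.sub C') ρ hCker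
  have hρπ : ∀ k, ρ' (π k) = ρ k := fun k => rfl
  obtain ⟨Y₁, hY₁, hY₁p⟩ := exists_cover hL ρ' (fun l => by
      obtain ⟨k, rfl⟩ := hρ l; exact ⟨π k, rfl⟩)
    (fun y hy => by
      obtain ⟨k, rfl⟩ := QuotientGroup.mk'_surjective _ y
      obtain ⟨a, ha⟩ := hj.surj k (hA ▸ (hy : ρ k = 1))
      refine Subgroup.mem_center_iff.2 fun y' => ?_
      obtain ⟨k', rfl⟩ := QuotientGroup.mk'_surjective _ y'
      rw [← mul_inv_eq_one, mul_inv_rev, ← mul_assoc, ← map_inv, ← map_inv, ← map_mul, ← map_mul, ← map_mul]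
      refine (QuotientGroup.eq_one_iff _).2 ?_
      rw [← ha, hj.conj_mul_inv]
      exact hj.mem_sub.2 (hdC' _ a))
    (by
      rintro ⟨y, hy⟩
      obtain ⟨k, rfl⟩ := QuotientGroup.mk'_surjective _ y
      obtain ⟨a, ha⟩ := hj.surj k (hA ▸ (hy : ρ k = 1))
      refine ⟨3, Subtype.ext ?_⟩
      show QuotientGroup.mk' (hj.sub C') k ^ 2 ^ 3 = 1
      rw [← map_pow, ← ha, ← hj.nsmul, show (2 : ℕ) ^ 3 = 8 by norm_num, height, hj.zero, map_one])
  set K₁ := Y₁.comap π with hK₁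
  have hK₁map : K₁.map ρ = ⊤ := eq_top_iff.2 fun l _ => by
    obtain ⟨y, hy, hyl⟩ : l ∈ Y₁.map ρ' := hY₁ ▸ Subgroup.mem_top l
    obtain ⟨k, rfl⟩ := QuotientGroup.mk'_surjective _ y
    exact ⟨k, hy, hyl⟩
  have hK₁tor : ∀ v, j v ∈ K₁ → v ∈ tor R := by
    intro v hv
    have h := hY₁p _ hv (MonoidHom.mem_ker.1 (hA ▸ hj.mem v))
    rw [← map_mul, ← hj.add] at h
    have hv2 : v + v ∈ C' := hj.mem_sub.1 ((QuotientGroup.eq_one_iff _).1 h)
    obtain ⟨i, hi⟩ := hgen v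
    have hZv : v + v ∈ Z := by
      rw [← add_sub_cancel (i • w) v, show i • w + (v - i • w) + (i • w + (v - i • w)) =
        i • (w + w) + ((v - i • w) + (v - i • w)) by rw [nsmul_add]; abel, mem_tor.1 hi, add_zero]
      exact nsmul_mem (AddSubgroup.mem_zmultiples _) i
    obtain ⟨l, hl⟩ := AddSubgroup.mem_zmultiples_iff.1 (hZtor _ hZv (mem_tor.1 (hC'tor hv2)))
    rcases Int.even_or_odd l with ⟨n, rfl⟩ | ⟨n, rfl⟩
    · rw [mem_tor, ← hl, add_zsmul, ← zsmul_add, hw8, zsmul_zero]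
    · refine absurd ?_ hτC'
      rwa [← hl, add_zsmul, two_mul, add_zsmul, ← zsmul_add, hw8, zsmul_zero, zero_add, one_zsmul] at hv2
  obtain ⟨sl, hslK, hsl⟩ : s ∈ K₁.map ρ := hK₁map ▸ Subgroup.mem_top s
  obtain ⟨r, hr⟩ := hj.surj (sl ^ 4) (hA ▸ (by
    rw [MonoidHom.mem_ker, map_pow, hsl, ← hs, pow_orderOf_eq_one] : sl ^ 4 ∈ ρ.ker))
  have hrP : r ∈ P := hfix4 r (hK₁tor r (hr.symm ▸ pow_mem hslK 4))
    (dis_eq_zero.2 (hsl ▸ hj.smul_pow sl 4 hr))
  set U : AddSubgroup R := Z ⊔ tor R with hU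
  have hU32 : 32 ≤ Nat.card U := by
    have hd : tor R ≤ U := le_sup_right
    have h1 := AddSubgroup.card_dvd_of_le hd
    rw [h16] at h1
    have hne : Nat.card U ≠ 16 := fun h => hw (by
      have heq := AddSubgroup.eq_of_le_of_card_ge hd (by rw [h, h16])
      exact mem_tor.1 (heq.ge (AddSubgroup.mem_sup_left (AddSubgroup.mem_zmultiples _))))
    have hpos : 0 < Nat.card U := Nat.card_pos
    obtain ⟨k, hk⟩ := h1
    rcases k with _ | _ | k <;> omega
  have hUd : ∀ g : L, (∀ ω ∈ tor R, dis g ω ∈ P) → ∀ u ∈ U, dis g u ∈ P := by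
    intro g hg u hu
    obtain ⟨z, hz, ω, hω, rfl⟩ := AddSubgroup.mem_sup.1 hu
    obtain ⟨i, rfl⟩ := AddSubgroup.mem_zmultiples_iff.1 hz
    rw [map_add, map_zsmul, dis_eq_zero.2 (hfix g), zsmul_zero, zero_add]
    exact hg ω hω
  refine pencil_finish hρ hj hA (N := P) (U := U) (hPtor.trans le_sup_right) ?_ ?_ ht1 htt hprod
    hkP₁ hkP₂ (hUd t hd₀) (hUd _ hd₁) K₁ hK₁map (fun v hv => ?_) (z := sl * sl)
    (mul_mem hslK hslK) (by rw [map_mul, hsl]) hrP (by rw [hr]; simp [pow_succ, mul_assoc])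
  · have := hcsup (AddSubgroup.zmultiples τ)
    rw [← hP, Nat.card_zmultiples, addOrderOf_eq_prime (p := 2) (by rw [two_nsmul]; exact hw8) hw] at this
    omega
  · intro u hu
    obtain ⟨z, hz, ω, hω, rfl⟩ := AddSubgroup.mem_sup.1 hu
    obtain ⟨i, rfl⟩ := AddSubgroup.mem_zmultiples_iff.1 hz
    rw [show i • (w + w) + ω + (i • (w + w) + ω) = i • τ + (ω + ω) by
      rw [hτ]; simp only [zsmul_add]; abel,
      mem_tor.1 hω, add_zero]
    exact AddSubgroup.mem_sup_left (zsmul_mem (AddSubgroup.mem_zmultiples τ) i)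
  · have hv2 := mem_tor.1 (hK₁tor v hv)
    rw [smul_eq_add (k₂ * t * k₂⁻¹) v, show v + (dis (k₂ * t * k₂⁻¹) v + v) =
      dis (k₂ * t * k₂⁻¹) v + (v + v) by abel, hv2, add_zero]
    exact hd₂ v (mem_tor.2 hv2)

end Cfsg.Lib.Small.SecRankFour.Linear
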