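import Cfsg.Agent.Lib.Small.SecRankFour.Linear.Natural

/-!
# The modules of order sixteen of a simple group of order 168
-/

set_option autoImplicit false

namespace Cfsg.Lib.Small.SecRankFour.Linear

variable {L : Type*} [Group L] [Finite L] [IsSimpleGroup L] (hL : Nat.card L = 168)
  {W : Type*} [AddCommGroup W] [Finite W] [DistribMulAction L W]
  (h2 : ∀ v : W, v + v = 0) (hW : Nat.card W = 16) (hnt : ∃ (g : L) (v : W), g • v ≠ v)

local notation "F4" => ZMod 2 × ZMod 2 × ZMod 2 × ZMod 2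

/-- The action on an invariant subgroup. -/
abbrev subAct {L W : Type*} [Group L] [AddCommGroup W] [DistribMulAction L W] (C : AddSubgroup W)
    (hC : ∀ (g : L), ∀ c ∈ C, g • c ∈ C) : DistribMulAction L C where
  smul g c := ⟨g • c.1, hC g c.1 c.2⟩
  one_smul c := Subtype.ext (one_smul L c.1)
  mul_smul g k c := Subtype.ext (mul_smul g k c.1)
  smul_zero g := Subtype.ext (smul_zero g)
  smul_add g a b := Subtype.ext (smul_add g a.1 b.1)

/-- The action on the quotient by an invariant subgroup. -/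
abbrev quotAct {L W : Type*} [Group L] [AddCommGroup W] [DistribMulAction L W] (C : AddSubgroup W)
    (hC : ∀ (g : L), ∀ c ∈ C, g • c ∈ C) : DistribMulAction L (W ⧸ C) where
  smul g := QuotientAddGroup.map C C (DistribSMul.toAddMonoidHom W g) (fun c hc => hC g c hc)
  one_smul q := by
    obtain ⟨w, rfl⟩ := QuotientAddGroup.mk_surjective q
    show QuotientAddGroup.mk' C ((1 : L) • w) = _
    rw [one_smul]; rfl
  mul_smul g k q := by
    obtain ⟨w, rfl⟩ := QuotientAddGroup.mk_surjective q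
    show QuotientAddGroup.mk' C ((g * k) • w) = QuotientAddGroup.mk' C (g • k • w)
    rw [mul_smul]
  smul_zero g := map_zero (QuotientAddGroup.map C C (DistribSMul.toAddMonoidHom W g) _)
  smul_add g := map_add (QuotientAddGroup.map C C (DistribSMul.toAddMonoidHom W g) _)

/-- The action on functionals. -/
abbrev dualAct (L W : Type*) [Group L] [AddCommGroup W] [DistribMulAction L W] :
    DistribMulAction L (W →+ ZMod 2) where
  smul g f := f.comp (DistribSMul.toAddMonoidHom W g⁻¹)
  one_smul f := AddMonoidHom.ext fun w => by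
    show f ((1 : L)⁻¹ • w) = f w
    rw [inv_one, one_smul]
  mul_smul g k f := AddMonoidHom.ext fun w => by
    show f ((g * k)⁻¹ • w) = f (k⁻¹ • g⁻¹ • w)
    rw [mul_inv_rev, mul_smul]
  smul_zero g := AddMonoidHom.ext fun w => rfl
  smul_add g f f' := AddMonoidHom.ext fun w => rfl

omit [Finite L] [IsSimpleGroup L] [Finite W] [DistribMulAction L W] in
theorem index_two (hW : Nat.card W = 16) {C : AddSubgroup W} (hC : Nat.card C = 8) : C.index = 2 := by
  have := C.card_mul_index
  rw [hW, hC] at this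
  omega

omit [Finite L] [IsSimpleGroup L] [Finite W] in
theorem dis_mem (hW : Nat.card W = 16) {C : AddSubgroup W} (hC : Nat.card C = 8)
    (hinv : ∀ (g : L), ∀ c ∈ C, g • c ∈ C) (g : L) (w : W) : dis g w ∈ C := by
  have hiff : g • w ∈ C ↔ w ∈ C := ⟨fun h => by simpa using hinv g⁻¹ _ h, hinv g w⟩
  rw [dis_apply, sub_eq_add_neg, AddSubgroup.add_mem_iff_of_index_two (index_two hW hC), neg_mem_iff]
  exact hiff

include hL

/-- Displacements into fixed points are trivial. -/
theorem dis_eq_zero_of_fixed {V : Type*} [AddCommGroup V] [DistribMulAction L V]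
    (h : ∀ (g k : L) (v : V), g • dis k v = dis k v) (g : L) (v : V) : g • v = v := by
  let f : L →* Multiplicative V :=
    { toFun := fun k => Multiplicative.ofAdd (dis k v)
      map_one' := by simp [dis_apply]
      map_mul' := fun a b => (congrArg Multiplicative.ofAdd (by
        rw [dis_mul, smul_eq_add b v, map_add, dis_eq_zero.2 (h a b v), zero_add] :
          dis (a * b) v = dis a v + dis b v)).trans (ofAdd_add _ _) }
  exact dis_eq_zero.1 (congrArg Multiplicative.toAdd (eq_one_of_comm hL (fun a b => mul_comm a b) f g))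

include h2 hW hnt

/-- An invariant hyperplane or a fixed vector. -/
theorem invariant_or_fixed :
    (∃ C : AddSubgroup W, Nat.card C = 8 ∧ ∀ (g : L), ∀ c ∈ C, g • c ∈ C) ∨
      ∃ w : W, w ≠ 0 ∧ ∀ g : L, g • w = w := by
  classical
  obtain ⟨d, hd⟩ := exists_order hL 7 (by norm_num) (by norm_num)
  haveI : Fact (Nat.Prime 7) := ⟨by norm_num⟩
  have hd1 : d ≠ 1 := fun h => by rw [h, orderOf_one] at hd; norm_num at hd
  have hd7 : ∀ v : W, d ^ 7 • v = v := fun v => by rw [← hd, pow_orderOf_eq_one, one_smul]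
  have hP : IsPGroup 7 (Subgroup.zpowers d) :=
    IsPGroup.of_card (n := 1) (by rw [Nat.card_zpowers, hd, pow_one])
  -- the fixed points of an element of order seven
  have hfix : Nat.card (dis d (V := W)).ker = 2 := by
    have h := hP.card_modEq_card_fixedPoints (α := W)
    have he : Nat.card (MulAction.fixedPoints (Subgroup.zpowers d) W) = Nat.card (dis d (V := W)).ker := by
      refine Nat.card_congr (Equiv.subtypeEquivRight fun v => ?_)
      rw [AddMonoidHom.mem_ker, dis_eq_zero]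
      exact ⟨fun h => h ⟨d, Subgroup.mem_zpowers d⟩, fun h => fun ⟨g, hg⟩ =>
        (Subgroup.zpowers_le.2 (MulAction.mem_stabilizer_iff.2 h) hg : g ∈ MulAction.stabilizer L v)⟩
    rw [hW, he] at h
    have hdv : Nat.card (dis d (V := W)).ker ∣ 2 ^ 4 := by
      rw [show 2 ^ 4 = Nat.card W by rw [hW]; norm_num]
      exact AddSubgroup.card_addSubgroup_dvd_card _
    obtain ⟨k, hk, hk'⟩ := (Nat.dvd_prime_pow Nat.prime_two).1 hdv
    rw [hk'] at h ⊢
    interval_cases k
    · exact absurd h (by decide)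
    · rfl
    · exact absurd h (by decide)
    · exact absurd h (by decide)
    · exfalso
      refine hd1 (faithful hnt fun v => dis_eq_zero.1 ?_)
      have htop := AddSubgroup.eq_top_of_card_eq (dis d (V := W)).ker (by rw [hk', hW]; norm_num)
      exact (htop ▸ AddSubgroup.mem_top v : v ∈ (dis d (V := W)).ker)
  obtain ⟨w₀, hw₀, huniq⟩ : ∃ w₀ : W, w₀ ≠ 0 ∧ ∀ v, d • v = v → v = 0 ∨ v = w₀ := by
    obtain ⟨a, b, hab, hset⟩ := Nat.card_eq_two_iff.1 hfix
    have hmem : ∀ v : (dis d (V := W)).ker, v = a ∨ v = b := fun v => hset.symm.le (Set.mem_univ v)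
    rcases hmem 0 with h | h
    · refine ⟨b.1, fun hb => hab (h.symm.trans (Subtype.ext hb.symm)), fun v hv => ?_⟩
      rcases hmem ⟨v, dis_eq_zero.2 hv⟩ with e | e
      · exact Or.inl (congrArg Subtype.val (e.trans h.symm))
      · exact Or.inr (congrArg Subtype.val e)
    · refine ⟨a.1, fun ha => hab ((Subtype.ext ha : a = 0).trans h), fun v hv => ?_⟩
      rcases hmem ⟨v, dis_eq_zero.2 hv⟩ with e | e
      · exact Or.inr (congrArg Subtype.val e)
      · exact Or.inl (congrArg Subtype.val (e.trans h.symm))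
  have hw₀d : d • w₀ = w₀ := by
    by_contra hne
    have : Subsingleton (dis d (V := W)).ker := ⟨fun a b => by
      have ha := (huniq a.1 (dis_eq_zero.1 a.2)).resolve_right fun e => hne (e ▸ dis_eq_zero.1 a.2)
      have hb := (huniq b.1 (dis_eq_zero.1 b.2)).resolve_right fun e => hne (e ▸ dis_eq_zero.1 b.2)
      exact Subtype.ext (ha.trans hb.symm)⟩
    have := Nat.card_of_subsingleton (0 : (dis d (V := W)).ker)
    omega
  set C := (dis d (V := W)).range with hC
  have hC8 : Nat.card C = 8 := by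
    have h := (dis d (V := W)).ker.card_mul_index
    rw [AddSubgroup.index_ker, hfix, hW] at h
    rw [hC]; omega
  have hw₀C : w₀ ∉ C := by
    rintro ⟨y, hy⟩
    have hind : ∀ n : ℕ, d ^ n • y = n • w₀ + y := by
      intro n
      induction n with
      | zero => simp
      | succ n ih =>
        rw [pow_succ', mul_smul, ih, smul_add, smul_comm d n w₀, hw₀d, succ_nsmul, smul_eq_add d y, hy,
          add_assoc]
    have h := hind 7
    rw [hd7, eq_comm, add_eq_right, show (7 : ℕ) = 1 + 1 + 1 + 1 + 1 + 1 + 1 from rfl, add_nsmul,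
      add_nsmul, add_nsmul, add_nsmul, add_nsmul, add_nsmul, one_nsmul, h2, zero_add, h2, zero_add, h2,
      zero_add] at h
    exact hw₀ h
  by_cases hall : ∀ g : L, g • w₀ = w₀
  · exact Or.inr ⟨w₀, hw₀, hall⟩
  left
  set O := MulAction.orbit L w₀ with hO
  rcases orbit_cases hL w₀ with h | ⟨h7, hmul⟩
  · exact absurd h hall
  have h0O : (0 : W) ∉ O := fun ⟨g, hg⟩ => hw₀ ((smul_eq_zero_iff_eq g).1 hg)
  have hle15 : O.ncard ≤ 15 := by
    have h : O ⊆ {(0 : W)}ᶜ := fun x hx e => h0O (e ▸ hx)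
    have := Set.ncard_le_ncard h
    rwa [Set.ncard_compl, Set.ncard_singleton, hW] at this
  -- the orbit has eight elements
  have hmod : O.ncard ≡ 1 [MOD 7] := by
    letI : MulAction (Subgroup.zpowers d) O := MulAction.compHom O (Subgroup.zpowers d).subtype
    have h := hP.card_modEq_card_fixedPoints (α := O)
    have h1 : Nat.card (MulAction.fixedPoints (Subgroup.zpowers d) O) = 1 := by
      refine Nat.card_eq_one_iff_unique.2 ⟨⟨fun a b => Subtype.ext (Subtype.ext ?_)⟩, ⟨⟨⟨w₀, MulAction.mem_orbit_self w₀⟩, ?_⟩⟩⟩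
      · have key : ∀ a : MulAction.fixedPoints (Subgroup.zpowers d) O, a.1.1 = w₀ := fun a =>
          (huniq a.1.1 (congrArg Subtype.val (a.2 ⟨d, Subgroup.mem_zpowers d⟩))).resolve_left
            fun e => h0O (e ▸ a.1.2)
        rw [key a, key b]
      · rintro ⟨g, hg⟩
        exact Subtype.ext (Subgroup.zpowers_le.2 (MulAction.mem_stabilizer_iff.2 hw₀d) hg :
          g ∈ MulAction.stabilizer L w₀)
    rw [h1, Nat.card_coe_set_eq] at h
    exact h
  have h8 : O.ncard = 8 := by
    unfold Nat.ModEq at hmod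
    generalize O.ncard = n at *
    interval_cases n <;> omega
  -- the other seven vectors
  set O' : Set W := ({(0 : W)} ∪ O)ᶜ with hO'
  have hO'7 : O'.ncard = 7 := by
    rw [hO', Set.ncard_compl, Set.ncard_union_eq (by simpa using h0O), Set.ncard_singleton, h8, hW]
  have hO'inv : ∀ (g : L) x, x ∈ O' → g • x ∈ O' := fun g x hx hgx => hx <| by
    rcases hgx with h | h
    · exact Or.inl ((smul_eq_zero_iff_eq g).1 h)
    · exact Or.inr (by simpa using MulAction.mem_orbit_of_mem_orbit g⁻¹ h)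
  have hdC : ∀ (n : ℕ) (y : W), d ^ n • y - y ∈ C := by
    intro n y
    induction n with
    | zero => simp
    | succ n ih =>
      rw [pow_succ', mul_smul, show d • d ^ n • y - y = dis d (d ^ n • y) + (d ^ n • y - y) by
        rw [dis_apply]; abel]
      exact add_mem ⟨_, rfl⟩ ih
  obtain ⟨y, hy⟩ : O'.Nonempty := Set.nonempty_of_ncard_ne_zero (by omega)
  -- the cyclic orbit of `y` is all of the remainder
  have hyorb : ∀ z ∈ O', z - y ∈ C := by
    have hz : MulAction.orbit (Subgroup.zpowers d) y = O' := by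
      have hsub : MulAction.orbit (Subgroup.zpowers d) y ⊆ O' := by
        rintro _ ⟨g, rfl⟩; exact hO'inv g.1 y hy
      refine Set.eq_of_subset_of_ncard_le hsub ?_
      obtain ⟨n, hn⟩ := hP.card_orbit y
      rw [hO'7, ← Nat.card_coe_set_eq, hn]
      rcases Nat.eq_zero_or_pos n with rfl | hpos
      · exfalso
        rw [pow_zero, Nat.card_eq_one_iff_unique] at hn
        have hyd : d • y = y := congrArg Subtype.val (hn.1.elim
          ⟨d • y, ⟨d, Subgroup.mem_zpowers d⟩, rfl⟩ ⟨y, MulAction.mem_orbit_self y⟩)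
        rcases huniq y hyd with rfl | rfl
        · exact hy (Or.inl rfl)
        · exact hy (Or.inr (MulAction.mem_orbit_self y))
      · exact Nat.le_self_pow hpos.ne' 7
    intro z hzO
    rw [← hz] at hzO
    obtain ⟨⟨g, hg⟩, rfl⟩ := hzO
    obtain ⟨i, rfl⟩ := mem_powers_iff_mem_zpowers.2 hg
    exact hdC i y
  have hidx := index_two hW hC8
  have hcoset : ∀ z ∈ O', (z ∈ C ↔ y ∈ C) := fun z hz =>
    ⟨fun h => by simpa using sub_mem h (hyorb z hz), fun h => by simpa using add_mem (hyorb z hz) h⟩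
  refine ⟨C, hC8, fun g c hc => ?_⟩
  by_cases hc0 : c = 0
  · rw [hc0, smul_zero]; exact zero_mem C
  by_cases hyC : y ∈ C
  · have heq : O' = (C : Set W) \ {0} := by
      refine Set.eq_of_subset_of_ncard_le (fun z hz => ⟨(hcoset z hz).2 hyC, fun e => hz (Or.inl e)⟩) ?_
      rw [Set.ncard_diff_singleton_of_mem (zero_mem C), ← Nat.card_coe_set_eq, hO'7]
      simp [hC8]
    exact ((heq ▸ hO'inv g c (heq ▸ ⟨hc, hc0⟩) : g • c ∈ (C : Set W) \ {0})).1
  · have heq : O' = (C : Set W)ᶜ \ {w₀} := by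
      refine Set.eq_of_subset_of_ncard_le (fun z hz => ⟨fun h => hyC ((hcoset z hz).1 h),
        fun e => hz (Or.inr (e ▸ MulAction.mem_orbit_self w₀))⟩) ?_
      rw [Set.ncard_diff_singleton_of_mem (by exact hw₀C), Set.ncard_compl, ← Nat.card_coe_set_eq, hO'7, hW]
      simp [hC8]
    -- every vector of `C` is a sum of two of the remaining vectors
    obtain ⟨z, hz, hz'⟩ : ∃ z ∈ O', z ≠ w₀ + c := by
      by_contra hcon
      push Not at hcon
      have := Set.ncard_le_ncard (show O' ⊆ {w₀ + c} from hcon)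
      rw [hO'7, Set.ncard_singleton] at this
      omega
    have hzC : z ∉ C := fun h => hyC ((hcoset z hz).1 h)
    have hzc : z + c ∈ O' := by
      rw [heq]
      refine ⟨fun h => hzC (by simpa using sub_mem h hc), fun e => hz' ?_⟩
      rw [← (e : z + c = w₀), add_assoc, h2, add_zero]
    have hgz := heq ▸ hO'inv g z hz
    have hgzc := heq ▸ hO'inv g _ hzc
    rw [show c = z + (z + c) by rw [← add_assoc, h2, zero_add], smul_add,
      AddSubgroup.add_mem_iff_of_index_two hidx]
    exact ⟨fun h => absurd h hgz.1, fun h => absurd h hgzc.1⟩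

theorem sub_nontrivial {C : AddSubgroup W} (hC : Nat.card C = 8)
    (hinv : ∀ (g : L), ∀ c ∈ C, g • c ∈ C) :
    letI := subAct C hinv
    ∃ (g : L) (c : C), g • c ≠ c := by
  letI := subAct C hinv
  by_contra hcon
  push Not at hcon
  obtain ⟨g, v, hv⟩ := hnt
  exact hv (dis_eq_zero_of_fixed hL (fun a b w =>
    congrArg Subtype.val (hcon a ⟨dis b w, dis_mem hW hC hinv b w⟩)) g v)

/-- Without fixed vectors outside an invariant hyperplane the element of order four has one block. -/
theorem block_of_invariant {C : AddSubgroup W} (hC : Nat.card C = 8)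
    (hinv : ∀ (g : L), ∀ c ∈ C, g • c ∈ C) (hno : ∀ w : W, (∀ g : L, g • w = w) → w ∈ C)
    {s : L} (hs : orderOf s = 4) {w : W} (hw : w ∉ C) : dis s (dis s (dis s w)) ≠ 0 := by
  letI := subAct C hinv
  have hCnt := sub_nontrivial hL h2 hW hnt hC hinv
  have h2C : ∀ c : C, c + c = 0 := fun c => Subtype.ext (h2 c.1)
  obtain ⟨e, he⟩ := exists_coords hL h2C hC hCnt hs
  have hdval : ∀ (g : L) (c : C), ((dis g c : C) : W) = dis g c.1 := fun g c => rfl
  have hodd : ∀ v : W, v ∉ C → Odd (Nat.card (MulAction.stabilizer L v)) := fun v hv => by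
    have hf : ∀ g : L, QuotientAddGroup.mk' C (g • v) = QuotientAddGroup.mk' C v := fun g => by
      rw [← sub_eq_zero, ← map_sub]
      exact (QuotientAddGroup.eq_zero_iff _).2 (dis_mem hW hC hinv g v)
    refine stab_odd hL (fun x => ?_) (QuotientAddGroup.mk' C) v hf
      (fun h => hv ((QuotientAddGroup.eq_zero_iff v).1 h)) ?_
      fun b hb => (QuotientAddGroup.eq_zero_iff b).2 (hno b hb)
    · obtain ⟨z, rfl⟩ := QuotientAddGroup.mk_surjective x
      rw [← QuotientAddGroup.mk_add, h2, QuotientAddGroup.mk_zero]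
    · have hsub : MulAction.orbit L v ⊆ (fun c : W => v + c) '' (C : Set W) := by
        rintro _ ⟨g, rfl⟩
        exact ⟨dis g v, dis_mem hW hC hinv g v, by rw [dis_apply]; abel⟩
      refine (Set.ncard_le_ncard hsub).trans ((Set.ncard_image_le).trans ?_)
      rw [← Nat.card_coe_set_eq]
      simp [hC]
  intro h3
  obtain ⟨⟨a, b, c⟩, hp⟩ := e.surjective ⟨dis (s * s) w, dis_mem hW hC hinv _ w⟩
  have hd := congrArg (fun z : C => ((dis s z : C) : W)) hp
  simp only [he, hdval] at hd
  rw [← dis_dis h2, h3, show (0 : W) = ((0 : C) : W) from rfl, Subtype.coe_inj, AddEquiv.map_eq_zero_iff,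
    Prod.mk_eq_zero, Prod.mk_eq_zero] at hd
  obtain ⟨-, rfl, rfl⟩ := hd
  set z : C := e (c, 0, 0) with hz
  have hTz : dis (s * s) z.1 = dis (s * s) w := by
    rw [← hdval, ← dis_dis h2C, hz, he, he, hp]
  refine not_fix_two (hodd (w + z.1) fun h => hw (by simpa using sub_mem h z.2)) (orderOf_sq hs)
    (dis_eq_zero.1 ?_)
  rw [map_add, hTz, h2]

theorem quot_nontrivial {w₀ : W} (hfix : ∀ g : L, g • w₀ = w₀)
    (hinv : ∀ (g : L), ∀ c ∈ AddSubgroup.zmultiples w₀, g • c ∈ AddSubgroup.zmultiples w₀) :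
    letI := quotAct (AddSubgroup.zmultiples w₀) hinv
    ∃ (g : L) (v : W ⧸ AddSubgroup.zmultiples w₀), g • v ≠ v := by
  letI := quotAct (AddSubgroup.zmultiples w₀) hinv
  by_contra hcon
  push Not at hcon
  obtain ⟨g, v, hv⟩ := hnt
  refine hv (dis_eq_zero_of_fixed hL (fun a b w => ?_) g v)
  have hm : dis b w ∈ AddSubgroup.zmultiples w₀ := by
    have h := hcon b (w : W ⧸ AddSubgroup.zmultiples w₀)
    rw [show b • (w : W ⧸ AddSubgroup.zmultiples w₀) = ((b • w : W) : W ⧸ AddSubgroup.zmultiples w₀)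
      from rfl, ← sub_eq_zero, ← QuotientAddGroup.mk_sub, QuotientAddGroup.eq_zero_iff] at h
    exact h
  obtain ⟨i, hi⟩ := AddSubgroup.mem_zmultiples_iff.1 hm
  rw [← hi, smul_comm a i w₀, hfix]

omit hL hnt in
theorem quot_card {w₀ : W} (hw₀ : w₀ ≠ 0) : Nat.card (W ⧸ AddSubgroup.zmultiples w₀) = 8 := by
  have h := (AddSubgroup.zmultiples w₀).card_mul_index
  rw [Nat.card_zmultiples, addOrderOf_eq_prime (p := 2) (by rw [two_nsmul, h2]) hw₀, hW] at h
  rw [← AddSubgroup.index_eq_card]; omega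

/-- With a fixed vector and no invariant hyperplane the element of order four has one block. -/
theorem block_of_fixed {w₀ : W} (hw₀ : w₀ ≠ 0) (hfix : ∀ g : L, g • w₀ = w₀)
    (hno : ∀ C : AddSubgroup W, Nat.card C = 8 → ¬ ∀ (g : L), ∀ c ∈ C, g • c ∈ C)
    {s : L} (hs : orderOf s = 4) {x : W} (hx : dis s (dis s x) ∉ AddSubgroup.zmultiples w₀) :
    dis s (dis s (dis s x)) = w₀ := by
  classical
  set Z := AddSubgroup.zmultiples w₀ with hZ
  have hinv : ∀ (g : L), ∀ c ∈ Z, g • c ∈ Z := fun g c hc => by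
    obtain ⟨i, rfl⟩ := AddSubgroup.mem_zmultiples_iff.1 hc
    rw [smul_comm g i w₀, hfix]; exact hc
  letI := quotAct Z hinv
  have hq8 := quot_card h2 hW hw₀
  have hqnt := quot_nontrivial hL h2 hW hnt hfix hinv
  have h2q : ∀ q : W ⧸ Z, q + q = 0 := fun q => by
    obtain ⟨z, rfl⟩ := QuotientAddGroup.mk_surjective q
    rw [← QuotientAddGroup.mk_add, h2, QuotientAddGroup.mk_zero]
  set D := dis s (V := W) with hD
  set m := QuotientAddGroup.mk' Z with hm
  have hdm : ∀ v, m (D v) = dis s (m v) := fun v => map_sub m (s • v) v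
  have hm0 : ∀ v, m v = 0 ↔ v ∈ Z := fun v => QuotientAddGroup.eq_zero_iff v
  have hmw : m w₀ = 0 := (hm0 _).2 (AddSubgroup.mem_zmultiples w₀)
  have hDw : D w₀ = 0 := dis_eq_zero.2 (hfix s)
  have hD4 : ∀ v, D (D (D (D v))) = 0 := dis_four h2 hs
  obtain ⟨eq, heq⟩ := exists_coords hL h2q hq8 hqnt hs
  have hm3 : ∀ v, m (D (D (D v))) = 0 := fun v => by
    obtain ⟨⟨a, b, c⟩, hp⟩ := eq.surjective (m v)
    rw [hdm, hdm, hdm, ← hp, heq, heq, heq]; exact map_zero eq
  obtain ⟨e, he⟩ := coords_four h2 hW x (D x) (D (D x)) w₀ fun a b c d h => by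
    have hx' : m (D (D x)) ≠ 0 := fun h => hx ((hm0 _).1 h)
    have h' : a.val • m x + b.val • m (D x) + c.val • m (D (D x)) = 0 := by
      simpa [hmw] using congrArg m h
    have hq3 : ∀ v, dis s (m (D (D v))) = 0 := fun v => by rw [← hdm, hm3]
    have ha : a = 0 := eq_zero_of_val_nsmul hx' (by
      simpa [← hdm, hm3, hD4] using congrArg (fun q => dis s (dis s q)) h')
    subst ha
    have hb : b = 0 := eq_zero_of_val_nsmul hx' (by simpa [← hdm, hm3] using congrArg (dis s) h')
    subst hb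
    obtain rfl : c = 0 := eq_zero_of_val_nsmul hx' (by simpa using h')
    exact ⟨rfl, rfl, rfl, eq_zero_of_val_nsmul hw₀ (by simpa using h)⟩
  obtain ⟨i, hi⟩ := AddSubgroup.mem_zmultiples_iff.1 ((hm0 _).1 (hm3 x))
  rcases Int.even_or_odd i with ⟨j, rfl⟩ | ⟨j, rfl⟩
  swap
  · rw [← hi, add_zsmul, two_mul, add_zsmul, h2, zero_add, one_zsmul]
  exfalso
  have h30 : D (D (D x)) = 0 := by rw [← hi, add_zsmul, h2]
  let f : W →+ ZMod 2 :=
    { toFun := fun v => (e.symm v).2.2.2
      map_zero' := by simp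
      map_add' := fun u v => by simp }
  have hfe : ∀ a b c d, f (e (a, b, c, d)) = d := fun a b c d => by
    show (e.symm (e (a, b, c, d))).2.2.2 = d
    rw [e.symm_apply_apply]
  have hf0 : f w₀ = 1 := by
    have h := he 0 0 0 1
    simp only [ZMod.val_zero, ZMod.val_one, zero_nsmul, one_nsmul, zero_add] at h
    rw [← h, hfe]
  have hfc : f (D (D x)) = 0 := by
    have h := he 0 0 1 0
    simp only [ZMod.val_zero, ZMod.val_one, zero_nsmul, one_nsmul, zero_add, add_zero] at h
    rw [← h, hfe]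
  have hfT : ∀ v, f (dis (s * s) v) = 0 := fun v => by
    rw [← dis_dis h2]
    obtain ⟨⟨a, b, c, d⟩, rfl⟩ := e.surjective v
    rw [he]
    change f (D (D _)) = 0
    simp [map_add, map_nsmul, h30, hDw, hfc]
  letI := dualAct L W
  haveI : Finite (W →+ ZMod 2) := Finite.of_injective (fun φ : W →+ ZMod 2 => (φ : W → ZMod 2))
    DFunLike.coe_injective
  let ev : (W →+ ZMod 2) →+ ZMod 2 := AddMonoidHom.eval w₀
  have hev : ∀ (g : L) (φ : W →+ ZMod 2), ev (g • φ) = ev φ := fun g φ => by
    show φ (g⁻¹ • w₀) = φ w₀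
    rw [hfix]
  have hodd := stab_odd hL (A := ZMod 2) (by decide) ev f (fun g => hev g f)
    (by show f w₀ ≠ 0; rw [hf0]; decide) ?_ fun b hb => ?_
  · refine not_fix_two hodd (orderOf_sq hs) (AddMonoidHom.ext fun v => ?_)
    show f ((s * s)⁻¹ • v) = f v
    have h4 : s * s * (s * s) = 1 := by
      calc s * s * (s * s) = s ^ 4 := by simp [pow_succ, mul_assoc]
        _ = 1 := by rw [← hs, pow_orderOf_eq_one]
    have hinv' : (s * s)⁻¹ = s * s := inv_eq_of_mul_eq_one_left h4
    rw [hinv', smul_eq_add (s * s) v, map_add, hfT, zero_add]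
  · have hsub : MulAction.orbit L f ⊆ {φ | φ w₀ = 1} := by
      rintro _ ⟨g, rfl⟩
      exact (hev g f).trans hf0
    refine (Set.ncard_le_ncard hsub).trans ?_
    refine (Set.ncard_le_ncard_of_injOn (t := (Set.univ : Set (ZMod 2 × ZMod 2 × ZMod 2)))
      (fun φ => (φ x, φ (D x), φ (D (D x)))) (fun _ _ => Set.mem_univ _) (fun φ hφ ψ hψ h => ?_)).trans ?_
    · refine AddMonoidHom.ext fun v => ?_
      obtain ⟨⟨a, b, c, d⟩, rfl⟩ := e.surjective v
      simp only [Prod.mk.injEq] at h
      rw [he]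
      simp only [map_add, map_nsmul, h.1, h.2.1, h.2.2]
      rw [show φ w₀ = 1 from hφ, show ψ w₀ = 1 from hψ]
    · rw [Set.ncard_univ, Nat.card_prod, Nat.card_prod, Nat.card_zmod]
  · by_contra hb0
    refine hno b.ker ?_ fun g c hc => ?_
    · have h := b.ker.card_mul_index
      rw [AddSubgroup.index_ker, hW] at h
      have htop : b.range = ⊤ := by
        refine eq_top_iff.2 fun z _ => ?_
        rcases (show ∀ z : ZMod 2, z = 0 ∨ z = 1 by decide) z with rfl | rfl
        · exact zero_mem _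
        · exact ⟨w₀, (show ∀ z : ZMod 2, z ≠ 0 → z = 1 by decide) _ hb0⟩
      rw [htop, AddSubgroup.card_top, Nat.card_zmod] at h
      omega
    · have h := congrArg (fun φ : W →+ ZMod 2 => φ c) (hb g⁻¹)
      change b ((g⁻¹)⁻¹ • c) = b c at h
      rw [inv_inv] at h
      exact AddMonoidHom.mem_ker.2 (h.trans (AddMonoidHom.mem_ker.1 hc))

omit hL hnt [DistribMulAction L W] in
/-- Kernels of a single block. -/
theorem block_kernels (D : W →+ W) (hD : ∀ v, D (D (D (D v))) = 0) {x : W} (hx : D (D (D x)) ≠ 0) :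
    (∀ v, D v = 0 → ∃ y, D (D (D y)) = v) ∧ ∀ v, D (D v) = 0 → ∃ y, D (D y) = v := by
  obtain ⟨e, -, he⟩ := chain_four h2 hW D hD hx
  constructor
  · intro v hv
    obtain ⟨⟨a, b, c, d⟩, rfl⟩ := e.surjective v
    rw [he, AddEquiv.map_eq_zero_iff] at hv
    simp only [Prod.mk_eq_zero] at hv
    obtain ⟨-, rfl, rfl, rfl⟩ := hv
    exact ⟨e (d, 0, 0, 0), by rw [he, he, he]⟩
  · intro v hv
    obtain ⟨⟨a, b, c, d⟩, rfl⟩ := e.surjective v
    rw [he, he, AddEquiv.map_eq_zero_iff] at hv
    simp only [Prod.mk_eq_zero] at hv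
    obtain ⟨-, -, rfl, rfl⟩ := hv
    exact ⟨e (c, d, 0, 0), by rw [he, he]⟩

end Cfsg.Lib.Small.SecRankFour.Linear
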