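import Cfsg.Agent.Lib.Small.SecRankFour.Five.RankFive
import Cfsg.Agent.Lib.Small.SecRankFour.Linear.Sixteen

/-!
# Abelian normal subgroups as modules, and sections of rank five
-/

set_option autoImplicit false

namespace Cfsg.Lib.Small.SecRankFour.Linear

open Subgroup

variable {K : Type*} [Group K] {L : Type*} [Group L]

/-- A commutative subgroup as a commutative group. -/
abbrev commGrp (A : Subgroup K) (hab : ∀ a ∈ A, ∀ b ∈ A, a * b = b * a) : CommGroup A :=
  { (inferInstance : Group A) with mul_comm := fun a b => Subtype.ext (hab a.1 a.2 b.1 b.2) }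

/-- An additive group identified with a normal subgroup, equivariantly. -/
structure Embeds (ρ : K →* L) (A : Subgroup K) {R : Type*} [AddCommGroup R] [DistribMulAction L R]
    (j : R → K) : Prop where
  mem : ∀ a, j a ∈ A
  surj : ∀ k ∈ A, ∃ a, j a = k
  inj : Function.Injective j
  add : ∀ a b, j (a + b) = j a * j b
  smul : ∀ k a, j (ρ k • a) = k * j a * k⁻¹

namespace Embeds

variable {ρ : K →* L} {A : Subgroup K} {R : Type*} [AddCommGroup R] [DistribMulAction L R] {j : R → K}
  (hj : Embeds ρ A j)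

include hj

theorem zero : j 0 = 1 := by
  have h := hj.add 0 0
  rw [add_zero] at h
  exact right_eq_mul.1 h

theorem neg (a : R) : j (-a) = (j a)⁻¹ :=
  eq_inv_of_mul_eq_one_left (by rw [← hj.add, neg_add_cancel, hj.zero])

theorem nsmul (n : ℕ) (a : R) : j (n • a) = j a ^ n := by
  induction n with
  | zero => rw [zero_nsmul, pow_zero, hj.zero]
  | succ n ih => rw [succ_nsmul, pow_succ, hj.add, ih]

/-- The subgroup of an additive subgroup. -/
def sub (U : AddSubgroup R) : Subgroup K where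
  carrier := j '' U
  one_mem' := ⟨0, U.zero_mem, hj.zero⟩
  mul_mem' := by
    rintro _ _ ⟨a, ha, rfl⟩ ⟨b, hb, rfl⟩
    exact ⟨a + b, U.add_mem ha hb, hj.add a b⟩
  inv_mem' := by
    rintro _ ⟨a, ha, rfl⟩
    exact ⟨-a, U.neg_mem ha, hj.neg a⟩

theorem mem_sub {U : AddSubgroup R} {a : R} : j a ∈ hj.sub U ↔ a ∈ U :=
  ⟨fun ⟨b, hb, e⟩ => hj.inj e ▸ hb, fun h => ⟨a, h, rfl⟩⟩

theorem sub_le {U : AddSubgroup R} : hj.sub U ≤ A := by
  rintro _ ⟨a, -, rfl⟩
  exact hj.mem a

theorem card_sub (U : AddSubgroup R) : Nat.card (hj.sub U) = Nat.card U :=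
  Nat.card_congr ((Equiv.Set.image j (U : Set R) hj.inj).symm)

theorem conj_mul_inv (k : K) (a : R) : k * j a * k⁻¹ * (j a)⁻¹ = j (dis (ρ k) a) := by
  rw [dis_apply, sub_eq_add_neg, hj.add, hj.neg, hj.smul]

/-- The square of an element of a coset. -/
theorem coset_sq (a : R) (k : K) {r : R} (hr : j r = k * k) :
    j a * k * (j a * k) = j (a + ρ k • a + r) := by
  rw [hj.add, hj.add, hj.smul, hr]; group

/-- A power that lies in the subgroup is fixed. -/
theorem smul_pow (k : K) (n : ℕ) {r : R} (hr : j r = k ^ n) : ρ k • r = r := by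
  apply hj.inj
  rw [hj.smul, hr]
  group

end Embeds

variable [Finite K]

/-- A section of rank five from generators. -/
theorem rank_five (N : Subgroup K) (G : Set K) (hconj : ∀ g ∈ G, ∀ n ∈ N, g * n * g⁻¹ ∈ N)
    (hNle : N ≤ closure G) (hsq : ∀ g ∈ G, g * g ∈ N)
    (hcomm : ∀ a ∈ G, ∀ b ∈ G, a * b * a⁻¹ * b⁻¹ ∈ N)
    (hcard : 32 * Nat.card N ≤ Nat.card (closure G)) : ¬ Cfsg.SectionalPRankLE 2 4 K := by
  intro hK
  set S := closure G with hS
  have hnorm : S ≤ normalizer (N : Set K) := (closure_le _).2 fun g hg => by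
    have hle : N.map (MulAut.conj g).toMonoidHom ≤ N := by
      rintro _ ⟨n, hn, rfl⟩
      exact hconj g hg n hn
    have heq : N.map (MulAut.conj g).toMonoidHom = N :=
      eq_of_le_of_card_ge hle (card_map_of_injective (MulAut.conj g).injective).ge
    refine mem_normalizer_iff.2 fun n => ⟨hconj g hg n, fun h => ?_⟩
    rw [← heq] at h
    obtain ⟨m, hm, hmn⟩ := h
    have hmn' : g * m * g⁻¹ = g * n * g⁻¹ := hmn
    rwa [← mul_left_cancel (mul_right_cancel hmn')]
  haveI hNn : (N.subgroupOf S).Normal := (normal_subgroupOf_iff_le_normalizer hNle).2 hnorm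
  let π := QuotientGroup.mk' (N.subgroupOf S)
  have hzero : ∀ x : S, x.1 ∈ N → π x = 1 := fun x hx =>
    (QuotientGroup.eq_one_iff _).2 (mem_subgroupOf.2 hx)
  have hgen : closure (π '' ((↑) ⁻¹' G)) = ⊤ := by
    rw [← MonoidHom.map_closure, closure_closure_coe_preimage,
      map_top_of_surjective π (QuotientGroup.mk'_surjective _)]
  obtain ⟨hc, he⟩ := elementary_of_generators hgen
    (by
      rintro _ ⟨a, ha, rfl⟩ _ ⟨b, hb, rfl⟩
      rw [← mul_inv_eq_one, mul_inv_rev, ← mul_assoc, ← map_inv, ← map_inv, ← map_mul, ← map_mul,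
        ← map_mul]
      exact hzero _ (hcomm _ ha _ hb))
    (by
      rintro _ ⟨a, ha, rfl⟩
      rw [← map_mul]
      exact hzero _ (hsq _ ha))
  have hb := hK S (N.subgroupOf S) ⊤ hc he
  rw [card_top] at hb
  have hq := card_eq_card_quotient_mul_card_subgroup (N.subgroupOf S)
  rw [Nat.card_congr (subgroupOfEquivOfLe hNle).toEquiv] at hq
  have hpos : 0 < Nat.card N := Nat.card_pos
  nlinarith

variable {ρ : K →* L} {A : Subgroup K} {R : Type*} [AddCommGroup R] [DistribMulAction L R] {j : R → K}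

/-- The doubles in an additive subgroup. -/
def twice (U : AddSubgroup R) : AddSubgroup R := U.map (nsmulAddMonoidHom 2)

theorem mem_twice {U : AddSubgroup R} {a : R} : a ∈ twice U ↔ ∃ u ∈ U, u + u = a := by
  simp [twice, AddSubgroup.mem_map, two_nsmul]

omit [Finite K] in
theorem card_ker_two [Finite R] :
    Nat.card (nsmulAddMonoidHom 2 : R →+ R).ker * Nat.card (nsmulAddMonoidHom 2 : R →+ R).range =
      Nat.card R := by
  rw [← AddSubgroup.index_ker, AddSubgroup.card_mul_index]

/-- A subgroup containing all involutions, with an element squaring into its doubles. -/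
theorem involution_criterion (hj : Embeds ρ A j) [Finite R] {U : AddSubgroup R}
    (hΩ : ∀ a : R, a + a = 0 → a ∈ U) (h16 : Nat.card (nsmulAddMonoidHom 2 : R →+ R).ker = 16)
    {z : K} (hz : z ∉ A) {n : R} (hn : n ∈ twice U) (hzz : j n = z * z)
    (hU : ∀ u ∈ U, dis (ρ z) u ∈ twice U) : ¬ Cfsg.SectionalPRankLE 2 4 K := by
  classical
  have hsub : twice U ≤ U := fun a ha => by
    obtain ⟨u, hu, rfl⟩ := mem_twice.1 ha
    exact add_mem hu hu
  set G : Set K := j '' U ∪ {z} with hG
  have hUle : hj.sub U ≤ closure G := fun x hx => subset_closure (Or.inl hx)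
  have habel : ∀ a b : R, j a * j b = j b * j a := fun a b => by rw [← hj.add, add_comm, hj.add]
  refine rank_five (hj.sub (twice U)) G ?_
    (fun x hx => hUle (by obtain ⟨a, ha, rfl⟩ := hx; exact ⟨a, hsub ha, rfl⟩)) ?_ ?_ ?_
  · rintro g (⟨a, -, rfl⟩ | rfl) _ ⟨m, hm, rfl⟩
    · rw [habel, mul_inv_cancel_right]
      exact ⟨m, hm, rfl⟩
    · rw [← hj.smul, hj.mem_sub, ← sub_add_cancel (ρ g • m) m, ← dis_apply]
      exact add_mem (hU m (hsub hm)) hm
  · rintro g (⟨a, ha, rfl⟩ | rfl)
    · rw [← hj.add, hj.mem_sub]; exact mem_twice.2 ⟨a, ha, rfl⟩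
    · exact ⟨n, hn, hzz⟩
  · rintro a (⟨u, hu, rfl⟩ | rfl) b (⟨v, hv, rfl⟩ | rfl)
    · rw [habel, mul_inv_cancel_right, mul_inv_cancel]; exact one_mem _
    · rw [show j u * b * (j u)⁻¹ * b⁻¹ = (b * j u * b⁻¹ * (j u)⁻¹)⁻¹ by group, hj.conj_mul_inv]
      exact inv_mem (hj.mem_sub.2 (hU u hu))
    · rw [hj.conj_mul_inv]; exact hj.mem_sub.2 (hU v hv)
    · rw [mul_inv_cancel_right, mul_inv_cancel]; exact one_mem _
  · set d := (nsmulAddMonoidHom 2 : R →+ R).comp U.subtype with hd
    have hker : Nat.card d.ker = 16 := by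
      rw [← h16]
      refine Nat.card_congr
        { toFun := fun a => ⟨a.1.1, a.2⟩
          invFun := fun a => ⟨⟨a.1, hΩ a.1 (by
            have h := AddMonoidHom.mem_ker.1 a.2
            rwa [nsmulAddMonoidHom_apply, two_nsmul] at h)⟩, a.2⟩
          left_inv := fun a => rfl
          right_inv := fun a => rfl }
    have hran : d.range = twice U := by rw [hd, AddMonoidHom.range_comp, AddSubgroup.range_subtype]; rfl
    have hUcard := d.ker.card_mul_index
    rw [AddSubgroup.index_ker, hker, hran, ← hj.card_sub U, ← hj.card_sub (twice U)] at hUcard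
    have hzU : z ∉ hj.sub U := fun h => hz (hj.sub_le h)
    have hm := card_mul_index ((hj.sub U).subgroupOf (closure G))
    rw [Nat.card_congr (subgroupOfEquivOfLe hUle).toEquiv] at hm
    have h2 : 1 < ((hj.sub U).subgroupOf (closure G)).index := one_lt_index_of_ne_top fun h => by
      rw [subgroupOf_eq_top] at h
      exact hzU (h (subset_closure (Or.inr rfl)))
    nlinarith

/-- Two elements generating a four-group modulo the kernel, over a subgroup of index eight. -/
theorem pair_criterion (hj : Embeds ρ A j) (hker : A ≤ ρ.ker) [Finite R] {N U : AddSubgroup R}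
    (hNU : N ≤ U) (hcard : 8 * Nat.card N ≤ Nat.card U) (h2 : ∀ u ∈ U, u + u ∈ N)
    {e f : K} (he1 : ρ e ≠ 1) (hf1 : ρ f ≠ 1) (hef : ρ e ≠ ρ f)
    {ne nf ng : R} (hne : ne ∈ N) (hnf : nf ∈ N) (hng : ng ∈ N) (hse : j ne = e * e)
    (hsf : j nf = f * f) (hsg : j ng = e * f * (e * f))
    (hUe : ∀ u ∈ U, dis (ρ e) u ∈ N) (hUf : ∀ u ∈ U, dis (ρ f) u ∈ N) :
    ¬ Cfsg.SectionalPRankLE 2 4 K := by
  classical
  set G : Set K := j '' U ∪ {e, f} with hG
  have hUle : hj.sub U ≤ closure G := fun x hx => subset_closure (Or.inl hx)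
  have habel : ∀ a b : R, j a * j b = j b * j a := fun a b => by rw [← hj.add, add_comm, hj.add]
  have hdis : ∀ g ∈ ({e, f} : Set K), ∀ u ∈ U, dis (ρ g) u ∈ N := by
    rintro g (rfl | rfl)
    exacts [hUe, hUf]
  have hconjN : ∀ g ∈ ({e, f} : Set K), ∀ n ∈ N, ρ g • n ∈ N := fun g hg n hn => by
    rw [← sub_add_cancel (ρ g • n) n, ← dis_apply]
    exact add_mem (hdis g hg n (hNU hn)) hn
  have hcomm' : e * f * e⁻¹ * f⁻¹ ∈ hj.sub N := by
    rw [show e * f * e⁻¹ * f⁻¹ = e * f * (e * f) * (f⁻¹ * (e * e)⁻¹ * f * (f * f)⁻¹) by group,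
      ← hsg, ← hse, ← hsf]
    refine mul_mem (hj.mem_sub.2 hng) (mul_mem ?_ (inv_mem (hj.mem_sub.2 hnf)))
    rw [← hj.neg, show f⁻¹ * j (-ne) * f = f * ((f * f)⁻¹ * j (-ne) * (f * f)) * f⁻¹ by group, ← hsf,
      ← hj.neg nf, ← hj.add, ← hj.add, neg_add_cancel_comm, ← hj.smul]
    exact hj.mem_sub.2 (hconjN f (Or.inr rfl) _ (neg_mem hne))
  refine rank_five (hj.sub N) G ?_
    (fun x hx => hUle (by obtain ⟨a, ha, rfl⟩ := hx; exact ⟨a, hNU ha, rfl⟩)) ?_ ?_ ?_
  · rintro g (⟨a, -, rfl⟩ | hg) _ ⟨m, hm, rfl⟩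
    · rw [habel, mul_inv_cancel_right]
      exact ⟨m, hm, rfl⟩
    · rw [← hj.smul]; exact hj.mem_sub.2 (hconjN g hg m hm)
  · rintro g (⟨a, ha, rfl⟩ | rfl | rfl)
    · rw [← hj.add]; exact hj.mem_sub.2 (h2 a ha)
    · exact ⟨ne, hne, hse⟩
    · exact ⟨nf, hnf, hsf⟩
  · rintro a (⟨u, hu, rfl⟩ | ha) b (⟨v, hv, rfl⟩ | hb)
    · rw [habel, mul_inv_cancel_right, mul_inv_cancel]; exact one_mem _
    · rw [show j u * b * (j u)⁻¹ * b⁻¹ = (b * j u * b⁻¹ * (j u)⁻¹)⁻¹ by group, hj.conj_mul_inv]
      exact inv_mem (hj.mem_sub.2 (hdis b hb u hu))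
    · rw [hj.conj_mul_inv]; exact hj.mem_sub.2 (hdis a ha v hv)
    · rcases ha with rfl | rfl <;> rcases hb with rfl | rfl
      · rw [mul_inv_cancel_right, mul_inv_cancel]; exact one_mem _
      · exact hcomm'
      · rw [show a * b * a⁻¹ * b⁻¹ = (b * a * b⁻¹ * a⁻¹)⁻¹ by group]; exact inv_mem hcomm'
      · rw [mul_inv_cancel_right, mul_inv_cancel]; exact one_mem _
  · set S := closure G
    let φ : S →* L := ρ.comp S.subtype
    have hm := card_mul_index φ.ker
    rw [index_ker] at hm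
    have hk : Nat.card U ≤ Nat.card φ.ker := by
      refine Nat.card_le_card_of_injective (fun u : U => ⟨⟨j u.1, hUle ⟨u.1, u.2, rfl⟩⟩,
        MonoidHom.mem_ker.2 (MonoidHom.mem_ker.1 (hker (hj.mem u.1)))⟩) fun a b h => ?_
      exact Subtype.ext (hj.inj (congrArg (fun x : φ.ker => ((x : S) : K)) h))
    have h4 : 4 ≤ Nat.card φ.range := by
      haveI : Finite φ.range := Finite.of_surjective _ φ.rangeRestrict_surjective
      have heS : ρ e ∈ φ.range := ⟨⟨e, subset_closure (Or.inr (Or.inl rfl))⟩, rfl⟩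
      have hfS : ρ f ∈ φ.range := ⟨⟨f, subset_closure (Or.inr (Or.inr rfl))⟩, rfl⟩
      let F : Fin 4 → φ.range := ![1, ⟨_, heS⟩, ⟨_, hfS⟩, ⟨_, mul_mem heS hfS⟩]
      have he2 : ρ e * ρ e = 1 := by
        rw [← map_mul, ← hse]; exact MonoidHom.mem_ker.1 (hker (hj.mem ne))
      have h3 : ρ e * ρ f ≠ 1 := fun h => hef (mul_left_cancel (he2.trans h.symm))
      have hF : Function.Injective F := by
        intro i k h
        have h' := congrArg Subtype.val h
        fin_cases i <;> fin_cases k <;> simp [F] at h' <;> first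
          | rfl
          | exact absurd h' he1
          | exact absurd h'.symm he1
          | exact absurd h' hf1
          | exact absurd h'.symm hf1
          | exact absurd h' hef
          | exact absurd h'.symm hef
          | exact absurd h' h3
          | exact absurd h'.symm h3
          | exact absurd h' (fun e => hf1 (by simpa using e))
      simpa using Nat.card_le_card_of_injective F hF
    rw [hj.card_sub]
    have := Nat.mul_le_mul hk h4
    omega

section Act

variable (ρ) (A) [hA : A.Normal]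

omit [Finite K] in
theorem act_exists (hρ : Function.Surjective ρ) (hc : ∀ k, ρ k = 1 → ∀ a ∈ A, k * a * k⁻¹ = a) :
    ∃ φ : L →* MulAut A, ∀ k, φ (ρ k) = MulAut.conjNormal k := by
  have hle : ρ.ker ≤ (MulAut.conjNormal (H := A) : K →* MulAut A).ker := fun k hk =>
    MonoidHom.mem_ker.2 (MulEquiv.ext fun a => Subtype.ext (by
      simp only [MulAut.conjNormal_apply, MulAut.one_apply]
      exact hc k (MonoidHom.mem_ker.1 hk) a.1 a.2))
  refine ⟨(QuotientGroup.lift ρ.ker _ hle).comp
    (QuotientGroup.quotientKerEquivOfSurjective ρ hρ).symm.toMonoidHom, fun k => ?_⟩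
  have h : (QuotientGroup.quotientKerEquivOfSurjective ρ hρ).symm (ρ k) = (k : K ⧸ ρ.ker) := by
    rw [MulEquiv.symm_apply_eq]; rfl
  show QuotientGroup.lift ρ.ker _ hle ((QuotientGroup.quotientKerEquivOfSurjective ρ hρ).symm (ρ k)) = _
  rw [h]; rfl

/-- The module of an abelian normal subgroup centralised by the kernel. -/
noncomputable abbrev act (hρ : Function.Surjective ρ) (hab : ∀ a ∈ A, ∀ b ∈ A, a * b = b * a)
    (hc : ∀ k, ρ k = 1 → ∀ a ∈ A, k * a * k⁻¹ = a) :
    letI := commGrp A hab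
    DistribMulAction L (Additive A) :=
  letI := commGrp A hab
  { smul := fun g a => Additive.ofMul ((Classical.choose (act_exists ρ A hρ hc)) g a.toMul)
    one_smul := fun a => by
      show Additive.ofMul ((Classical.choose (act_exists ρ A hρ hc)) 1 a.toMul) = a
      rw [map_one]; rfl
    mul_smul := fun g k a => by
      show Additive.ofMul ((Classical.choose (act_exists ρ A hρ hc)) (g * k) a.toMul) = _
      rw [map_mul]; rfl
    smul_zero := fun g => by
      show Additive.ofMul ((Classical.choose (act_exists ρ A hρ hc)) g 1) = 0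
      rw [map_one]; rfl
    smul_add := fun g a b => by
      show Additive.ofMul ((Classical.choose (act_exists ρ A hρ hc)) g (a.toMul * b.toMul)) = _
      rw [map_mul]; rfl }

omit [Finite K] in
theorem embeds_act (hρ : Function.Surjective ρ) (hab : ∀ a ∈ A, ∀ b ∈ A, a * b = b * a)
    (hc : ∀ k, ρ k = 1 → ∀ a ∈ A, k * a * k⁻¹ = a) :
    letI := commGrp A hab
    letI := act ρ A hρ hab hc
    Embeds ρ A (fun a : Additive A => ((Additive.toMul a : A) : K)) := by
  letI := commGrp A hab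
  letI := act ρ A hρ hab hc
  refine ⟨fun a => a.toMul.2, fun k hk => ⟨Additive.ofMul ⟨k, hk⟩, rfl⟩,
    fun a b h => Additive.toMul.injective (Subtype.ext h), fun a b => rfl, fun k a => ?_⟩
  show ((Classical.choose (act_exists ρ A hρ hc)) (ρ k) a.toMul : K) = _
  rw [Classical.choose_spec (act_exists ρ A hρ hc), MulAut.conjNormal_apply]

end Act

end Cfsg.Lib.Small.SecRankFour.Linear
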