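import Cfsg.Agent.Lib.Small.SecRankFour.Linear.Embeds

/-!
# Modules of exponent four
-/

set_option autoImplicit false

namespace Cfsg.Lib.Small.SecRankFour.Linear

variable {L : Type*} [Group L] {R : Type*} [AddCommGroup R] [DistribMulAction L R]

/-- The elements of order at most two. -/
abbrev tor (R : Type*) [AddCommGroup R] : AddSubgroup R := (nsmulAddMonoidHom 2 : R →+ R).ker

omit [DistribMulAction L R] in
theorem mem_tor {a : R} : a ∈ tor R ↔ a + a = 0 := by
  rw [AddMonoidHom.mem_ker, nsmulAddMonoidHom_apply, two_nsmul]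

theorem tor_inv (g : L) (a : R) (ha : a ∈ tor R) : g • a ∈ tor R := by
  rw [mem_tor, ← smul_add, mem_tor.1 ha, smul_zero]

theorem dis_comm {g k : L} (h : Commute g k) (v : R) : dis g (dis k v) = dis k (dis g v) := by
  simp only [dis_apply, smul_sub]
  rw [← mul_smul, ← mul_smul, h.eq]
  abel

theorem dis_dis' (g : L) (v : R) : dis (g * g) v = dis g (dis g v) + (dis g v + dis g v) := by
  simp only [dis_apply, smul_sub, mul_smul]
  abel

theorem four_zero (h4 : ∀ a : R, a + a + (a + a) = 0) (a : R) : -(a + a) = a + a :=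
  neg_eq_of_add_eq_zero_left (h4 a)

theorem dis_four' (h4 : ∀ a : R, a + a + (a + a) = 0) {s : L} (hs : orderOf s = 4) (v : R) :
    dis s (dis s (dis s (dis s v))) = dis s (dis s v) + dis s (dis s v) := by
  have h1 : s * s * (s * s) = 1 := by
    calc s * s * (s * s) = s ^ 4 := by simp [pow_succ, mul_assoc]
      _ = 1 := by rw [← hs, pow_orderOf_eq_one]
  have h := dis_dis' (s * s) v
  rw [h1, dis_eq_zero.2 (one_smul L v)] at h
  simp only [dis_dis', map_add] at h
  set a := dis s (dis s (dis s (dis s v)))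
  set b := dis s (dis s (dis s v))
  set c := dis s (dis s v)
  set d := dis s v
  have e : a + (c + c) + ((b + b + (b + b)) + (c + c + (c + c)) + (d + d + (d + d))) = 0 := by
    rw [eq_comm] at h
    rw [← h]
    abel
  rw [h4, h4, h4, add_zero, add_zero, add_zero] at e
  rw [← four_zero h4 c]
  exact eq_neg_of_add_eq_zero_left e

theorem inv_sq {s : L} (hs : orderOf s = 4) (v : R) : (s * s) • (s * s) • v = v := by
  rw [← mul_smul, show s * s * (s * s) = s ^ 4 by simp [pow_succ, mul_assoc], ← hs, pow_orderOf_eq_one,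
    one_smul]

omit [DistribMulAction L R] in
/-- A basis over the integers modulo four. -/
theorem basis_four [Finite R] [Module (ZMod 4) R] (hR : Nat.card R = 64) (x y z : R)
    (hinj : ∀ a b c : ZMod 2, a.val • (x + x) + b.val • (y + y) + c.val • (z + z) = 0 →
      a = 0 ∧ b = 0 ∧ c = 0) :
    ∃ φ : (Fin 3 → ZMod 4) ≃ₗ[ZMod 4] R, ∀ p, φ p = p 0 • x + p 1 • y + p 2 • z := by
  let f : (Fin 3 → ZMod 4) →ₗ[ZMod 4] R :=
    { toFun := fun p => p 0 • x + p 1 • y + p 2 • z
      map_add' := fun p q => by simp only [Pi.add_apply, add_smul]; abel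
      map_smul' := fun r p => by simp [mul_smul, smul_add] }
  have hdig : ∀ a : ZMod 4, ∃ a₀ a₁ : ZMod 2, a = (a₀.val : ZMod 4) + 2 * (a₁.val : ZMod 4) := by decide
  have hinjf : Function.Injective f := by
    refine (injective_iff_map_eq_zero f).2 fun p hp => ?_
    obtain ⟨a, a', ha⟩ := hdig (p 0)
    obtain ⟨b, b', hb⟩ := hdig (p 1)
    obtain ⟨c, c', hc⟩ := hdig (p 2)
    have h4 : ∀ v : R, v + v + (v + v) = 0 := fun v => by
      rw [show v + v + (v + v) = (4 : ℕ) • v by simp [succ_nsmul]; abel, ← Nat.cast_smul_eq_nsmul (ZMod 4),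
        show ((4 : ℕ) : ZMod 4) = 0 by decide, zero_smul]
    have hexp : ∀ (a a' : ZMod 2) (v : R),
        ((a.val : ZMod 4) + 2 * (a'.val : ZMod 4)) • v = a.val • v + a'.val • (v + v) := fun a a' v => by
      rw [add_smul, mul_comm, mul_smul, Nat.cast_smul_eq_nsmul, Nat.cast_smul_eq_nsmul, two_smul]
    have hp' : a.val • x + a'.val • (x + x) + (b.val • y + b'.val • (y + y)) +
        (c.val • z + c'.val • (z + z)) = 0 := by
      rw [← hexp, ← hexp, ← hexp, ← ha, ← hb, ← hc]; exact hp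
    obtain ⟨rfl, rfl, rfl⟩ := hinj a b c (by
      have h := congrArg (fun v => v + v) hp'
      simp only [add_zero] at h
      rw [← h]
      have e : ∀ (n : ℕ) (v : R), n • (v + v) + n • (v + v) = 0 := fun n v => by
        rw [← nsmul_add, h4, nsmul_zero]
      rw [← add_zero (a.val • (x + x) + b.val • (y + y) + c.val • (z + z)), ← e a'.val x, ← add_zero
        (a.val • (x + x) + b.val • (y + y) + c.val • (z + z) + _), ← e b'.val y, ← add_zero
        (a.val • (x + x) + b.val • (y + y) + c.val • (z + z) + _ + _), ← e c'.val z, nsmul_add, nsmul_add,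
        nsmul_add]
      abel)
    simp only [ZMod.val_zero, zero_nsmul, zero_add] at hp'
    obtain ⟨rfl, rfl, rfl⟩ := hinj a' b' c' hp'
    funext i
    fin_cases i <;> simp [ha, hb, hc]
  exact ⟨LinearEquiv.ofBijective f ((Nat.bijective_iff_injective_and_card f).2 ⟨hinjf, by
    rw [hR, Nat.card_fun, Nat.card_fin, Nat.card_zmod]; rfl⟩), fun p => rfl⟩

/-- The determinant of a monoid acting on a free module of exponent four. -/
noncomputable def detHom (G R : Type*) [Group G] [AddCommGroup R] [Module (ZMod 4) R]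
    [DistribMulAction G R] : G →* (ZMod 4)ˣ :=
  MonoidHom.toHomUnits
    { toFun := fun g => LinearMap.det ((DistribSMul.toAddMonoidHom R g).toZModLinearMap 4)
      map_one' := by
        rw [show (DistribSMul.toAddMonoidHom R (1 : G)).toZModLinearMap 4 = LinearMap.id from
          LinearMap.ext fun v => one_smul G v, LinearMap.det_id]
      map_mul' := fun g k => by
        rw [show (DistribSMul.toAddMonoidHom R (g * k)).toZModLinearMap 4 =
          ((DistribSMul.toAddMonoidHom R g).toZModLinearMap 4).comp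
            ((DistribSMul.toAddMonoidHom R k).toZModLinearMap 4) from
          LinearMap.ext fun v => mul_smul g k v, LinearMap.det_comp] }

omit [DistribMulAction L R] in
/-- The determinant read off in a basis. -/
theorem detHom_eq {G : Type*} [Group G] [DistribMulAction G R] [Module (ZMod 4) R]
    (φ : (Fin 3 → ZMod 4) ≃ₗ[ZMod 4] R) (g : G) (A : Matrix (Fin 3) (Fin 3) (ZMod 4))
    (h : ∀ p, g • φ p = φ (A.mulVec p)) : ((detHom G R g : (ZMod 4)ˣ) : ZMod 4) = A.det := by
  have e : (DistribSMul.toAddMonoidHom R g).toZModLinearMap 4 =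
      (φ : (Fin 3 → ZMod 4) →ₗ[ZMod 4] R) ∘ₗ Matrix.toLin' A ∘ₗ (φ.symm : R →ₗ[ZMod 4] _) :=
    LinearMap.ext fun v => by
      obtain ⟨p, rfl⟩ := φ.surjective v
      simpa using h p
  show LinearMap.det ((DistribSMul.toAddMonoidHom R g).toZModLinearMap 4) = _
  rw [e, LinearMap.det_conj, LinearMap.det_toLin']

variable [Finite L] [IsSimpleGroup L] (hL : Nat.card L = 168)
include hL

/-- The involutions in an invariant subgroup receiving all displacements form a natural module. -/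
theorem tor_nontrivial (C : AddSubgroup R) (hCi : ∀ (g : L), ∀ c ∈ C, g • c ∈ C)
    (h4 : ∀ a : R, a + a + (a + a) = 0)
    (hdC : ∀ (g : L) (v : R), dis g v ∈ C) (h2C : ∀ v : R, v + v ∈ C)
    (hnt : ∃ (g : L) (v : R), g • v ≠ v) :
    letI := subAct (C ⊓ tor R) (fun g c hc => ⟨hCi g c hc.1, tor_inv g c hc.2⟩)
    ∃ (g : L) (c : (C ⊓ tor R : AddSubgroup R)), g • c ≠ c := by
  letI := subAct (C ⊓ tor R) (fun g c hc => ⟨hCi g c hc.1, tor_inv g c hc.2⟩)
  by_contra hcon
  push Not at hcon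
  obtain ⟨g, v, hv⟩ := hnt
  have hfix : ∀ (g : L), ∀ c ∈ C ⊓ tor R, g • c = c := fun g c hc => congrArg Subtype.val (hcon g ⟨c, hc⟩)
  refine hv (dis_eq_zero_of_fixed hL (fun a b w => hfix a _ ⟨hdC b w, mem_tor.2 ?_⟩) g v)
  rw [← map_add, dis_eq_zero]
  exact hfix b _ ⟨h2C w, mem_tor.2 (h4 w)⟩

/-- Coordinates on the involutions of a homocyclic part. -/
theorem halves [Finite R] (C : AddSubgroup R) (hCi : ∀ (g : L), ∀ c ∈ C, g • c ∈ C)
    (h4 : ∀ a : R, a + a + (a + a) = 0) (h8 : Nat.card (C ⊓ tor R : AddSubgroup R) = 8)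
    (hdC : ∀ (g : L) (v : R), dis g v ∈ C) (h2C : ∀ v : R, v + v ∈ C)
    (hnt : ∃ (g : L) (v : R), g • v ≠ v)
    (hdiv : ∀ a ∈ C, a + a = 0 → ∃ y ∈ C, y + y = a) {s : L} (hs : orderOf s = 4) :
    ∃ (x : R) (c : ZMod 2) (e : ZMod 2 × ZMod 2 × ZMod 2 →+ R) (k₁ k₂ : L), x ∈ C ∧
      Function.Injective e ∧ (∀ p, e p ∈ C ∧ e p + e p = 0) ∧ (∀ a ∈ C, a + a = 0 → ∃ p, e p = a) ∧
      (∀ a b c, dis s (e (a, b, c)) = e (0, a, b)) ∧
      (∀ a b c, dis (s * s) (e (a, b, c)) = e (0, 0, a)) ∧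
      (∀ a b c, k₁ • e (a, b, c) = e (b, a, c)) ∧ (∀ a b c, k₂ • e (a, b, c) = e (a + b, b, c)) ∧
      (∀ a b c, dis (k₂ * (s * s) * k₂⁻¹) (e (a, b, c)) = e (0, 0, a + b)) ∧
      k₂ * (s * s) * k₂⁻¹ = s * s * (k₁ * (s * s) * k₁⁻¹) ∧
      e (1, 0, 0) = x + x ∧ e (0, 1, 0) = dis s x + dis s x ∧
      e (0, 0, 1) = dis s (dis s x) + dis s (dis s x) ∧
      dis s (dis s (dis s x)) = e (0, 1, c) := by
  set Hi : ∀ (g : L), ∀ c ∈ C ⊓ tor R, g • c ∈ C ⊓ tor R :=
    fun g c hc => ⟨hCi g c hc.1, tor_inv g c hc.2⟩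
  letI := subAct (C ⊓ tor R) Hi
  have hMnt := tor_nontrivial hL C hCi h4 hdC h2C hnt
  have h2M : ∀ m : (C ⊓ tor R : AddSubgroup R), m + m = 0 := fun m => Subtype.ext (mem_tor.1 m.2.2)
  obtain ⟨e, k₁, k₂, he, ht, hk₁, hk₂, -, hg, hprod⟩ := pencil hL h2M h8 hMnt hs
  obtain ⟨x, hxC, hx⟩ := hdiv _ (e (1, 0, 0)).2.1 (mem_tor.1 (e (1, 0, 0)).2.2)
  have hval : ∀ (g : L) (m : (C ⊓ tor R : AddSubgroup R)), ((dis g m : _) : R) = dis g m.1 := fun g m => rfl
  let e' : ZMod 2 × ZMod 2 × ZMod 2 →+ R := (C ⊓ tor R).subtype.comp e.toAddMonoidHom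
  have he' : ∀ a b c, dis s (e' (a, b, c)) = e' (0, a, b) := fun a b c => by
    show dis s (e (a, b, c)).1 = (e (0, a, b)).1
    rw [← hval, he]
  have h010 : e' (0, 1, 0) = dis s x + dis s x := by
    rw [← map_add, hx]; exact (he' 1 0 0).symm
  have h001 : e' (0, 0, 1) = dis s (dis s x) + dis s (dis s x) := by
    rw [← map_add, ← h010]; exact (he' 0 1 0).symm
  set d := dis s (dis s (dis s x)) with hd
  have hd0 : d + d = 0 := by
    rw [hd, ← map_add, ← h001]
    exact (he' 0 0 1).trans (map_zero e')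
  obtain ⟨⟨a, b, c⟩, hp⟩ := e.surjective ⟨d, hdC _ _, mem_tor.2 hd0⟩
  have hp' : e' (a, b, c) = d := congrArg Subtype.val hp
  have h := he' a b c
  rw [hp', hd, dis_four' h4 hs, ← h001] at h
  have hinj : Function.Injective e' := fun p q h => e.injective (Subtype.ext h)
  have hab := hinj h
  simp only [Prod.mk.injEq] at hab
  obtain ⟨-, rfl, rfl⟩ := hab
  refine ⟨x, c, e', k₁, k₂, hxC, hinj, fun p => ⟨(e p).2.1, mem_tor.1 (e p).2.2⟩,
    fun a ha ha' => ?_, he', fun a b c => ?_, fun a b c => ?_, fun a b c => ?_, fun a b c => ?_, hprod,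
    hx.symm, h010, h001, hp'.symm⟩
  · obtain ⟨p, hp⟩ := e.surjective ⟨a, ha, mem_tor.2 ha'⟩
    exact ⟨p, congrArg Subtype.val hp⟩
  · show dis (s * s) (e (a, b, c)).1 = (e (0, 0, a)).1
    rw [← hval, ht]
  · exact congrArg Subtype.val (hk₁ a b c)
  · exact congrArg Subtype.val (hk₂ a b c)
  · show dis _ (e (a, b, c)).1 = (e (0, 0, a + b)).1
    rw [← hval, hg]

end Cfsg.Lib.Small.SecRankFour.Linear
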