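import Cfsg.Agent.Lib.Small.SecRankFour.Linear.Embeds

/-!
# Sections of a finite group as modules, their commutator forms and squaring maps
-/

set_option autoImplicit false

namespace Cfsg.Lib.Small.SecRankFour.Linear

open Subgroup

universe u

variable {K : Type u} [Group K] [Finite K] {L : Type*} [Group L]

/-- A section of a group as a module. -/
structure Sec (ρ : K →* L) (A B : Subgroup K) {W : Type*} [AddCommGroup W] [DistribMulAction L W]
    (c : K → W) : Prop where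
  le : B ≤ A
  surj : ∀ x : W, ∃ a ∈ A, c a = x
  map_mul : ∀ a ∈ A, ∀ b ∈ A, c (a * b) = c a + c b
  ker : ∀ a ∈ A, c a = 0 ↔ a ∈ B
  map_smul : ∀ k, ∀ a ∈ A, c (k * a * k⁻¹) = ρ k • c a

namespace Sec

variable {ρ : K →* L} {A B : Subgroup K} {W : Type*} [AddCommGroup W] [DistribMulAction L W] {c : K → W}
  (hc : Sec ρ A B c)

include hc

omit [Finite K] in
theorem one : c 1 = 0 := (hc.ker 1 (one_mem A)).2 (one_mem B)

omit [Finite K] in
theorem map_inv {a : K} (ha : a ∈ A) : c a⁻¹ = -c a :=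
  eq_neg_of_add_eq_zero_left (by rw [← hc.map_mul _ (inv_mem ha) _ ha, inv_mul_cancel, hc.one])

omit [Finite K] in
theorem eq_iff {a b : K} (ha : a ∈ A) (hb : b ∈ A) : c a = c b ↔ a⁻¹ * b ∈ B := by
  rw [← hc.ker _ (mul_mem (inv_mem ha) hb), hc.map_mul _ (inv_mem ha) _ hb, hc.map_inv ha,
    neg_add_eq_zero]

omit [Finite K] in
theorem mul_right {a d : K} (ha : a ∈ A) (hd : d ∈ B) : c (a * d) = c a := by
  rw [hc.map_mul a ha d (hc.le hd), (hc.ker d (hc.le hd)).2 hd, add_zero]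

omit [Finite K] in
theorem two (h : ∀ a ∈ A, a * a ∈ B) (x : W) : x + x = 0 := by
  obtain ⟨a, ha, rfl⟩ := hc.surj x
  rw [← hc.map_mul a ha a ha, hc.ker _ (mul_mem ha ha)]
  exact h a ha

/-- The preimage of a subgroup of the section. -/
def pre (C : AddSubgroup W) : Subgroup K where
  carrier := {a | a ∈ A ∧ c a ∈ C}
  one_mem' := ⟨one_mem A, by rw [hc.one]; exact C.zero_mem⟩
  mul_mem' := fun {a b} ha hb => ⟨mul_mem ha.1 hb.1, by rw [hc.map_mul a ha.1 b hb.1]; exact C.add_mem ha.2 hb.2⟩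
  inv_mem' := fun {a} ha => ⟨inv_mem ha.1, by rw [hc.map_inv ha.1]; exact C.neg_mem ha.2⟩

omit [Finite K] in
theorem mem_pre {C : AddSubgroup W} {a : K} : a ∈ hc.pre C ↔ a ∈ A ∧ c a ∈ C := Iff.rfl

omit [Finite K] in
theorem pre_le (C : AddSubgroup W) : hc.pre C ≤ A := fun _ h => h.1

omit [Finite K] in
theorem le_pre (C : AddSubgroup W) : B ≤ hc.pre C :=
  fun a ha => ⟨hc.le ha, by rw [(hc.ker a (hc.le ha)).2 ha]; exact C.zero_mem⟩

omit [Finite K] in
theorem pre_normal (hA : A.Normal) {C : AddSubgroup W} (hC : ∀ (g : L), ∀ x ∈ C, g • x ∈ C) :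
    (hc.pre C).Normal :=
  ⟨fun a ha k => ⟨hA.conj_mem a ha.1 k, by rw [hc.map_smul k a ha.1]; exact hC _ _ ha.2⟩⟩

theorem card_pre (C : AddSubgroup W) : Nat.card (hc.pre C) = Nat.card C * Nat.card B := by
  choose r hrA hr using fun x : C => hc.surj x.1
  rw [← Nat.card_prod]
  refine (Nat.card_congr (Equiv.ofBijective (fun p : C × B => (⟨r p.1 * p.2.1,
    ⟨mul_mem (hrA p.1) (hc.le p.2.2), by rw [hc.mul_right (hrA p.1) p.2.2, hr]; exact p.1.2⟩⟩ :
      hc.pre C)) ⟨fun p q h => ?_, fun a => ?_⟩)).symm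
  · have h' : r p.1 * p.2.1 = r q.1 * q.2.1 := congrArg Subtype.val h
    have h1 := congrArg c h'
    rw [hc.mul_right (hrA _) p.2.2, hc.mul_right (hrA _) q.2.2, hr, hr] at h1
    have h2 : p.1 = q.1 := Subtype.ext h1
    rw [h2] at h'
    exact Prod.ext h2 (Subtype.ext (mul_left_cancel h'))
  · have hb : (r ⟨c a.1, a.2.2⟩)⁻¹ * a.1 ∈ B :=
      (hc.eq_iff (hrA _) a.2.1).1 (hr _)
    exact ⟨(⟨c a.1, a.2.2⟩, ⟨_, hb⟩), Subtype.ext (mul_inv_cancel_left _ _)⟩

theorem card : Nat.card W * Nat.card B = Nat.card A := by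
  have h := hc.card_pre ⊤
  rw [AddSubgroup.card_top] at h
  rw [← h]
  exact Nat.card_congr (Equiv.subtypeEquivRight fun a => ⟨fun h => h.1, fun h => ⟨h, trivial⟩⟩)

end Sec

omit [Finite K] in
/-- A section centralised by the kernel is a module. -/
theorem exists_sec [Finite K] (ρ : K →* L) (hρ : Function.Surjective ρ) (A B : Subgroup K) (hA : A.Normal)
    (hB : B.Normal) (hBA : B ≤ A) (hBk : B ≤ ρ.ker) (hab : ∀ a ∈ A, ∀ b ∈ A, a * b * a⁻¹ * b⁻¹ ∈ B)
    (hc : ∀ k, ρ k = 1 → ∀ a ∈ A, k * a * k⁻¹ * a⁻¹ ∈ B) :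
    ∃ (W : Type u) (_ : AddCommGroup W) (_ : DistribMulAction L W) (_ : Finite W) (c : K → W),
      Sec ρ A B c := by
  classical
  haveI := hB
  haveI := hA
  let π := QuotientGroup.mk' B
  haveI hA' : (A.map π).Normal := hA.map π (QuotientGroup.mk'_surjective B)
  let ρ' : K ⧸ B →* L := QuotientGroup.lift B ρ hBk
  have hρ' : Function.Surjective ρ' := fun l => by
    obtain ⟨k, rfl⟩ := hρ l; exact ⟨π k, rfl⟩
  have hab' : ∀ a ∈ A.map π, ∀ b ∈ A.map π, a * b = b * a := by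
    rintro _ ⟨a, ha, rfl⟩ _ ⟨b, hb, rfl⟩
    rw [← mul_inv_eq_one, mul_inv_rev, ← mul_assoc, ← map_inv, ← map_inv, ← map_mul, ← map_mul, ← map_mul]
    exact (QuotientGroup.eq_one_iff _).2 (hab a ha b hb)
  have hc' : ∀ k, ρ' k = 1 → ∀ a ∈ A.map π, k * a * k⁻¹ = a := by
    intro k hk
    obtain ⟨k, rfl⟩ := QuotientGroup.mk'_surjective B k
    rintro _ ⟨a, ha, rfl⟩
    rw [← mul_inv_eq_one, ← map_inv, ← map_inv, ← map_mul, ← map_mul, ← map_mul]
    exact (QuotientGroup.eq_one_iff _).2 (hc k hk a ha)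
  letI gW := commGrp (A.map π) hab'
  letI aW := act ρ' (A.map π) hρ' hab' hc'
  have hj := embeds_act ρ' (A.map π) hρ' hab' hc'
  let cl : K → Additive ↥(A.map π) := fun k => if h : π k ∈ A.map π then Additive.ofMul ⟨π k, h⟩ else 0
  have hcl : ∀ a ∈ A, ((Additive.toMul (cl a) : ↥(A.map π)) : K ⧸ B) = π a := fun a ha => by
    simp only [cl, dif_pos (mem_map_of_mem π ha)]; rfl
  refine ⟨Additive ↥(A.map π), inferInstance, aW, inferInstance, cl, hBA, fun x => ?_,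
    fun a ha b hb => hj.inj ?_, fun a ha => ?_, fun k a ha => hj.inj ?_⟩
  · obtain ⟨a, ha, hax⟩ := (Additive.toMul x).2
    exact ⟨a, ha, hj.inj ((hcl a ha).trans hax)⟩
  · rw [hj.add]
    simp only [hcl _ (mul_mem ha hb), hcl a ha, hcl b hb, map_mul]
  · refine ⟨fun h => (QuotientGroup.eq_one_iff a).1 ?_, fun h => hj.inj ?_⟩
    · show π a = 1
      rw [← hcl a ha, h]; exact hj.zero
    · rw [hj.zero]
      simp only [hcl a ha]
      exact (QuotientGroup.eq_one_iff a).2 h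
  · rw [show ρ k = ρ' (π k) from rfl, hj.smul]
    simp only [hcl _ (hA.conj_mem a ha k), hcl a ha, map_mul, map_inv]

omit [Finite K] in
/-- An abelian normal subgroup centralised by the kernel is a module. -/
theorem exists_embeds [Finite K] (ρ : K →* L) (hρ : Function.Surjective ρ) (A : Subgroup K) (hA : A.Normal)
    (hab : ∀ a ∈ A, ∀ b ∈ A, a * b = b * a) (hc : ∀ k, ρ k = 1 → ∀ a ∈ A, k * a * k⁻¹ = a) :
    ∃ (R : Type u) (_ : AddCommGroup R) (_ : DistribMulAction L R) (_ : Finite R) (j : R → K),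
      Embeds ρ A j := by
  haveI := hA
  letI := commGrp A hab
  letI aR := act ρ A hρ hab hc
  exact ⟨Additive A, inferInstance, aR, inferInstance, _, embeds_act ρ A hρ hab hc⟩

variable {ρ : K →* L} {A B : Subgroup K} {W : Type*} [AddCommGroup W] [DistribMulAction L W] {c : K → W}
  {M : Subgroup K} {R : Type*} [AddCommGroup R] [DistribMulAction L R] {j : R → K}

omit [Finite K] in
/-- The commutator form. -/
theorem exists_form (hc : Sec ρ A B c) (hAn : A.Normal) (hj : Embeds ρ M j)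
    (hcomm : ∀ a ∈ A, ∀ b ∈ A, a * b * a⁻¹ * b⁻¹ ∈ M) (hMc : ∀ a ∈ A, ∀ m ∈ M, a * m = m * a)
    (hBc : ∀ a ∈ A, ∀ d ∈ B, a * d = d * a) :
    ∃ β : W →+ W →+ R, (∀ a ∈ A, ∀ b ∈ A, j (β (c a) (c b)) = a * b * a⁻¹ * b⁻¹) ∧
      (∀ (g : L) (x y : W), (∃ k, ρ k = g) → β (g • x) (g • y) = g • β x y) ∧ ∀ x, β x x = 0 := by
  choose r hrA hr using hc.surj
  choose f hf using fun x y => hj.surj _ (hcomm _ (hrA x) _ (hrA y))
  have hspec : ∀ a ∈ A, ∀ b ∈ A, j (f (c a) (c b)) = a * b * a⁻¹ * b⁻¹ := by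
    intro a ha b hb
    rw [hf]
    obtain ⟨d, hd, hd'⟩ : ∃ d ∈ B, r (c a) = a * d :=
      ⟨a⁻¹ * r (c a), (hc.eq_iff ha (hrA _)).1 (hr _).symm, (mul_inv_cancel_left _ _).symm⟩
    obtain ⟨e, he, he'⟩ : ∃ e ∈ B, r (c b) = b * e :=
      ⟨b⁻¹ * r (c b), (hc.eq_iff hb (hrA _)).1 (hr _).symm, (mul_inv_cancel_left _ _).symm⟩
    rw [hd', he']
    have h1 : d * (b * e) * d⁻¹ = b * e := by
      rw [← hBc _ (mul_mem hb (hc.le he)) d hd]; group
    have h2 : e * a⁻¹ * e⁻¹ = a⁻¹ := by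
      rw [← hBc _ (inv_mem ha) e he]; group
    calc a * d * (b * e) * (a * d)⁻¹ * (b * e)⁻¹ = a * (d * (b * e) * d⁻¹) * a⁻¹ * (b * e)⁻¹ := by group
      _ = a * b * (e * a⁻¹ * e⁻¹) * b⁻¹ := by rw [h1]; group
      _ = a * b * a⁻¹ * b⁻¹ := by rw [h2]
  have hadd₁ : ∀ x x' y, f (x + x') y = f x y + f x' y := fun x x' y => hj.inj (by
    rw [← hr x, ← hr x', ← hr y, ← hc.map_mul _ (hrA x) _ (hrA x'), hj.add,
      hspec _ (mul_mem (hrA x) (hrA x')) _ (hrA y), hspec _ (hrA x) _ (hrA y), hspec _ (hrA x') _ (hrA y)]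
    rw [show r x * r x' * r y * (r x * r x')⁻¹ * (r y)⁻¹ =
      r x * (r x' * r y * (r x')⁻¹ * (r y)⁻¹) * (r y * (r x)⁻¹ * (r y)⁻¹) by group,
      hMc _ (hrA x) _ (hcomm _ (hrA x') _ (hrA y))]
    have h := hMc _ (mul_mem (mul_mem (mul_mem (hrA x) (hrA y)) (inv_mem (hrA x))) (inv_mem (hrA y))) _
      (hcomm _ (hrA x') _ (hrA y))
    rw [h]
    group)
  have hadd₂ : ∀ x y y', f x (y + y') = f x y + f x y' := fun x y y' => hj.inj (by
    rw [← hr x, ← hr y, ← hr y', ← hc.map_mul _ (hrA y) _ (hrA y'), hj.add,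
      hspec _ (hrA x) _ (mul_mem (hrA y) (hrA y')), hspec _ (hrA x) _ (hrA y), hspec _ (hrA x) _ (hrA y')]
    rw [show r x * (r y * r y') * (r x)⁻¹ * (r y * r y')⁻¹ =
      (r x * r y * (r x)⁻¹ * (r y)⁻¹) * (r y * (r x * r y' * (r x)⁻¹ * (r y')⁻¹) * (r y)⁻¹) by group,
      hMc _ (hrA y) _ (hcomm _ (hrA x) _ (hrA y')), mul_inv_cancel_right])
  refine ⟨AddMonoidHom.mk' (fun x => AddMonoidHom.mk' (f x) (hadd₂ x))
    (fun x x' => AddMonoidHom.ext (hadd₁ x x')), hspec, ?_, fun x => ?_⟩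
  · rintro _ x y ⟨k, rfl⟩
    refine hj.inj ?_
    show j (f _ _) = j (ρ k • f x y)
    rw [hj.smul, ← hr x, ← hr y, ← hc.map_smul k _ (hrA x), ← hc.map_smul k _ (hrA y),
      hspec _ (hAn.conj_mem _ (hrA x) k) _ (hAn.conj_mem _ (hrA y) k), hspec _ (hrA x) _ (hrA y)]
    group
  · refine hj.inj ?_
    show j (f x x) = j 0
    rw [← hr x, hspec _ (hrA x) _ (hrA x), hj.zero]
    group

omit [Finite K] in
/-- The squaring map. -/
theorem exists_squaring (hc : Sec ρ A B c) (hAn : A.Normal) (hj : Embeds ρ M j)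
    (hsq : ∀ a ∈ A, a * a ∈ M) (hB2 : ∀ d ∈ B, d * d = 1)
    (hMc : ∀ a ∈ A, ∀ m ∈ M, a * m = m * a) (hBc : ∀ a ∈ A, ∀ d ∈ B, a * d = d * a)
    (β : W →+ W →+ R) (hβ : ∀ a ∈ A, ∀ b ∈ A, j (β (c a) (c b)) = a * b * a⁻¹ * b⁻¹) :
    ∃ q : W → R, (∀ a ∈ A, j (q (c a)) = a * a) ∧
      (∀ (g : L) (x : W), (∃ k, ρ k = g) → q (g • x) = g • q x) ∧
      ∀ x y, q (x + y) = q x + q y + β y x := by
  choose r hrA hr using hc.surj
  choose q hq using fun x => hj.surj _ (hsq _ (hrA x))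
  have hspec : ∀ a ∈ A, j (q (c a)) = a * a := by
    intro a ha
    rw [hq]
    obtain ⟨d, hd, hd'⟩ : ∃ d ∈ B, r (c a) = a * d :=
      ⟨a⁻¹ * r (c a), (hc.eq_iff ha (hrA _)).1 (hr _).symm, (mul_inv_cancel_left _ _).symm⟩
    rw [hd', show a * d * (a * d) = a * (d * a) * d by group, ← hBc a ha d hd,
      show a * (a * d) * d = a * a * (d * d) by group, hB2 d hd, mul_one]
  refine ⟨q, hspec, ?_, fun x y => hj.inj ?_⟩
  · rintro _ x ⟨k, rfl⟩
    refine hj.inj ?_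
    rw [hj.smul, ← hr x, ← hc.map_smul k _ (hrA x), hspec _ (hAn.conj_mem _ (hrA x) k), hspec _ (hrA x)]
    group
  · rw [← hr x, ← hr y, ← hc.map_mul _ (hrA x) _ (hrA y), hj.add, hj.add, hspec _ (hrA x), hspec _ (hrA y),
      hspec _ (mul_mem (hrA x) (hrA y)), hβ _ (hrA y) _ (hrA x)]
    set a := r x
    set b := r y
    have h := hMc b (hrA y) _ (hβ b (hrA y) a (hrA x) ▸ hj.mem _)
    rw [show a * b * (a * b) = a * (b * a * b⁻¹ * a⁻¹) * a * b * b by group,
      hMc a (hrA x) _ (hβ b (hrA y) a (hrA x) ▸ hj.mem _)]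
    rw [show b * a * b⁻¹ * a⁻¹ * a * a * b * b = (b * a * b⁻¹ * a⁻¹) * (a * a * (b * b)) by group]
    exact (hMc _ (mul_mem (mul_mem (hrA x) (hrA x)) (mul_mem (hrA y) (hrA y))) _
      (hβ b (hrA y) a (hrA x) ▸ hj.mem _)).symm

/-- An elementary section has order at most sixteen. -/
theorem section_le (hK : Cfsg.SectionalPRankLE 2 4 K) {A B : Subgroup K} (hBA : B ≤ A)
    (hB : ∀ a ∈ A, ∀ n ∈ B, a * n * a⁻¹ ∈ B) (hsq : ∀ a ∈ A, a * a ∈ B)
    (hab : ∀ a ∈ A, ∀ b ∈ A, a * b * a⁻¹ * b⁻¹ ∈ B) : Nat.card A ≤ 16 * Nat.card B := by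
  by_contra hlt
  have hd := card_dvd_of_le hBA
  refine rank_five B A hB (hBA.trans (closure_eq A).ge) hsq hab ?_ hK
  rw [closure_eq]
  obtain ⟨n, hn⟩ := hd
  by_contra h32
  haveI : (B.subgroupOf A).Normal :=
    ⟨fun x hx g => mem_subgroupOf.2 (hB g.1 g.2 x.1 (mem_subgroupOf.1 hx))⟩
  have h2 : IsPGroup 2 (↥A ⧸ B.subgroupOf A) := fun x => by
    obtain ⟨a, rfl⟩ := QuotientGroup.mk_surjective x
    exact ⟨1, by rw [pow_one, ← QuotientGroup.mk_pow, QuotientGroup.eq_one_iff, mem_subgroupOf,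
      SubmonoidClass.coe_pow, pow_two]; exact hsq a.1 a.2⟩
  obtain ⟨k, hk⟩ := IsPGroup.iff_card.1 h2
  have hq := card_eq_card_quotient_mul_card_subgroup (B.subgroupOf A)
  rw [hk, Nat.card_congr (subgroupOfEquivOfLe hBA).toEquiv] at hq
  rw [hq] at hlt h32
  have h4 : 5 ≤ k := by
    by_contra h5
    exact hlt (Nat.mul_le_mul_right _ ((Nat.pow_le_pow_right two_pos (by omega : k ≤ 4))))
  exact h32 (Nat.mul_le_mul_right _ (le_trans (by norm_num) (Nat.pow_le_pow_right two_pos h4)))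

section Irreducible

variable [Finite L] [IsSimpleGroup L] (hL : Nat.card L = 168)
include hL

/-- A vector whose displacements are fixed is fixed. -/
theorem fixed_of_dis_fixed {V : Type*} [AddCommGroup V] [DistribMulAction L V] {v : V}
    (h : ∀ g k : L, g • dis k v = dis k v) (g : L) : g • v = v := by
  let f : L →* Multiplicative V :=
    { toFun := fun k => Multiplicative.ofAdd (dis k v)
      map_one' := by simp [dis_apply]
      map_mul' := fun a b => (congrArg Multiplicative.ofAdd (by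
        rw [dis_mul, smul_eq_add b v, map_add, dis_eq_zero.2 (h a b), zero_add] :
          dis (a * b) v = dis a v + dis b v)).trans (ofAdd_add _ _) }
  exact dis_eq_zero.1 (congrArg Multiplicative.toAdd (eq_one_of_comm hL (fun a b => mul_comm a b) f g))

/-- A small group with a nontrivial action has order at least eight. -/
theorem eight_le {V : Type*} [AddCommGroup V] [Finite V] [DistribMulAction L V]
    (hnt : ∃ (g : L) (v : V), g • v ≠ v) (h2 : ∀ v : V, v + v = 0) : 8 ≤ Nat.card V := by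
  classical
  by_contra hlt
  have hd : IsPGroup 2 (Multiplicative V) := fun x =>
    ⟨1, by rw [pow_one, pow_two]; exact congrArg Multiplicative.ofAdd (h2 x.toAdd)⟩
  obtain ⟨k, hk⟩ := IsPGroup.iff_card.1 hd
  have hk' : Nat.card V = 2 ^ k := hk
  have hk2 : k ≤ 2 := by
    by_contra h
    exact hlt (hk' ▸ le_trans (by norm_num) (Nat.pow_le_pow_right two_pos (by omega : 3 ≤ k)))
  have hinj : Function.Injective (MulAction.toPermHom L V) := by
    refine (injective_iff_map_eq_one _).2 fun g hg => faithful hnt fun v => Equiv.ext_iff.1 hg v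
  haveI := Fintype.ofFinite V
  have h := Nat.card_le_card_of_injective _ hinj
  rw [hL, Nat.card_perm, hk'] at h
  interval_cases k <;> norm_num [Nat.factorial] at h

/-- An irreducible module of order at most sixteen. -/
theorem small_module {V : Type*} [AddCommGroup V] [Finite V] [DistribMulAction L V]
    (h2 : ∀ v : V, v + v = 0) (h16 : Nat.card V ≤ 16) (hne : ∃ v : V, v ≠ 0)
    (hirr : ∀ U : AddSubgroup V, (∀ (g : L), ∀ x ∈ U, g • x ∈ U) → U = ⊥ ∨ U = ⊤) :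
    ((∀ (g : L) (v : V), g • v = v) ∧ Nat.card V = 2) ∨
      (Nat.card V = 8 ∧ (∃ (g : L) (v : V), g • v ≠ v) ∧ ∀ v : V, (∀ g : L, g • v = v) → v = 0) := by
  have hcyc : ∀ v : V, v ≠ 0 → (∀ g : L, g • v = v) → AddSubgroup.zmultiples v = ⊤ ∧ Nat.card V = 2 := by
    intro v hv hfix
    have htop : AddSubgroup.zmultiples v = ⊤ := (hirr _ fun g x hx => by
      obtain ⟨i, rfl⟩ := AddSubgroup.mem_zmultiples_iff.1 hx
      rw [smul_comm g i v, hfix]; exact hx).resolve_left fun h => hv (AddSubgroup.zmultiples_eq_bot.1 h)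
    refine ⟨htop, ?_⟩
    rw [← AddSubgroup.card_top, ← htop, Nat.card_zmultiples]
    exact addOrderOf_eq_prime (by rw [two_nsmul, h2]) hv
  by_cases htriv : ∀ (g : L) (v : V), g • v = v
  · obtain ⟨v, hv⟩ := hne
    exact Or.inl ⟨htriv, (hcyc v hv fun g => htriv g v).2⟩
  push Not at htriv
  have h8 := eight_le hL htriv h2
  refine Or.inr ⟨?_, htriv, fun v hfix => by_contra fun hv => ?_⟩
  · by_contra hne8
    have hd : IsPGroup 2 (Multiplicative V) := fun x =>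
      ⟨1, by rw [pow_one, pow_two]; exact congrArg Multiplicative.ofAdd (h2 x.toAdd)⟩
    obtain ⟨k, hk⟩ := IsPGroup.iff_card.1 hd
    have hk' : Nat.card V = 2 ^ k := hk
    have h16' : Nat.card V = 16 := by
      have hle : k ≤ 4 := (Nat.pow_le_pow_iff_right (le_refl 2)).1 (hk' ▸ h16.trans (by norm_num))
      interval_cases k <;> simp_all
    rcases invariant_or_fixed hL h2 h16' htriv with ⟨C, hC, hCi⟩ | ⟨w, hw, hwf⟩
    · rcases hirr C hCi with rfl | rfl
      · rw [AddSubgroup.card_bot] at hC; omega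
      · rw [AddSubgroup.card_top] at hC; omega
    · have := (hcyc w hw hwf).2
      omega
  · have := (hcyc v hv hfix).2
    omega

end Irreducible

end Cfsg.Lib.Small.SecRankFour.Linear
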