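import Cfsg.Agent.Lib.Small.SecRankFour.Linear.Homocyclic
import Cfsg.Agent.Lib.Small.SecRankFour.Linear.Sections
import Cfsg.Agent.Lib.Small.SecRankFour.RankFive
import Cfsg.Agent.Lib.Small.SecRankFour.Five.Radical
import Cfsg.Agent.Lib.PGroup.Basic

/-!
# The module lemmas for groups
-/

set_option autoImplicit false

namespace Cfsg.Lib.Small.SecRankFour.Linear

open Subgroup

universe u

variable {K : Type u} [Group K] [Finite K] {L : Type*} [Group L] {ρ : K →* L}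

omit [Finite K] in
theorem Embeds.card_eq {A : Subgroup K} {R : Type*} [AddCommGroup R] [DistribMulAction L R] {j : R → K}
    (hj : Embeds ρ A j) : Nat.card R = Nat.card A :=
  Nat.card_congr (Equiv.ofBijective (fun a => (⟨j a, hj.mem a⟩ : A))
    ⟨fun a b h => hj.inj (congrArg Subtype.val h), fun k => by
      obtain ⟨a, ha⟩ := hj.surj k.1 k.2
      exact ⟨a, Subtype.ext ha⟩⟩)

omit [Finite K] in
theorem card_tor {A Ω : Subgroup K} {R : Type*} [AddCommGroup R] [DistribMulAction L R] {j : R → K}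
    (hj : Embeds ρ A j) (hΩ : ∀ a, a ∈ Ω ↔ a ∈ A ∧ a * a = 1) : Nat.card (tor R) = Nat.card Ω := by
  rw [← hj.card_sub]
  have h : hj.sub (tor R) = Ω := by
    ext a
    rw [hΩ]
    constructor
    · rintro ⟨b, hb, rfl⟩
      exact ⟨hj.mem b, by rw [← hj.add, mem_tor.1 hb, hj.zero]⟩
    · rintro ⟨ha, ha2⟩
      obtain ⟨b, rfl⟩ := hj.surj a ha
      exact hj.mem_sub.2 (mem_tor.2 (hj.inj (by rw [hj.add, ha2, hj.zero])))
  rw [h]

omit [Finite K] in
theorem Embeds.exists_moved {A : Subgroup K} {R : Type*} [AddCommGroup R] [DistribMulAction L R] {j : R → K}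
    (hj : Embeds ρ A j) {k a : K} (ha : a ∈ A) (h : k * a * k⁻¹ ≠ a) : ∃ (g : L) (v : R), g • v ≠ v := by
  obtain ⟨v, rfl⟩ := hj.surj a ha
  exact ⟨ρ k, v, fun e => h (by rw [← hj.smul, e])⟩

omit [Finite K] in
theorem Embeds.four {A : Subgroup K} {R : Type*} [AddCommGroup R] [DistribMulAction L R] {j : R → K}
    (hj : Embeds ρ A j) (h4 : ∀ a ∈ A, a * a * (a * a) = 1) (v : R) : v + v + (v + v) = 0 :=
  hj.inj (by rw [hj.add, hj.add, h4 _ (hj.mem v), hj.zero])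

/-- A normal subgroup of a finite two-group that is minimal is central and elementary. -/
theorem minimal_central {P M : Subgroup K} (hP : IsPGroup 2 P) (hPn : P.Normal) (hM : M.Normal)
    (hMP : M ≤ P) (hne : M ≠ ⊥) (hmin : ∀ N : Subgroup K, N.Normal → N ≤ M → N = ⊥ ∨ N = M) :
    (∀ a ∈ P, ∀ m ∈ M, a * m = m * a) ∧ ∀ m ∈ M, m * m = 1 := by
  haveI : Fact (Nat.Prime 2) := ⟨Nat.prime_two⟩
  haveI := hPn
  haveI := hM
  have hZ : ∀ a ∈ P, ∀ m ∈ M, a * m = m * a := by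
    set N := M ⊓ (center P).map P.subtype with hN
    have hne' : N ≠ ⊥ := by
      haveI : (M.subgroupOf P).Normal := inferInstance
      have h := Cfsg.Lib.PGroup.inf_center_ne_bot hP (N := M.subgroupOf P)
        (fun h => hne (by
          rw [subgroupOf_eq_bot, disjoint_iff, inf_eq_left.2 hMP] at h
          exact h))
      intro h0
      apply h
      refine eq_bot_iff.2 fun x hx => mem_bot.2 (Subtype.ext ?_)
      have hxN : x.1 ∈ N := ⟨hx.1, ⟨x, hx.2, rfl⟩⟩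
      rw [h0, mem_bot] at hxN
      exact hxN
    rcases hmin N inferInstance inf_le_left with h | h
    · exact absurd h hne'
    · intro a ha m hm
      obtain ⟨-, z, hz, hzm⟩ := h.ge hm
      rw [← hzm]
      exact congrArg Subtype.val (mem_center_iff.1 hz ⟨a, ha⟩)
  refine ⟨hZ, ?_⟩
  let N : Subgroup K :=
    { carrier := {m | m ∈ M ∧ m * m = 1}
      one_mem' := ⟨one_mem M, one_mul 1⟩
      mul_mem' := fun {a b} ha hb => ⟨mul_mem ha.1 hb.1, by
        rw [show a * b * (a * b) = a * (b * a) * b by group, hZ b (hMP hb.1) a ha.1,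
          show a * (a * b) * b = a * a * (b * b) by group, ha.2, hb.2, one_mul]⟩
      inv_mem' := fun {a} ha => ⟨inv_mem ha.1, by rw [← mul_inv_rev, ha.2, inv_one]⟩ }
  have hNn : N.Normal := ⟨fun a ha k => ⟨hM.conj_mem a ha.1 k, by
    rw [show k * a * k⁻¹ * (k * a * k⁻¹) = k * (a * a) * k⁻¹ by group, ha.2, mul_one, mul_inv_cancel]⟩⟩
  have hNne : N ≠ ⊥ := by
    intro h
    have h2 : 2 ∣ Nat.card M := by
      obtain ⟨k, hk⟩ := IsPGroup.iff_card.1 (hP.to_le hMP)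
      rcases k with _ | k
      · exact absurd (card_eq_one.1 (hk.trans (pow_zero 2))) hne
      · exact hk ▸ dvd_pow_self 2 (by omega)
    obtain ⟨m, hm⟩ := exists_prime_orderOf_dvd_card' (G := M) 2 h2
    have hmN : (m : K) ∈ N := ⟨m.2, by
      rw [← pow_two, ← Subgroup.coe_pow, ← hm, pow_orderOf_eq_one]; rfl⟩
    rw [h, mem_bot] at hmN
    rw [← Subgroup.orderOf_coe, hmN, orderOf_one] at hm
    exact absurd hm (by norm_num)
  rcases hmin N hNn (fun m hm => hm.1) with h | h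
  · exact absurd h hNne
  · exact fun m hm => (h.ge hm).2

omit [Finite K] in
/-- Squares in a normal subgroup give commutators in it. -/
theorem comm_mem_of_sq {P M : Subgroup K} (hM : M.Normal) (hsq : ∀ a ∈ P, a * a ∈ M) {a b : K}
    (ha : a ∈ P) (hb : b ∈ P) : a * b * a⁻¹ * b⁻¹ ∈ M := by
  rw [show a * b * a⁻¹ * b⁻¹ = (a * b) * (a * b) * (b⁻¹ * (a * a)⁻¹ * b⁻¹⁻¹) * (b * b)⁻¹ by group]
  exact mul_mem (mul_mem (hsq _ (mul_mem ha hb)) (hM.conj_mem _ (inv_mem (hsq a ha)) _)) (inv_mem (hsq b hb))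

variable [Finite L] [IsSimpleGroup L] (hL : Nat.card L = 168)
include hL

/-- Homocyclic kernels. -/
theorem homocyclic_group (hρ : Function.Surjective ρ) (hab : ∀ a ∈ ρ.ker, ∀ b ∈ ρ.ker, a * b = b * a)
    (h4 : ∀ a ∈ ρ.ker, a * a * (a * a) = 1) (h64 : Nat.card ρ.ker = 64) (Ω : Subgroup K)
    (hΩ : ∀ a, a ∈ Ω ↔ a ∈ ρ.ker ∧ a * a = 1) (hΩ8 : Nat.card Ω = 8)
    (hnt : ∃ k, ∃ a ∈ ρ.ker, k * a * k⁻¹ ≠ a) : ¬ Cfsg.SectionalPRankLE 2 4 K := by
  obtain ⟨R, _, _, _, j, hj⟩ := exists_embeds ρ hρ ρ.ker (MonoidHom.normal_ker ρ) hab fun k hk a ha => by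
    rw [hab k (MonoidHom.mem_ker.2 hk) a ha, mul_inv_cancel_right]
  obtain ⟨k, a, ha, hka⟩ := hnt
  exact no_homocyclic hL hρ hj rfl (hj.four h4) (hj.card_eq.trans h64)
    ((card_tor hj hΩ).trans hΩ8) (hj.exists_moved ha hka)

/-- Sixteen involutions, one of them central and outside the squares. -/
theorem central_involution (hρ : Function.Surjective ρ) (hab : ∀ a ∈ ρ.ker, ∀ b ∈ ρ.ker, a * b = b * a)
    (h4 : ∀ a ∈ ρ.ker, a * a * (a * a) = 1) (h128 : Nat.card ρ.ker = 128) (Ω : Subgroup K)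
    (hΩ : ∀ a, a ∈ Ω ↔ a ∈ ρ.ker ∧ a * a = 1) (hΩ16 : Nat.card Ω = 16) {σ : K} (hσ : σ ∈ Ω)
    (hσ1 : σ ≠ 1) (hσc : ∀ k, k * σ * k⁻¹ = σ) (hσsq : ∀ a ∈ ρ.ker, a * a ≠ σ)
    (hnt : ∀ k, (∀ a ∈ ρ.ker, k * a * k⁻¹ = a) → ρ k = 1) : ¬ Cfsg.SectionalPRankLE 2 4 K := by
  classical
  intro hK
  have hσ2 : σ * σ = 1 := ((hΩ σ).1 hσ).2
  set Z : Subgroup K := zpowers σ with hZ
  haveI hZn : Z.Normal := ⟨fun z hz k => by
    obtain ⟨i, rfl⟩ := mem_zpowers_iff.1 hz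
    rw [← conj_zpow, hσc]; exact hz⟩
  have hZk : Z ≤ ρ.ker := zpowers_le.2 ((hΩ σ).1 hσ).1
  have hZmem : ∀ z ∈ Z, z = 1 ∨ z = σ := by
    intro z hz
    obtain ⟨i, rfl⟩ := mem_zpowers_iff.1 hz
    rcases Int.even_or_odd i with ⟨l, rfl⟩ | ⟨l, rfl⟩
    · left; rw [← two_mul, zpow_mul, zpow_ofNat, pow_two, hσ2, one_zpow]
    · right; rw [zpow_add_one, zpow_mul, zpow_ofNat, pow_two, hσ2, one_zpow, one_mul]
  let π := QuotientGroup.mk' Z
  let ρ' : K ⧸ Z →* L := QuotientGroup.lift Z ρ hZk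
  have hρ' : Function.Surjective ρ' := fun l => by
    obtain ⟨k, rfl⟩ := hρ l; exact ⟨π k, rfl⟩
  have hker : ρ'.ker = ρ.ker.map π := by
    ext y
    obtain ⟨k, rfl⟩ := QuotientGroup.mk'_surjective Z y
    refine ⟨fun hy => mem_map_of_mem π (MonoidHom.mem_ker.2 hy), ?_⟩
    rintro ⟨a, ha, hay⟩
    rw [← hay]
    exact ha
  have hZ2 : Nat.card Z = 2 := by
    rw [hZ, Nat.card_zpowers]
    exact orderOf_eq_prime (by rw [pow_two, hσ2]) hσ1
  have hmap : ∀ A : Subgroup K, Z ≤ A → Nat.card (A.map π) * 2 = Nat.card A := fun A hA => by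
    rw [← relIndex_ker (K := A) π, QuotientGroup.ker_mk', ← hZ2, mul_comm,
      ← Nat.card_congr (subgroupOfEquivOfLe hA).toEquiv, relIndex, card_mul_index]
  refine homocyclic_group hL hρ' ?_ ?_ ?_ (Ω.map π) ?_ ?_ ?_
    (sectional_bound hK π (QuotientGroup.mk'_surjective Z))
  · rw [hker]
    rintro _ ⟨a, ha, rfl⟩ _ ⟨b, hb, rfl⟩
    rw [← map_mul, ← map_mul, hab a ha b hb]
  · rw [hker]
    rintro _ ⟨a, ha, rfl⟩
    rw [← map_mul, ← map_mul, h4 a ha, map_one]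
  · rw [hker]
    have := hmap _ hZk
    omega
  · intro y
    obtain ⟨a, rfl⟩ := QuotientGroup.mk'_surjective Z y
    rw [hker]
    constructor
    · rintro ⟨b, hb, hba⟩
      refine ⟨⟨b, ((hΩ b).1 hb).1, hba⟩, ?_⟩
      rw [← hba, ← map_mul, ((hΩ b).1 hb).2, map_one]
    · rintro ⟨⟨b, hb, hba⟩, h2⟩
      rw [← hba] at h2 ⊢
      rw [← map_mul] at h2
      refine mem_map_of_mem π ((hΩ b).2 ⟨hb, ?_⟩)
      exact (hZmem _ ((QuotientGroup.eq_one_iff _).1 h2)).resolve_right (hσsq b hb)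
  · have := hmap _ (zpowers_le.2 hσ)
    omega
  · by_contra hcon
    push Not at hcon
    obtain ⟨R, _, _, _, j, hj⟩ := exists_embeds ρ hρ ρ.ker (MonoidHom.normal_ker ρ) hab fun k hk a ha => by
      rw [hab k (MonoidHom.mem_ker.2 hk) a ha, mul_inv_cancel_right]
    have hfix : ∀ (g : L) (v : R), g • v = v := fun g v => by
      refine fixed_of_dis_fixed hL (fun a b => ?_) g
      obtain ⟨l, rfl⟩ := hρ a
      obtain ⟨k, rfl⟩ := hρ b
      refine hj.inj ?_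
      rw [hj.smul, ← hj.conj_mul_inv]
      have h := hcon (π k) (π (j v)) (hker ▸ mem_map_of_mem π (hj.mem v))
      rw [← map_inv, ← map_mul, ← map_mul, ← mul_inv_eq_one, ← map_inv, ← map_mul] at h
      rcases hZmem _ ((QuotientGroup.eq_one_iff _).1 h) with e | e
      · rw [e, mul_one, mul_inv_cancel]
      · rw [e, hσc]
    have h168 : Subsingleton L := ⟨fun a b => by
      obtain ⟨k, rfl⟩ := hρ a
      obtain ⟨l, rfl⟩ := hρ b
      have key : ∀ k, ρ k = 1 := fun k => hnt k fun a ha => by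
        obtain ⟨v, rfl⟩ := hj.surj a ha
        rw [← hj.smul, hfix]
      rw [key, key]⟩
    rw [Nat.card_of_subsingleton (1 : L)] at hL
    exact absurd hL (by norm_num)

/-- An abelian hyperplane inverted by the outside involutions. -/
theorem inverted_group (hρ : Function.Surjective ρ) {V : Subgroup K} (hV : V.Normal) (hVP : V ≤ ρ.ker)
    (h128 : Nat.card ρ.ker = 128) (h64 : Nat.card V = 64) (hab : ∀ a ∈ V, ∀ b ∈ V, a * b = b * a)
    (h4 : ∀ a ∈ V, a * a * (a * a) = 1) (Ω : Subgroup K)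
    (hΩ : ∀ a, a ∈ Ω ↔ a ∈ V ∧ a * a = 1) (hΩ8 : Nat.card Ω = 8)
    (hout : ∀ a ∈ ρ.ker, a ∉ V → a * a = 1)
    {x y z : K} (hx : x ∈ V) (hy : y ∈ V) (hz : z ∈ V)
    (hinj : ∀ a b c : ZMod 2, (x * x) ^ a.val * (y * y) ^ b.val * (z * z) ^ c.val = 1 →
      a = 0 ∧ b = 0 ∧ c = 0)
    (hnt : ∀ k, (∀ v ∈ V, k * v * k⁻¹ = v) → ρ k = 1) : ¬ Cfsg.SectionalPRankLE 2 4 K := by
  classical
  intro hK
  obtain ⟨R, _, _, _, j, hj⟩ := exists_embeds (MonoidHom.id K) (fun k => ⟨k, rfl⟩) V hV hab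
    fun k hk a _ => by rw [show k = 1 from hk, one_mul, inv_one, mul_one]
  letI : Module (ZMod 4) R := AddCommGroup.zmodModule fun v => by
    rw [show (4 : ℕ) • v = v + v + (v + v) by simp [succ_nsmul]; abel, hj.four h4]
  obtain ⟨x', rfl⟩ := hj.surj x hx
  obtain ⟨y', rfl⟩ := hj.surj y hy
  obtain ⟨z', rfl⟩ := hj.surj z hz
  obtain ⟨φ, hφ⟩ := basis_four (hj.card_eq.trans h64) x' y' z' fun a b c h => hinj a b c (by
    rw [← hj.add, ← hj.add, ← hj.add, ← hj.nsmul, ← hj.nsmul, ← hj.nsmul, ← hj.add, ← hj.add, h, hj.zero])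
  set δ := detHom K R with hδ
  set K₁ := δ.ker with hK₁
  have hVδ : ∀ v ∈ V, δ v = 1 := fun v hv => Units.ext (by
    rw [detHom_eq φ v 1 fun p => by
      rw [Matrix.one_mulVec]
      refine hj.inj ?_
      rw [show v • φ p = (MonoidHom.id K v) • φ p from rfl, hj.smul, hab v hv _ (hj.mem _),
        mul_inv_cancel_right], Matrix.det_one, Units.val_one])
  have houtδ : ∀ a ∈ ρ.ker, a ∉ V → (δ a : ZMod 4) = -1 := by
    intro a ha haV
    rw [detHom_eq φ a (-1) fun p => by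
      rw [Matrix.neg_mulVec, Matrix.one_mulVec, map_neg]
      refine hj.inj ?_
      rw [show a • φ p = (MonoidHom.id K a) • φ p from rfl, hj.smul, hj.neg]
      set v := j (φ p)
      have h := hout (a * v) (mul_mem ha (hVP (hj.mem _))) (fun h => haV
        ((mul_mem_cancel_right (hj.mem (φ p))).1 h))
      show a * v * a⁻¹ = v⁻¹
      rw [inv_eq_of_mul_eq_one_left (hout a ha haV)]
      exact eq_inv_of_mul_eq_one_left (by rw [← h]; group),
      Matrix.det_neg, Matrix.det_one, mul_one, Fintype.card_fin]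
    decide
  have hker₁ : ∀ a ∈ K₁, ρ a = 1 → a ∈ V := by
    intro a ha hρa
    by_contra haV
    have h := houtδ a (MonoidHom.mem_ker.2 hρa) haV
    rw [MonoidHom.mem_ker.1 ha] at h
    exact absurd h (by decide)
  obtain ⟨a₀, ha₀, ha₀V⟩ : ∃ a ∈ ρ.ker, a ∉ V := by
    by_contra hcon
    push Not at hcon
    have := card_le_of_le (show ρ.ker ≤ V from hcon)
    omega
  have hsurj : ∀ l, ∃ k ∈ K₁, ρ k = l := by
    intro l
    obtain ⟨k, rfl⟩ := hρ l
    by_cases hk : δ k = 1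
    · exact ⟨k, MonoidHom.mem_ker.2 hk, rfl⟩
    · refine ⟨k * a₀, MonoidHom.mem_ker.2 (Units.ext ?_), by
        rw [map_mul, MonoidHom.mem_ker.1 ha₀, mul_one]⟩
      rw [map_mul, Units.val_mul, houtδ a₀ ha₀ ha₀V, Units.val_one]
      have key : ∀ u : (ZMod 4)ˣ, u ≠ 1 → (u : ZMod 4) * -1 = 1 := by decide
      exact key _ hk
  let ρ₁ : K₁ →* L := ρ.comp K₁.subtype
  have hρ₁ : Function.Surjective ρ₁ := fun l => by
    obtain ⟨k, hk, h⟩ := hsurj l; exact ⟨⟨k, hk⟩, h⟩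
  have hk₁ : ρ₁.ker = V.subgroupOf K₁ := by
    ext a
    exact ⟨fun h => mem_subgroupOf.2 (hker₁ a.1 a.2 h), fun h => hVP (mem_subgroupOf.1 h)⟩
  have hVK : V ≤ K₁ := fun v hv => MonoidHom.mem_ker.2 (hVδ v hv)
  have hΩV : Ω ≤ V := fun a ha => ((hΩ a).1 ha).1
  refine homocyclic_group hL hρ₁ ?_ ?_ ?_ (Ω.subgroupOf K₁) ?_ ?_ ?_ (sectional_subgroup hK K₁)
  · rw [hk₁]
    exact fun a ha b hb => Subtype.ext (hab a.1 (mem_subgroupOf.1 ha) b.1 (mem_subgroupOf.1 hb))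
  · rw [hk₁]
    exact fun a ha => Subtype.ext (h4 a.1 (mem_subgroupOf.1 ha))
  · rw [hk₁, Nat.card_congr (subgroupOfEquivOfLe hVK).toEquiv, h64]
  · intro a
    rw [hk₁, mem_subgroupOf, mem_subgroupOf, hΩ, Subtype.ext_iff]
    rfl
  · rw [Nat.card_congr (subgroupOfEquivOfLe (hΩV.trans hVK)).toEquiv, hΩ8]
  · by_contra hcon
    push Not at hcon
    have key : ∀ l : L, l = 1 := fun l => by
      obtain ⟨k, hk, rfl⟩ := hsurj l
      exact hnt k fun v hv => congrArg Subtype.val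
        (hcon ⟨k, hk⟩ ⟨v, hVK hv⟩ (hk₁ ▸ mem_subgroupOf.2 hv))
    haveI : Subsingleton L := ⟨fun a b => by rw [key a, key b]⟩
    rw [Nat.card_of_subsingleton (1 : L)] at hL
    exact absurd hL (by norm_num)

end Cfsg.Lib.Small.SecRankFour.Linear
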