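import Cfsg.Agent.Lib.Small.SecRankFour.Linear.Groups

/-!
# The first layer over a Frattini quotient of rank three or four
-/

set_option autoImplicit false

namespace Cfsg.Lib.Small.SecRankFour.Linear

open Subgroup

universe u

variable {K : Type u} [Group K] [Finite K] {L : Type*} [Group L] [Finite L] [IsSimpleGroup L]
  (hL : Nat.card L = 168) {ρ : K →* L} (hρ : Function.Surjective ρ)
  {M : Subgroup K} {W : Type*} [AddCommGroup W] [Finite W] [DistribMulAction L W] {c : K → W}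
  (hc : Sec ρ ρ.ker M c) {R : Type*} [AddCommGroup R] [Finite R] [DistribMulAction L R] {j : R → K}
  (hj : Embeds ρ M j) (hM2 : ∀ m ∈ M, m * m = 1) {q : W → R} (hq : ∀ a ∈ ρ.ker, j (q (c a)) = a * a)
  (hqL : ∀ (g : L) (x : W), q (g • x) = g • q x)
  {β : W →+ W →+ R} (hβ : ∀ a ∈ ρ.ker, ∀ b ∈ ρ.ker, j (β (c a) (c b)) = a * b * a⁻¹ * b⁻¹)
  (hβL : ∀ (g : L) (x y : W), β (g • x) (g • y) = g • β x y) (hβalt : ∀ x, β x x = 0)
  (hqadd : ∀ x y, q (x + y) = q x + q y + β y x)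
  (hW2 : ∀ x : W, x + x = 0) (hR2 : ∀ r : R, r + r = 0)
  (hWnt : ∃ (g : L) (x : W), g • x ≠ x)
  (hfaith : ∀ k, (∀ a ∈ ρ.ker, k * a * k⁻¹ * a⁻¹ ∈ M) → ρ k = 1)
  (hRirr : ((∀ (g : L) (r : R), g • r = r) ∧ Nat.card R = 2) ∨
    (Nat.card R = 8 ∧ (∃ (g : L) (r : R), g • r ≠ r) ∧ ∀ r : R, (∀ g : L, g • r = r) → r = 0))
  (hqne : ∃ x, q x ≠ 0) (hK : Cfsg.SectionalPRankLE 2 4 K)

include hc hj hβ in
omit [Finite K] [Finite L] [IsSimpleGroup L] [Finite W] [Finite R] in
theorem abel_of_form_zero (h : ∀ x y, β x y = 0) : ∀ a ∈ ρ.ker, ∀ b ∈ ρ.ker, a * b = b * a := by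
  intro a ha b hb
  have h' := hβ a ha b hb
  rw [h, hj.zero, eq_comm, mul_inv_eq_one, mul_inv_eq_iff_eq_mul] at h'
  exact h'

include hfaith in
omit [Finite K] [Finite L] [IsSimpleGroup L] in
theorem faith_conj' (k : K) (h : ∀ a ∈ ρ.ker, k * a * k⁻¹ = a) : ρ k = 1 :=
  hfaith k fun a ha => by rw [h a ha, mul_inv_cancel]; exact one_mem M

include hL hρ hfaith in
omit [Finite K] [Finite L] [IsSimpleGroup L] in
theorem exists_noncentral : ∃ k, ∃ a ∈ ρ.ker, k * a * k⁻¹ ≠ a := by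
  by_contra hcon
  push Not at hcon
  haveI : Subsingleton L := ⟨fun a b => by
    obtain ⟨k, rfl⟩ := hρ a
    obtain ⟨l, rfl⟩ := hρ b
    rw [faith_conj' hfaith k (hcon k), faith_conj' hfaith l (hcon l)]⟩
  rw [Nat.card_of_subsingleton (1 : L)] at hL
  exact absurd hL (by norm_num)

include hqadd hR2 in
omit [Finite K] [Finite L] [IsSimpleGroup L] [Finite W] [Finite R] [DistribMulAction L W]
  [DistribMulAction L R] in
theorem quad_identity (x y z : W) :
    q (x + y + z) = q (x + y) + q (x + z) + q (y + z) + q x + q y + q z := by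
  rw [hqadd (x + y) z, hqadd x y, hqadd x z, hqadd y z, map_add]
  rw [← add_zero (q x + q y + β y x + q z + (β z x + β z y)),
    show (0 : R) = (q x + q x) + (q y + q y) + (q z + q z) by simp only [hR2, add_zero]]
  abel

include hL hρ hc hj hM2 hq hqL hβ hβL hqadd hW2 hR2 hWnt hfaith hRirr hqne hK

/-- Rank three is impossible. -/
theorem no_three (hW8 : Nat.card W = 8) : False := by
  have hRcases : (∀ (g : L) (r : R), g • r = r) ∨ Nat.card R = 8 := hRirr.imp (·.1) (·.1)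
  rcases quad_cases hL hW2 hW8 hWnt hR2 hRcases q hqL (quad_identity hqadd hR2) with h | ⟨hbij, hR8, -, hadd⟩
  · obtain ⟨x, hx⟩ := hqne; exact hx (h x)
  have hβ0 : ∀ x y, β x y = 0 := fun x y => by simpa [hadd] using hqadd y x
  have hM8 : Nat.card M = 8 := hj.card_eq.symm.trans hR8
  have h64 : Nat.card ρ.ker = 64 := by rw [← hc.card, hW8, hM8]
  refine homocyclic_group hL hρ (abel_of_form_zero hc hj hβ hβ0)
    (fun a ha => hM2 _ (by rw [← hq a ha]; exact hj.mem _)) h64 M (fun a => ⟨fun ha => ⟨hc.le ha, hM2 a ha⟩,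
      fun ⟨ha, ha2⟩ => (hc.ker a ha).1 (hbij.1 ?_)⟩) hM8 (exists_noncentral hL hρ hfaith) hK
  refine hj.inj ?_
  rw [hq a ha, ha2, ← hc.one, hq 1 (one_mem _), one_mul]

include hβalt in
/-- An invariant hyperplane gives an order four element over an elementary group. -/
theorem shape_of_hyperplane (hW16 : Nat.card W = 16) (C : AddSubgroup W) (hC8 : Nat.card C = 8)
    (hCi : ∀ (g : L), ∀ x ∈ C, g • x ∈ C) :
    Nat.card M = 2 ∧ (∀ a ∈ ρ.ker, ∀ b ∈ ρ.ker, a * b = b * a) ∧ Nat.card ρ.ker = 32 ∧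
      ∃ V : Subgroup K, V.Normal ∧ M ≤ V ∧ V ≤ ρ.ker ∧ Nat.card V = 16 ∧ ∀ a ∈ V, a * a = 1 := by
  letI := subAct C hCi
  have hCnt := sub_nontrivial hL hW2 hW16 hWnt hC8 hCi
  have h2C : ∀ x : C, x + x = 0 := fun x => Subtype.ext (hW2 x.1)
  have hidx := index_two hW16 hC8
  have hdis := dis_mem hW16 hC8 hCi
  have hRcases : (∀ (g : L) (r : R), g • r = r) ∨ Nat.card R = 8 := hRirr.imp (·.1) (·.1)
  have hq0 : q 0 = 0 := hj.inj (by rw [← hc.one, hq 1 (one_mem _), one_mul, hj.zero])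
  set V := hc.pre C with hV
  have hVn : V.Normal := hc.pre_normal (MonoidHom.normal_ker ρ) hCi
  have hVcard : Nat.card V = 8 * Nat.card R := by rw [hc.card_pre, hC8, ← hj.card_eq]
  have hPcard : Nat.card ρ.ker = 16 * Nat.card R := by rw [← hc.card, hW16, hj.card_eq]
  obtain ⟨w, hw⟩ : ∃ w, w ∉ C := by
    by_contra hcon
    push Not at hcon
    rw [AddSubgroup.index_eq_one.2 (eq_top_iff.2 fun x _ => hcon x)] at hidx
    omega
  -- vanishing of the form from the hyperplane and one outside vector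
  have hform : (∀ x y : C, β x.1 y.1 = 0) → (∀ y : C, β w y.1 = 0) → ∀ x y, β x y = 0 := by
    intro h1 h2 x y
    have hsym : ∀ a b, β a b = β b a := fun a b => by
      have h := hqadd a b
      rw [add_comm a b, hqadd b a, add_comm (q b) (q a)] at h
      exact add_left_cancel h
    have hdec : ∀ v : W, ∃ i : ℕ, ∃ y : C, v = i • w + y.1 := fun v => by
      by_cases hv : v ∈ C
      · exact ⟨0, ⟨v, hv⟩, by simp⟩
      · refine ⟨1, ⟨w + v, (AddSubgroup.add_mem_iff_of_index_two hidx).2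
          ⟨fun h => absurd h hw, fun h => absurd h hv⟩⟩, ?_⟩
        show v = 1 • w + (w + v)
        rw [one_nsmul, ← add_assoc, hW2, zero_add]
    obtain ⟨i, x', rfl⟩ := hdec x
    obtain ⟨l, y', rfl⟩ := hdec y
    simp [map_add, map_nsmul, h1, h2, hsym x'.1 w, hβalt]
  rcases quad_cases hL h2C hC8 hCnt hR2 hRcases (fun x : C => q x.1) (fun g x => hqL g x.1)
    (fun x y z => quad_identity hqadd hR2 x.1 y.1 z.1) with h | ⟨hbij, hR8, hRnt, hadd⟩
  · -- squares vanish on the hyperplane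
    have hV1 : ∀ a ∈ V, a * a = 1 := fun a ha => by rw [← hq a ha.1, h ⟨c a, ha.2⟩, hj.zero]
    have hle := section_le hK (A := V) (B := ⊥) bot_le (fun a _ n hn => by
      rw [mem_bot.1 hn, mul_one, mul_inv_cancel]; exact one_mem _) (fun a ha => mem_bot.2 (hV1 a ha))
      fun a ha b hb => by
        have hi : ∀ x ∈ V, x⁻¹ = x := fun x hx => inv_eq_of_mul_eq_one_left (hV1 x hx)
        rw [hi a ha, hi b hb, mem_bot, show a * b * a * b = (a * b) * (a * b) by group]
        exact hV1 _ (mul_mem ha hb)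
    rw [card_bot, hVcard] at hle
    have hR2c : (∀ (g : L) (r : R), g • r = r) ∧ Nat.card R = 2 :=
      hRirr.resolve_right fun hr => by rw [hr.1] at hle; omega
    have hCC : ∀ x y : C, β x.1 y.1 = 0 := by
      let βC : C →+ C →+ R := (AddMonoidHom.compl₂ (β.comp C.subtype) C.subtype)
      exact fun x y => form_eq_zero hL h2C hC8 hCnt βC
        (fun g a b => (hβL g a.1 b.1).trans (hR2c.1 g _)) (fun a => hβalt a.1) x y
    have hwC : ∀ y : C, β w y.1 = 0 := by
      refine functional_eq_zero hL h2C hC8 hCnt ((β w).comp C.subtype) fun g y => ?_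
      show β w (g • y.1) = β w y.1
      have h1 := (hβL g w y.1).trans (hR2c.1 g _)
      rw [smul_eq_add g w, map_add, AddMonoidHom.add_apply,
        hCC ⟨dis g w, hdis g w⟩ ⟨g • y.1, hCi g _ y.2⟩, zero_add] at h1
      exact h1
    exact ⟨hj.card_eq.symm.trans hR2c.2, abel_of_form_zero hc hj hβ (hform hCC hwC),
      by rw [hPcard, hR2c.2], V, hVn, hc.le_pre C, hc.pre_le C, by rw [hVcard, hR2c.2], hV1⟩
  exfalso
  have hnofix : ∀ r : R, (∀ g : L, g • r = r) → r = 0 := by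
    rcases hRirr with ⟨h, -⟩ | ⟨-, -, h⟩
    · obtain ⟨g, r, hgr⟩ := hRnt; exact absurd (h g r) hgr
    · exact h
  have hCC : ∀ x y : C, β x.1 y.1 = 0 := fun x y => by
    have h := hqadd y.1 x.1
    have h' : q (y.1 + x.1) = q y.1 + q x.1 := hadd y x
    rwa [h', left_eq_add] at h
  let qh : C →+ R := AddMonoidHom.mk' (fun x : C => q x.1) hadd
  let qe : C ≃+ R := AddEquiv.ofBijective qh hbij
  have hqe : ∀ x : C, qe x = q x.1 := fun x => rfl
  have hqeL : ∀ (g : L) (x : C), qe (g • x) = g • qe x := fun g x => hqL g x.1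
  let f : C →+ C := qe.symm.toAddMonoidHom.comp ((β w).comp C.subtype)
  have hfL : ∀ (g : L) (x : C), f (g • x) = g • f x := fun g x => by
    apply qe.injective
    rw [hqeL]
    show qe (qe.symm (β w (g • x.1))) = g • qe (qe.symm (β w x.1))
    rw [qe.apply_symm_apply, qe.apply_symm_apply, ← hβL, smul_eq_add g w, map_add, AddMonoidHom.add_apply,
      hCC ⟨dis g w, hdis g w⟩ ⟨g • x.1, hCi g _ x.2⟩, zero_add]
  have hP128 : Nat.card ρ.ker = 128 := by rw [hPcard, hR8]
  have hV64 : Nat.card V = 64 := by rw [hVcard, hR8]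
  have hVab : ∀ a ∈ V, ∀ b ∈ V, a * b = b * a := fun a ha b hb => by
    have h := hβ a ha.1 b hb.1
    rw [hCC ⟨c a, ha.2⟩ ⟨c b, hb.2⟩, hj.zero, eq_comm, mul_inv_eq_one, mul_inv_eq_iff_eq_mul] at h
    exact h
  have h4 : ∀ a ∈ ρ.ker, a * a * (a * a) = 1 := fun a ha => hM2 _ (by rw [← hq a ha]; exact hj.mem _)
  have hq_eq : ∀ a ∈ ρ.ker, a * a = 1 ↔ q (c a) = 0 := fun a ha =>
    ⟨fun h => hj.inj (by rw [hq a ha, h, hj.zero]), fun h => by rw [← hq a ha, h, hj.zero]⟩
  have hMiff : ∀ a, a ∈ M ↔ a ∈ V ∧ a * a = 1 := fun a => by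
    refine ⟨fun ha => ⟨hc.le_pre C ha, hM2 a ha⟩, fun ⟨ha, ha2⟩ => (hc.ker a ha.1).1 ?_⟩
    have h : (⟨c a, ha.2⟩ : C) = 0 := qe.injective (by
      rw [hqe, map_zero]; exact (hq_eq a ha.1).1 ha2)
    exact congrArg Subtype.val h
  have hM8 : Nat.card M = 8 := hj.card_eq.symm.trans hR8
  rcases endo_cases hL h2C hC8 hCnt f hfL with hf | hf
  · -- an abelian kernel
    have hwC : ∀ y : C, β w y.1 = 0 := fun y => by
      have := congrArg qe (hf y)
      rwa [map_zero, show qe (f y) = β w y.1 from qe.apply_symm_apply _] at this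
    have hβ0 := hform hCC hwC
    have hab := abel_of_form_zero hc hj hβ hβ0
    let qW : W →+ R := AddMonoidHom.mk' q fun x y => by rw [hqadd, hβ0, add_zero]
    have hk2 : Nat.card qW.ker = 2 := by
      have h := qW.ker.card_mul_index
      have htop : qW.range = ⊤ := eq_top_iff.2 fun r _ => by
        obtain ⟨x, hx⟩ := qe.surjective r
        exact ⟨x.1, hx⟩
      rw [AddSubgroup.index_ker, htop, AddSubgroup.card_top, hR8, hW16] at h
      omega
    set Ω := hc.pre qW.ker with hΩ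
    have hΩiff : ∀ a, a ∈ Ω ↔ a ∈ ρ.ker ∧ a * a = 1 := fun a =>
      ⟨fun h => ⟨h.1, (hq_eq a h.1).2 h.2⟩, fun h => ⟨h.1, (hq_eq a h.1).1 h.2⟩⟩
    have hΩ16 : Nat.card Ω = 16 := by rw [hc.card_pre, hk2, hM8]
    by_cases hfix : ∃ σ ∈ Ω, σ ∉ M ∧ ∀ k, k * σ * k⁻¹ = σ
    · obtain ⟨σ, hσ, hσM, hσc⟩ := hfix
      refine central_involution hL hρ hab h4 hP128 Ω hΩiff hΩ16 hσ (fun h => hσM (h ▸ one_mem M)) hσc
        (fun a ha h => hσM ?_) (faith_conj' hfaith) hK
      rw [← h, ← hq a ha]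
      exact hj.mem _
    · push Not at hfix
      obtain ⟨S, _, _, _, jS, hS⟩ := exists_embeds ρ hρ ρ.ker (MonoidHom.normal_ker ρ) hab fun k hk a ha => by
        rw [hab k (MonoidHom.mem_ker.2 hk) a ha, mul_inv_cancel_right]
      let C' : AddSubgroup S :=
        { carrier := {v | jS v ∈ V}
          zero_mem' := by show jS 0 ∈ V; rw [hS.zero]; exact one_mem V
          add_mem' := fun {a b} ha hb => by show jS (a + b) ∈ V; rw [hS.add]; exact mul_mem ha hb
          neg_mem' := fun {a} ha => by show jS (-a) ∈ V; rw [hS.neg]; exact inv_mem ha }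
      have hC'8 : Nat.card (C' ⊓ tor S : AddSubgroup S) = 8 := by
        rw [← hS.card_sub]
        have h : hS.sub (C' ⊓ tor S) = M := by
          ext a
          rw [hMiff]
          constructor
          · rintro ⟨b, ⟨hb, hb2⟩, rfl⟩
            exact ⟨hb, by rw [← hS.add, mem_tor.1 hb2, hS.zero]⟩
          · rintro ⟨ha, ha2⟩
            obtain ⟨b, rfl⟩ := hS.surj a ha.1
            exact hS.mem_sub.2 ⟨ha, mem_tor.2 (hS.inj (by rw [hS.add, ha2, hS.zero]))⟩
        rw [h, hM8]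
      obtain ⟨k, a, ha, hka⟩ := exists_noncentral hL hρ hfaith
      refine no_hyperplane hL hρ hS rfl (hS.four h4) ((card_tor hS hΩiff).trans hΩ16) C' ?_ ?_ ?_ hC'8
        ?_ ?_ (hS.exists_moved ha hka) hK
      · intro g v hv
        obtain ⟨k, rfl⟩ := hρ g
        show jS _ ∈ V
        rw [hS.smul]
        exact hVn.conj_mem _ hv k
      · intro g v
        obtain ⟨k, rfl⟩ := hρ g
        show jS _ ∈ V
        rw [← hS.conj_mul_inv]
        have hm := hS.mem v
        have hconj := (MonoidHom.normal_ker ρ).conj_mem _ hm k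
        refine ⟨mul_mem hconj (inv_mem hm), ?_⟩
        rw [hc.map_mul _ hconj _ (inv_mem hm), hc.map_inv hm, hc.map_smul k _ hm, ← sub_eq_add_neg]
        exact hdis _ _
      · intro v
        show jS _ ∈ V
        rw [hS.add]
        exact hc.le_pre C (by rw [← hq _ (hS.mem v)]; exact hj.mem _)
      · intro v hv hv2
        have hvM : jS v ∈ M := (hMiff _).2 ⟨hv, by rw [← hS.add, hv2, hS.zero]⟩
        obtain ⟨r, hr⟩ := hj.surj _ hvM
        obtain ⟨x, hx⟩ := qe.surjective r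
        obtain ⟨b, hb, hbx⟩ := hc.surj x.1
        obtain ⟨y, hy⟩ := hS.surj b hb
        refine ⟨y, show jS y ∈ V from hy.symm ▸ ⟨hb, hbx ▸ x.2⟩, hS.inj ?_⟩
        rw [hS.add, hy, ← hq b hb, hbx, ← hqe, hx, hr]
      · intro v hv hvfix
        show jS v ∈ V
        by_contra hvV
        obtain ⟨k, hk⟩ := hfix (jS v) ((hΩiff _).2 ⟨hS.mem v, by rw [← hS.add, hv, hS.zero]⟩)
          fun h => hvV (hc.le_pre C h)
        exact hk (by rw [← hS.smul, hvfix])
  · -- outside elements invert the hyperplane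
    have hβw : ∀ x : C, β w x.1 = q x.1 := fun x => by
      have := congrArg qe (hf x)
      rwa [show qe (f x) = β w x.1 from qe.apply_symm_apply _, hqe] at this
    have hconst : ∀ x : C, q (w + x.1) = q w := fun x => by
      have hsym : β x.1 w = β w x.1 := by
        have h := hqadd w x.1
        rw [add_comm w x.1, hqadd, add_comm (q x.1) (q w)] at h
        exact (add_left_cancel h).symm
      rw [hqadd, hsym, hβw, add_assoc, hR2, add_zero]
    have hw0 : q w = 0 := hnofix _ fun g => by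
      rw [← hqL, smul_eq_add g w, add_comm]
      exact hconst ⟨dis g w, hdis g w⟩
    have hout : ∀ a ∈ ρ.ker, a ∉ V → a * a = 1 := fun a ha haV => (hq_eq a ha).2 (by
      have hmem : w + c a ∈ C := (AddSubgroup.add_mem_iff_of_index_two hidx).2
        ⟨fun h => absurd h hw, fun h => absurd ⟨ha, h⟩ haV⟩
      have h := hconst ⟨_, hmem⟩
      rwa [← add_assoc, hW2, zero_add, hw0] at h)
    obtain ⟨s, hs⟩ := exists_order_four hL
    obtain ⟨e, -⟩ := exists_coords hL h2C hC8 hCnt hs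
    obtain ⟨x, hx, hxe⟩ := hc.surj (e (1, 0, 0)).1
    obtain ⟨y, hy, hye⟩ := hc.surj (e (0, 1, 0)).1
    obtain ⟨z, hz, hze⟩ := hc.surj (e (0, 0, 1)).1
    refine inverted_group hL hρ hVn (hc.pre_le C) hP128 hV64 hVab (fun a ha => h4 a ha.1) M hMiff hM8 hout
      (x := x) (y := y) (z := z) ⟨hx, hxe ▸ (e (1, 0, 0)).2⟩ ⟨hy, hye ▸ (e (0, 1, 0)).2⟩
      ⟨hz, hze ▸ (e (0, 0, 1)).2⟩ ?_ ?_ hK
    · intro a b d h
      rw [← hq x hx, ← hq y hy, ← hq z hz, hxe, hye, hze, ← hqe, ← hqe, ← hqe, ← hj.nsmul, ← hj.nsmul,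
        ← hj.nsmul, ← hj.add, ← hj.add, ← hj.zero] at h
      have h' := hj.inj h
      simp only [← map_nsmul, ← map_add, AddEquiv.map_eq_zero_iff] at h'
      clear h
      revert h'
      revert a b d
      decide
    · intro k hk
      refine faithful hCnt fun v => Subtype.ext ?_
      obtain ⟨a, ha, hav⟩ := hc.surj v.1
      show ρ k • v.1 = v.1
      rw [← hav, ← hc.map_smul k a ha, hk a ⟨ha, hav ▸ v.2⟩]

include hβalt in
/-- A fixed vector without invariant hyperplane is impossible. -/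
theorem no_fixed_vector (hW16 : Nat.card W = 16) {w₀ : W} (hw₀ : w₀ ≠ 0) (hfix : ∀ g : L, g • w₀ = w₀)
    (hno : ∀ C : AddSubgroup W, Nat.card C = 8 → ¬ ∀ (g : L), ∀ x ∈ C, g • x ∈ C) : False := by
  set Z := AddSubgroup.zmultiples w₀ with hZ
  have hZi : ∀ (g : L), ∀ x ∈ Z, g • x ∈ Z := fun g x hx => by
    obtain ⟨i, rfl⟩ := AddSubgroup.mem_zmultiples_iff.1 hx
    rw [smul_comm g i w₀, hfix]; exact hx
  letI := quotAct Z hZi
  have hq8 := quot_card hW2 hW16 hw₀
  have hqnt := quot_nontrivial hL hW2 hW16 hWnt hfix hZi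
  have h2q : ∀ x : W ⧸ Z, x + x = 0 := fun x => by
    obtain ⟨v, rfl⟩ := QuotientAddGroup.mk_surjective x
    rw [← QuotientAddGroup.mk_add, hW2, QuotientAddGroup.mk_zero]
  set m := QuotientAddGroup.mk' Z with hm
  have hm0 : ∀ v, m v = 0 ↔ v ∈ Z := fun v => QuotientAddGroup.eq_zero_iff v
  have hmd : ∀ (g : L) v, m (dis g v) = dis g (m v) := fun g v => map_sub m (g • v) v
  have hsym : ∀ a b, β a b = β b a := fun a b => by
    have h := hqadd a b
    rw [add_comm a b, hqadd b a, add_comm (q b) (q a)] at h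
    exact add_left_cancel h
  have hβ₀L : ∀ (g : L) v, β w₀ (g • v) = g • β w₀ v := fun g v => by
    rw [← hβL, hfix]
  have hZle : Z ≤ (β w₀).ker := AddSubgroup.zmultiples_le.2 (hβalt w₀)
  let f : W ⧸ Z →+ R := QuotientAddGroup.lift Z (β w₀) hZle
  have hfm : ∀ v, f (m v) = β w₀ v := fun v => rfl
  have hfL : ∀ (g : L) x, f (g • x) = g • f x := fun g x => by
    obtain ⟨v, rfl⟩ := QuotientAddGroup.mk_surjective x
    exact hβ₀L g v
  -- descent of a form killing the fixed vector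
  have hdesc : (∀ v, β w₀ v = 0) → ∃ βq : W ⧸ Z →+ W ⧸ Z →+ R, ∀ u v, βq (m u) (m v) = β u v := by
    intro h0
    have h1 : ∀ u, Z ≤ (β u).ker := fun u => AddSubgroup.zmultiples_le.2 ((hsym u w₀).trans (h0 u))
    let β1 : W →+ W ⧸ Z →+ R := AddMonoidHom.mk' (fun u => QuotientAddGroup.lift Z (β u) (h1 u))
      fun a b => AddMonoidHom.ext fun x => by
        obtain ⟨v, rfl⟩ := QuotientAddGroup.mk_surjective x
        show β (a + b) v = β a v + β b v
        rw [map_add]; rfl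
    refine ⟨QuotientAddGroup.lift Z β1 (AddSubgroup.zmultiples_le.2 (AddMonoidHom.ext fun x => ?_)),
      fun u v => rfl⟩
    obtain ⟨v, rfl⟩ := QuotientAddGroup.mk_surjective x
    exact h0 v
  rcases hRirr with ⟨htriv, hR2c⟩ | ⟨hR8, hRnt, hnofix⟩
  · have h0 : ∀ v, β w₀ v = 0 := fun v => by
      rw [← hfm]
      exact functional_eq_zero hL h2q hq8 hqnt f (fun g x => (hfL g x).trans (htriv g _)) _
    obtain ⟨βq, hβq⟩ := hdesc h0
    have hβ0 : ∀ u v, β u v = 0 := fun u v => by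
      rw [← hβq]
      refine form_eq_zero hL h2q hq8 hqnt βq (fun g x y => ?_) (fun x => ?_) _ _
      · obtain ⟨a, rfl⟩ := QuotientAddGroup.mk_surjective x
        obtain ⟨b, rfl⟩ := QuotientAddGroup.mk_surjective y
        show βq (m (g • a)) (m (g • b)) = βq (m a) (m b)
        rw [hβq, hβq, hβL, htriv]
      · obtain ⟨a, rfl⟩ := QuotientAddGroup.mk_surjective x
        show βq (m a) (m a) = 0
        rw [hβq, hβalt]
    let qW : W →+ R := AddMonoidHom.mk' q fun x y => by rw [hqadd, hβ0, add_zero]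
    refine hno qW.ker ?_ fun g x hx => ?_
    · have h := qW.ker.card_mul_index
      obtain ⟨x, hx⟩ := hqne
      have htop : qW.range = ⊤ := AddSubgroup.eq_top_of_card_eq _ <| le_antisymm
        (AddSubgroup.card_le_card_addGroup _) (by
          rw [hR2c]
          haveI : Nontrivial qW.range := ⟨⟨⟨q x, x, rfl⟩, 0, fun e => hx (congrArg Subtype.val e)⟩⟩
          exact Finite.one_lt_card)
      rw [AddSubgroup.index_ker, htop, AddSubgroup.card_top, hR2c, hW16] at h
      omega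
    · show q (g • x) = 0
      rw [hqL, show q x = 0 from hx, smul_zero]
  have hq0 : q w₀ = 0 := hnofix _ fun g => by rw [← hqL, hfix]
  obtain ⟨s, hs⟩ := exists_order_four hL
  obtain ⟨e, k₁, -, he, ht, hk₁, -, hg1, -, -⟩ := pencil hL h2q hq8 hqnt hs
  obtain ⟨x, hx⟩ := QuotientAddGroup.mk'_surjective Z (e (1, 0, 0))
  have hDDx : m (dis s (dis s x)) = e (0, 0, 1) := by rw [hmd, hmd, hx, he, he]
  have hxZ : dis s (dis s x) ∉ Z := fun h => by
    have := (hm0 _).2 h
    rw [hDDx, AddEquiv.map_eq_zero_iff] at this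
    exact absurd this (by decide)
  have hblock := block_of_fixed hL hW2 hW16 hWnt hw₀ hfix hno hs hxZ
  by_cases hf0 : ∀ v, β w₀ v = 0
  · -- the squaring map descends
    obtain ⟨βq, hβq⟩ := hdesc hf0
    have hqc : ∀ u v, m u = m v → q u = q v := by
      intro u v huv
      have hz : v - u ∈ Z := by rw [← hm0, map_sub, huv, sub_self]
      obtain ⟨i, hi⟩ := AddSubgroup.mem_zmultiples_iff.1 hz
      rw [← add_sub_cancel u v, ← hi]
      rcases Int.even_or_odd i with ⟨l, rfl⟩ | ⟨l, rfl⟩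
      · rw [add_zsmul, hW2, add_zero]
      · rw [add_zsmul, two_mul, add_zsmul, hW2, zero_add, one_zsmul, hqadd, hq0, hf0, add_zero, add_zero]
    let r : W ⧸ Z → W := Function.surjInv (QuotientAddGroup.mk'_surjective Z)
    have hr : ∀ x, m (r x) = x := Function.surjInv_eq (QuotientAddGroup.mk'_surjective Z)
    let qb : W ⧸ Z → R := fun x => q (r x)
    have hqb : ∀ v, qb (m v) = q v := fun v => hqc _ _ (hr _)
    have hqbL : ∀ (g : L) x, qb (g • x) = g • qb x := fun g x => by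
      obtain ⟨v, rfl⟩ := QuotientAddGroup.mk_surjective x
      show qb (m (g • v)) = g • qb (m v)
      rw [hqb, hqb, hqL]
    have hqbq : ∀ x y z, qb (x + y + z) = qb (x + y) + qb (x + z) + qb (y + z) + qb x + qb y + qb z := by
      intro x y z
      obtain ⟨a, rfl⟩ := QuotientAddGroup.mk'_surjective Z x
      obtain ⟨b, rfl⟩ := QuotientAddGroup.mk'_surjective Z y
      obtain ⟨d, rfl⟩ := QuotientAddGroup.mk'_surjective Z z
      simp only [← map_add, ← hm, hqb]
      exact quad_identity hqadd hR2 a b d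
    rcases quad_cases hL h2q hq8 hqnt hR2 (Or.inr hR8) qb hqbL hqbq with h | ⟨hbij, -, -, hadd⟩
    · obtain ⟨v, hv⟩ := hqne
      exact hv (by rw [← hqb v, h])
    have hβ0 : ∀ u v, β u v = 0 := fun u v => by
      have h := hqadd v u
      have h' : q (v + u) = q v + q u := by rw [← hqb, ← hqb v, ← hqb u, map_add, hadd]
      rwa [h', left_eq_add] at h
    have hab := abel_of_form_zero hc hj hβ hβ0
    have hM8 : Nat.card M = 8 := hj.card_eq.symm.trans hR8
    set Ω := hc.pre Z with hΩ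
    have hΩiff : ∀ a, a ∈ Ω ↔ a ∈ ρ.ker ∧ a * a = 1 := by
      intro a
      refine ⟨fun h => ⟨h.1, ?_⟩, fun h => ⟨h.1, (hm0 _).1 (hbij.1 ?_)⟩⟩
      · rw [← hq a h.1, ← hqb, (hm0 _).2 h.2, ← map_zero m, hqb, ← hc.one, hq 1 (one_mem _), one_mul]
      · refine hj.inj ?_
        rw [hqb, hq a h.1, h.2, ← map_zero m, hqb, ← hc.one, hq 1 (one_mem _), one_mul]
    have hΩ16 : Nat.card Ω = 16 := by
      rw [hc.card_pre, hM8, Nat.card_zmultiples, addOrderOf_eq_prime (p := 2) (by rw [two_nsmul, hW2]) hw₀]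
    obtain ⟨S, _, _, _, jS, hS⟩ := exists_embeds ρ hρ ρ.ker (MonoidHom.normal_ker ρ) hab fun k hk a ha => by
      rw [hab k (MonoidHom.mem_ker.2 hk) a ha, mul_inv_cancel_right]
    have hcd : ∀ (g : L) (v : S), c (jS (dis g v)) = dis g (c (jS v)) := by
      intro g v
      obtain ⟨k, rfl⟩ := hρ g
      have hconj := (MonoidHom.normal_ker ρ).conj_mem _ (hS.mem v) k
      rw [← hS.conj_mul_inv, hc.map_mul _ hconj _ (inv_mem (hS.mem v)), hc.map_inv (hS.mem v),
        hc.map_smul k _ (hS.mem v), ← sub_eq_add_neg, dis_apply]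
    obtain ⟨a, ha, hax⟩ := hc.surj x
    obtain ⟨x', hx'⟩ := hS.surj a ha
    refine no_block hL hρ hS rfl (hS.four fun a ha => hM2 _ (by rw [← hq a ha]; exact hj.mem _))
      ((card_tor hS hΩiff).trans hΩ16) hs (x := x') (fun h => hw₀ ?_) (fun v hv => ?_) hK
    · obtain ⟨y, -, hy⟩ := mem_twice.1 h
      have h1 : c (jS (dis s (dis s (dis s x')))) = w₀ := by rw [hcd, hcd, hcd, hx', hax, hblock]
      rw [← h1, ← hy, hS.add, hc.map_mul _ (hS.mem y) _ (hS.mem y), hW2]
    · have hvΩ : jS v ∈ Ω := (hΩiff _).2 ⟨hS.mem v, by rw [← hS.add, hv, hS.zero]⟩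
      have hd : jS (dis s v) ∈ M := (hc.ker _ (hS.mem _)).1 (by
        obtain ⟨i, hi⟩ := AddSubgroup.mem_zmultiples_iff.1 hvΩ.2
        rw [hcd, ← hi, map_zsmul, dis_eq_zero.2 (hfix s), zsmul_zero])
      obtain ⟨r, hr⟩ := hj.surj _ hd
      obtain ⟨y, hy⟩ := hbij.2 r
      obtain ⟨v', rfl⟩ := QuotientAddGroup.mk'_surjective Z y
      obtain ⟨b, hb, rfl⟩ := hc.surj v'
      obtain ⟨y', rfl⟩ := hS.surj b hb
      refine mem_twice.2 ⟨y', trivial, hS.inj ?_⟩
      rw [hqb] at hy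
      rw [hS.add, ← hq _ (hS.mem y'), hy, hr]
  · -- the fixed vector pairs faithfully
    push Not at hf0
    obtain ⟨v₁, hv₁⟩ := hf0
    have hinj : Function.Injective f := (injective_iff_map_eq_zero f).2 fun y hy => by
      by_contra hy0
      have hv0 : m v₁ ≠ 0 := fun h => hv₁ (by rw [← hfm, h, map_zero])
      obtain ⟨g, hg⟩ := transitive hL h2q hq8 hqnt hy0 hv0
      exact hv₁ (by rw [← hfm, ← hg, hfL, hy, smul_zero])
    have hsurj := (hinj.bijective_of_nat_card_le (hR8.le.trans hq8.ge)).2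
    set ũ := dis s (dis s x) with hu
    have hmu : f (e (0, 0, 1)) ≠ 0 := fun h => by
      have := hinj (h.trans (map_zero f).symm)
      exact absurd (e.injective (this.trans (map_zero e).symm)) (by decide)
    have hsu : s • ũ = w₀ + ũ := by rw [smul_eq_add s ũ, hblock]
    have hDq : dis s (q ũ) = f (e (0, 0, 1)) := by
      have h := hqL s ũ
      rw [hsu, hqadd, hq0, zero_add, hsym, ← hfm, hDDx] at h
      rw [dis_apply, ← h, add_sub_cancel_left]
    have htu : dis (s * s) ũ = 0 := by rw [← dis_dis hW2, hblock, dis_eq_zero.2 (hfix s)]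
    set t' := k₁ * (s * s) * k₁⁻¹ with ht'
    have ht'u : t' • ũ = ũ := by
      have hcls : m (k₁⁻¹ • ũ) = m ũ := by
        rw [show m (k₁⁻¹ • ũ) = k₁⁻¹ • m ũ from rfl, hDDx, inv_smul_eq_iff, hk₁]
      obtain ⟨i, hi⟩ := AddSubgroup.mem_zmultiples_iff.1 ((hm0 (k₁⁻¹ • ũ - ũ)).1 (by rw [map_sub, hcls, sub_self]))
      have hfixed : (s * s) • (k₁⁻¹ • ũ) = k₁⁻¹ • ũ := by
        rw [show k₁⁻¹ • ũ = i • w₀ + ũ by rw [hi, sub_add_cancel], smul_add, smul_comm (s * s) i w₀,
          hfix, dis_eq_zero.1 htu]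
      rw [ht', mul_smul, mul_smul, hfixed, smul_inv_smul]
    obtain ⟨y, hy⟩ := hsurj (q ũ)
    obtain ⟨⟨a, b, d⟩, rfl⟩ := e.surjective y
    have ha : a = 0 := by
      have h : f (dis (s * s) (e (a, b, d))) = 0 := by
        rw [dis_apply, map_sub, hfL, hy, ← hqL, dis_eq_zero.1 htu, sub_self]
      rw [ht] at h
      simpa using e.injective ((hinj (h.trans (map_zero f).symm)).trans (map_zero e).symm)
    have hb : b = 0 := by
      have h : f (dis t' (e (a, b, d))) = 0 := by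
        rw [dis_apply, map_sub, hfL, hy, ← hqL, ht'u, sub_self]
      rw [hg1] at h
      simpa using e.injective ((hinj (h.trans (map_zero f).symm)).trans (map_zero e).symm)
    subst ha hb
    apply hmu
    rw [← hDq, ← hy, dis_apply, ← hfL, ← map_sub, ← dis_apply, he]
    exact (congrArg f (map_zero e)).trans (map_zero f)

omit hc hj hM2 hq hqL hβ hβL hqadd hW2 hR2 hWnt hfaith hRirr hqne in
/-- The first layer. -/
theorem layer_one (hP : IsPGroup 2 ρ.ker) (hM : M.Normal) (hMP : M ≤ ρ.ker) (hMne : M ≠ ⊥)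
    (hmin : ∀ N : Subgroup K, N.Normal → N ≤ M → N = ⊥ ∨ N = M)
    (hsq : ∀ a ∈ ρ.ker, a * a ∈ M) (hsq1 : ∃ a ∈ ρ.ker, a * a ≠ 1)
    (hfaith : ∀ k, (∀ a ∈ ρ.ker, k * a * k⁻¹ * a⁻¹ ∈ M) → ρ k = 1) :
    Nat.card M = 2 ∧ (∀ a ∈ ρ.ker, ∀ b ∈ ρ.ker, a * b = b * a) ∧ Nat.card ρ.ker = 32 ∧
      ∃ V : Subgroup K, V.Normal ∧ M ≤ V ∧ V ≤ ρ.ker ∧ Nat.card V = 16 ∧ ∀ a ∈ V, a * a = 1 := by
  obtain ⟨hMc, hM2⟩ := minimal_central hP (MonoidHom.normal_ker ρ) hM hMP hMne hmin
  have hcomm : ∀ a ∈ ρ.ker, ∀ b ∈ ρ.ker, a * b * a⁻¹ * b⁻¹ ∈ M := fun a ha b hb =>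
    comm_mem_of_sq hM hsq ha hb
  obtain ⟨W, _, _, _, c, hc⟩ := exists_sec ρ hρ ρ.ker M (MonoidHom.normal_ker ρ) hM hMP hMP hcomm
    fun k hk a ha => hcomm k (MonoidHom.mem_ker.2 hk) a ha
  obtain ⟨R, _, _, _, j, hj⟩ := exists_embeds ρ hρ M hM (fun a ha b hb => hMc a (hMP ha) b hb)
    fun k hk a ha => by rw [hMc k (MonoidHom.mem_ker.2 hk) a ha, mul_inv_cancel_right]
  have hW2 := hc.two hsq
  have hR2 : ∀ r : R, r + r = 0 := fun r => hj.inj (by rw [hj.add, hM2 _ (hj.mem r), hj.zero])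
  have hWnt : ∃ (g : L) (x : W), g • x ≠ x := by
    by_contra hcon
    push Not at hcon
    haveI : Subsingleton L := ⟨fun a b => by
      have key : ∀ k, ρ k = 1 := fun k => hfaith k fun a ha => by
        have h : c (k * a * k⁻¹) = c a := by rw [hc.map_smul k a ha, hcon]
        rw [eq_comm, hc.eq_iff ha ((MonoidHom.normal_ker ρ).conj_mem a ha k)] at h
        rw [show k * a * k⁻¹ * a⁻¹ = a * (a⁻¹ * (k * a * k⁻¹)) * a⁻¹ by group]
        exact hM.conj_mem _ h a
      obtain ⟨k, rfl⟩ := hρ a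
      obtain ⟨l, rfl⟩ := hρ b
      rw [key, key]⟩
    rw [Nat.card_of_subsingleton (1 : L)] at hL
    exact absurd hL (by norm_num)
  have hMpos : 0 < Nat.card M := Nat.card_pos
  have hWle : Nat.card W ≤ 16 := by
    have h := section_le hK (A := ρ.ker) (B := M) hMP (fun a _ n hn => hM.conj_mem n hn a) hsq hcomm
    rw [← hc.card] at h
    exact Nat.le_of_mul_le_mul_right h hMpos
  have hW8 := eight_le hL hWnt hW2
  have hWcases : Nat.card W = 8 ∨ Nat.card W = 16 := by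
    obtain ⟨n, hn⟩ := IsPGroup.iff_card.1 hP
    have hd : Nat.card W ∣ 2 ^ n := hn ▸ Dvd.intro _ hc.card
    obtain ⟨i, -, hi⟩ := (Nat.dvd_prime_pow Nat.prime_two).1 hd
    rw [hi] at hWle hW8 ⊢
    have h4 : i ≤ 4 := (Nat.pow_le_pow_iff_right (le_refl 2)).1 (hWle.trans (by norm_num))
    interval_cases i <;> first | (norm_num at hW8; done) | norm_num
  have hRirr := small_module hL hR2 (by
    rw [hj.card_eq]
    have h := section_le hK (A := M) (B := ⊥) bot_le
      (fun a _ n hn => by rw [mem_bot.1 hn, mul_one, mul_inv_cancel]; exact one_mem _)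
      (fun a ha => mem_bot.2 (hM2 a ha))
      (fun a ha b hb => by rw [mem_bot, hMc a (hMP ha) b hb, mul_inv_cancel_right, mul_inv_cancel])
    rwa [card_bot, mul_one] at h)
    (by
      obtain ⟨m, hm, hm1⟩ := M.bot_or_exists_ne_one.resolve_left hMne
      obtain ⟨r, rfl⟩ := hj.surj m hm
      exact ⟨r, fun h => hm1 (by rw [h, hj.zero])⟩)
    (fun U hU => by
      rcases hmin (hj.sub U) ⟨by
        rintro _ ⟨r, hr, rfl⟩ k
        rw [← hj.smul]
        exact hj.mem_sub.2 (hU _ r hr)⟩ hj.sub_le with h | h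
      · left
        refine eq_bot_iff.2 fun r hr => ?_
        have hm : j r ∈ hj.sub U := hj.mem_sub.2 hr
        rw [h, mem_bot, ← hj.zero] at hm
        exact hj.inj hm
      · exact Or.inr (eq_top_iff.2 fun r _ => hj.mem_sub.1 (h.ge (hj.mem r))))
  obtain ⟨β, hβ, hβL', hβalt⟩ := exists_form hc (MonoidHom.normal_ker ρ) hj hcomm hMc
    fun a ha d hd => hMc a ha d hd
  obtain ⟨q, hq, hqL', hqadd⟩ := exists_squaring hc (MonoidHom.normal_ker ρ) hj hsq hM2 hMc
    (fun a ha d hd => hMc a ha d hd) β hβ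
  have hqL : ∀ (g : L) (x : W), q (g • x) = g • q x := fun g x => hqL' g x (hρ g)
  have hβL : ∀ (g : L) (x y : W), β (g • x) (g • y) = g • β x y := fun g x y => hβL' g x y (hρ g)
  have hqne : ∃ x, q x ≠ 0 := by
    obtain ⟨a, ha, ha2⟩ := hsq1
    exact ⟨c a, fun h => ha2 (by rw [← hq a ha, h, hj.zero])⟩
  rcases hWcases with hW | hW
  · exact (no_three hL hρ hc hj hM2 hq hqL hβ hβL hqadd hW2 hR2 hWnt hfaith hRirr hqne hK hW).elim
  by_cases hC : ∃ C : AddSubgroup W, Nat.card C = 8 ∧ ∀ (g : L), ∀ x ∈ C, g • x ∈ C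
  · obtain ⟨C, hC8, hCi⟩ := hC
    exact shape_of_hyperplane hL hρ hc hj hM2 hq hqL hβ hβL hβalt hqadd hW2 hR2 hWnt hfaith hRirr hqne hK
      hW C hC8 hCi
  · rcases invariant_or_fixed hL hW2 hW hWnt with h | ⟨w, hw, hwf⟩
    · exact absurd h hC
    · exact (no_fixed_vector hL hρ hc hj hM2 hq hqL hβ hβL hβalt hqadd hW2 hR2 hWnt hfaith hRirr hqne hK
        hW hw hwf fun C h8 hi => hC ⟨C, h8, hi⟩).elim

end Cfsg.Lib.Small.SecRankFour.Linear
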