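import Cfsg.Agent.Lib.Small.SecRankFour.Linear.LayerOne
import Cfsg.Agent.Lib.Small.SecRankFour.Linear.Cyclic

/-!
# No second layer
-/

set_option autoImplicit false

namespace Cfsg.Lib.Small.SecRankFour.Linear

open Subgroup

universe u

variable {K : Type u} [Group K] [Finite K] {L : Type*} [Group L] [Finite L] [IsSimpleGroup L]
  (hL : Nat.card L = 168) {ρ : K →* L}

include hL

omit [IsSimpleGroup L] in
theorem sec_nontrivial (hρ : Function.Surjective ρ) {A B : Subgroup K} (hA : A.Normal) (hB : B.Normal)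
    {W : Type*} [AddCommGroup W] [DistribMulAction L W] {c : K → W} (hc : Sec ρ A B c)
    (hfaith : ∀ k, (∀ a ∈ A, k * a * k⁻¹ * a⁻¹ ∈ B) → ρ k = 1) : ∃ (g : L) (x : W), g • x ≠ x := by
  by_contra hcon
  push Not at hcon
  haveI : Subsingleton L := ⟨fun a b => by
    have key : ∀ k, ρ k = 1 := fun k => hfaith k fun a ha => by
      have h : c (k * a * k⁻¹) = c a := by rw [hc.map_smul k a ha, hcon]
      rw [eq_comm, hc.eq_iff ha (hA.conj_mem a ha k)] at h
      rw [show k * a * k⁻¹ * a⁻¹ = a * (a⁻¹ * (k * a * k⁻¹)) * a⁻¹ by group]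
      exact hB.conj_mem _ h a
    obtain ⟨k, rfl⟩ := hρ a
    obtain ⟨l, rfl⟩ := hρ b
    rw [key, key]⟩
  rw [Nat.card_of_subsingleton (1 : L)] at hL
  exact absurd hL (by norm_num)

omit [Finite K] in
theorem minimal_module [Finite K] (hK : Cfsg.SectionalPRankLE 2 4 K) {M : Subgroup K}
    (hMab : ∀ a ∈ M, ∀ b ∈ M, a * b = b * a) (hM2 : ∀ m ∈ M, m * m = 1) (hMne : M ≠ ⊥)
    (hmin : ∀ N : Subgroup K, N.Normal → N ≤ M → N = ⊥ ∨ N = M) (hρ : Function.Surjective ρ)
    {R : Type*} [AddCommGroup R] [Finite R] [DistribMulAction L R] {j : R → K} (hj : Embeds ρ M j) :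
    ((∀ (g : L) (r : R), g • r = r) ∧ Nat.card R = 2) ∨
      (Nat.card R = 8 ∧ (∃ (g : L) (r : R), g • r ≠ r) ∧ ∀ r : R, (∀ g : L, g • r = r) → r = 0) := by
  refine small_module hL (fun r => hj.inj (by rw [hj.add, hM2 _ (hj.mem r), hj.zero])) ?_ ?_ ?_
  · rw [hj.card_eq]
    have h := section_le hK (A := M) (B := ⊥) bot_le
      (fun a _ n hn => by rw [mem_bot.1 hn, mul_one, mul_inv_cancel]; exact one_mem _)
      (fun a ha => mem_bot.2 (hM2 a ha))
      (fun a ha b hb => by rw [mem_bot, hMab a ha b hb, mul_inv_cancel_right, mul_inv_cancel])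
    rwa [card_bot, mul_one] at h
  · obtain ⟨m, hm, hm1⟩ := M.bot_or_exists_ne_one.resolve_left hMne
    obtain ⟨r, rfl⟩ := hj.surj m hm
    exact ⟨r, fun h => hm1 (by rw [h, hj.zero])⟩
  · intro U hU
    rcases hmin (hj.sub U) ⟨by
      rintro _ ⟨r, hr, rfl⟩ k
      rw [← hj.smul]
      exact hj.mem_sub.2 (hU _ r hr)⟩ hj.sub_le with h | h
    · left
      refine eq_bot_iff.2 fun r hr => ?_
      have hm : j r ∈ hj.sub U := hj.mem_sub.2 hr
      rw [h, mem_bot, ← hj.zero] at hm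
      exact hj.inj hm
    · exact Or.inr (eq_top_iff.2 fun r _ => hj.mem_sub.1 (h.ge (hj.mem r)))

omit hL [Finite L] [IsSimpleGroup L] in
/-- A form on a group of order sixteen vanishing on a hyperplane and against one outside vector. -/
theorem form_ext {W R : Type*} [AddCommGroup W] [AddCommGroup R] (hW2 : ∀ x : W, x + x = 0)
    (β : W →+ W →+ R) (halt : ∀ x, β x x = 0) {C : AddSubgroup W} (hidx : C.index = 2) {w : W}
    (hw : w ∉ C) (h1 : ∀ x y : C, β x.1 y.1 = 0) (h2 : ∀ y : C, β w y.1 = 0) (x y : W) : β x y = 0 := by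
  have h2' : ∀ y : C, β y.1 w = 0 := fun y => by
    have h := halt (w + y.1)
    simpa [map_add, halt, h2 y] using h
  have hdec : ∀ v : W, ∃ i : ℕ, ∃ y : C, v = i • w + y.1 := fun v => by
    by_cases hv : v ∈ C
    · exact ⟨0, ⟨v, hv⟩, by simp⟩
    · refine ⟨1, ⟨w + v, (AddSubgroup.add_mem_iff_of_index_two hidx).2
        ⟨fun h => absurd h hw, fun h => absurd h hv⟩⟩, ?_⟩
      show v = 1 • w + (w + v)
      rw [one_nsmul, ← add_assoc, hW2, zero_add]
  obtain ⟨i, x', rfl⟩ := hdec x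
  obtain ⟨l, y', rfl⟩ := hdec y
  simp [map_add, map_nsmul, h1, h2, h2', halt]

/-- An invariant alternating form with values fixed by the group vanishes. -/
theorem form_zero_trivial {W R : Type*} [AddCommGroup W] [Finite W] [DistribMulAction L W] [AddCommGroup R]
    [DistribMulAction L R] (hW2 : ∀ x : W, x + x = 0) (hW16 : Nat.card W = 16)
    (hWnt : ∃ (g : L) (x : W), g • x ≠ x) {C : AddSubgroup W} (hC8 : Nat.card C = 8)
    (hCi : ∀ (g : L), ∀ x ∈ C, g • x ∈ C) (htriv : ∀ (g : L) (r : R), g • r = r) (β : W →+ W →+ R)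
    (hβL : ∀ (g : L) (x y : W), β (g • x) (g • y) = g • β x y) (halt : ∀ x, β x x = 0) (x y : W) :
    β x y = 0 := by
  letI := subAct C hCi
  have hCnt := sub_nontrivial hL hW2 hW16 hWnt hC8 hCi
  have h2C : ∀ x : C, x + x = 0 := fun x => Subtype.ext (hW2 x.1)
  obtain ⟨w, hw⟩ : ∃ w, w ∉ C := by
    by_contra hcon
    push Not at hcon
    have := index_two hW16 hC8
    rw [AddSubgroup.index_eq_one.2 (eq_top_iff.2 fun x _ => hcon x)] at this
    omega
  have hCC : ∀ x y : C, β x.1 y.1 = 0 := fun x y =>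
    form_eq_zero hL h2C hC8 hCnt (AddMonoidHom.compl₂ (β.comp C.subtype) C.subtype)
      (fun g a b => (hβL g a.1 b.1).trans (htriv g _)) (fun a => halt a.1) x y
  refine form_ext hW2 β halt (index_two hW16 hC8) hw hCC (fun y => ?_) x y
  refine functional_eq_zero hL h2C hC8 hCnt ((β w).comp C.subtype) (fun g y => ?_) y
  show β w (g • y.1) = β w y.1
  have h1 := (hβL g w y.1).trans (htriv g _)
  rw [smul_eq_add g w, map_add, AddMonoidHom.add_apply,
    hCC ⟨dis g w, dis_mem hW16 hC8 hCi g w⟩ ⟨g • y.1, hCi g _ y.2⟩, zero_add] at h1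
  exact h1

/-- There is no second layer. -/
theorem no_layer_two (hρ : Function.Surjective ρ) (hP : IsPGroup 2 ρ.ker)
    (hK : Cfsg.SectionalPRankLE 2 4 K) {M D V : Subgroup K} (hM : M.Normal) (hD : D.Normal) (hV : V.Normal)
    (hMne : M ≠ ⊥) (hmin : ∀ N : Subgroup K, N.Normal → N ≤ M → N = ⊥ ∨ N = M)
    (hMD : M ≤ D) (hDV : D ≤ V) (hVP : V ≤ ρ.ker) (hDcard : Nat.card D = 2 * Nat.card M)
    (hVcard : Nat.card V = 16 * Nat.card M) (hPcard : Nat.card ρ.ker = 32 * Nat.card M)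
    (hsq : ∀ a ∈ ρ.ker, a * a ∈ D) (hsqV : ∀ a ∈ V, a * a ∈ M) (hsq1 : ∃ a ∈ ρ.ker, a * a ∉ M)
    (hcomm : ∀ a ∈ ρ.ker, ∀ b ∈ ρ.ker, a * b * a⁻¹ * b⁻¹ ∈ M)
    (hfaith : ∀ k, (∀ a ∈ ρ.ker, k * a * k⁻¹ * a⁻¹ ∈ D) → ρ k = 1) : False := by
  classical
  have hPn : ρ.ker.Normal := MonoidHom.normal_ker ρ
  have hMP : M ≤ ρ.ker := hMD.trans (hDV.trans hVP)
  obtain ⟨hMc, hM2⟩ := minimal_central hP hPn hM hMP hMne hmin
  obtain ⟨a₀, ha₀, hσM⟩ := hsq1
  set σ := a₀ * a₀ with hσ
  have hσD : σ ∈ D := hsq a₀ ha₀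
  have hσP : σ ∈ ρ.ker := mul_mem ha₀ ha₀
  -- the two cosets in `D`
  have hDcases : ∀ d ∈ D, d ∈ M ∨ ∃ m ∈ M, d = σ * m := by
    let F : M ⊕ M → D := fun x => x.elim (fun m => ⟨m.1, hMD m.2⟩) fun m => ⟨σ * m.1, mul_mem hσD (hMD m.2)⟩
    have hF : Function.Injective F := by
      rintro (m | m) (n | n) h <;> have h' := congrArg Subtype.val h <;> simp only [F, Sum.elim_inl, Sum.elim_inr] at h'
      · exact congrArg Sum.inl (Subtype.ext h')
      · exact absurd ((mul_mem_cancel_right n.2).1 (h' ▸ m.2)) hσM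
      · exact absurd ((mul_mem_cancel_right m.2).1 (h'.symm ▸ n.2)) hσM
      · exact congrArg Sum.inr (Subtype.ext (mul_left_cancel h'))
    have hFs := (hF.bijective_of_nat_card_le (by rw [Nat.card_sum, hDcard]; omega)).2
    intro d hd
    obtain ⟨(m | m), hm⟩ := hFs ⟨d, hd⟩
    · exact Or.inl ((show m.1 = d from congrArg Subtype.val hm) ▸ m.2)
    · exact Or.inr ⟨m.1, m.2, (congrArg Subtype.val hm).symm⟩
  have hσc : ∀ b ∈ ρ.ker, b * σ = σ * b := by
    intro b hb
    have hx := hcomm a₀ ha₀ b hb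
    set x := a₀ * b * a₀⁻¹ * b⁻¹ with hxd
    have h1 : a₀ * b * a₀⁻¹ = x * b := by rw [hxd]; group
    have h2 : σ * b * σ⁻¹ = b := by
      rw [show σ * b * σ⁻¹ = a₀ * (a₀ * b * a₀⁻¹) * a₀⁻¹ by rw [hσ]; group, h1,
        show a₀ * (x * b) * a₀⁻¹ = (a₀ * x * a₀⁻¹) * (a₀ * b * a₀⁻¹) by group, h1,
        hMc a₀ ha₀ x hx, mul_inv_cancel_right, ← mul_assoc, hM2 x hx, one_mul]
    conv_lhs => rw [← h2]
    group
  have hDc : ∀ b ∈ ρ.ker, ∀ d ∈ D, b * d = d * b := by
    intro b hb d hd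
    rcases hDcases d hd with h | ⟨m, hm, rfl⟩
    · exact hMc b hb d h
    · rw [← mul_assoc, hσc b hb, mul_assoc, hMc b hb m hm, ← mul_assoc]
  obtain ⟨W, _, _, _, c, hc⟩ := exists_sec ρ hρ ρ.ker D hPn hD (hDV.trans hVP) (hDV.trans hVP)
    (fun a ha b hb => hMD (hcomm a ha b hb))
    fun k hk a ha => hMD (hcomm k (MonoidHom.mem_ker.2 hk) a ha)
  obtain ⟨R, _, _, _, j, hj⟩ := exists_embeds ρ hρ M hM (fun a ha b hb => hMc a (hMP ha) b hb)
    fun k hk a ha => by rw [hMc k (MonoidHom.mem_ker.2 hk) a ha, mul_inv_cancel_right]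
  have hRirr := minimal_module hL hK (fun a ha b hb => hMc a (hMP ha) b hb) hM2 hMne hmin hρ hj
  have hR2 : ∀ r : R, r + r = 0 := fun r => hj.inj (by rw [hj.add, hM2 _ (hj.mem r), hj.zero])
  have hW2 := hc.two hsq
  have hMpos : 0 < Nat.card M := Nat.card_pos
  have hW16 : Nat.card W = 16 := by
    have h := hc.card
    rw [hDcard, hPcard] at h
    exact Nat.eq_of_mul_eq_mul_right hMpos (by linarith : Nat.card W * Nat.card M = 16 * Nat.card M)
  have hWnt := sec_nontrivial hL hρ hPn hD hc hfaith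
  let C : AddSubgroup W :=
    { carrier := {x | ∃ a ∈ V, c a = x}
      zero_mem' := ⟨1, one_mem V, hc.one⟩
      add_mem' := by
        rintro _ _ ⟨a, ha, rfl⟩ ⟨b, hb, rfl⟩
        exact ⟨a * b, mul_mem ha hb, hc.map_mul a (hVP ha) b (hVP hb)⟩
      neg_mem' := by
        rintro _ ⟨a, ha, rfl⟩
        exact ⟨a⁻¹, inv_mem ha, hc.map_inv (hVP ha)⟩ }
  have hpre : ∀ a ∈ ρ.ker, c a ∈ C → a ∈ V := by
    rintro a ha ⟨v, hv, hva⟩
    exact (mul_mem_cancel_left (inv_mem hv)).1 (hDV ((hc.eq_iff (hVP hv) ha).1 hva))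
  have hC8 : Nat.card C = 8 := by
    have h : hc.pre C = V := le_antisymm (fun a ha => hpre a ha.1 ha.2) fun a ha => ⟨hVP ha, a, ha, rfl⟩
    have h' := hc.card_pre C
    rw [h, hVcard, hDcard] at h'
    exact Nat.eq_of_mul_eq_mul_right hMpos (by linarith : Nat.card C * Nat.card M = 8 * Nat.card M)
  have hCi : ∀ (g : L), ∀ x ∈ C, g • x ∈ C := by
    rintro g _ ⟨a, ha, rfl⟩
    obtain ⟨k, rfl⟩ := hρ g
    exact ⟨k * a * k⁻¹, hV.conj_mem a ha k, hc.map_smul k a (hVP ha)⟩
  letI := subAct C hCi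
  have hCnt := sub_nontrivial hL hW2 hW16 hWnt hC8 hCi
  have h2C : ∀ x : C, x + x = 0 := fun x => Subtype.ext (hW2 x.1)
  have hidx := index_two hW16 hC8
  have hdis := dis_mem hW16 hC8 hCi
  have ha₀V : a₀ ∉ V := fun h => hσM (hsqV a₀ h)
  have hwC : c a₀ ∉ C := fun h => ha₀V (hpre a₀ ha₀ h)
  have hcoset : ∀ a ∈ ρ.ker, a ∉ V → a₀⁻¹ * a ∈ V := fun a ha haV => by
    refine hpre _ (mul_mem (inv_mem ha₀) ha) ?_
    rw [hc.map_mul _ (inv_mem ha₀) _ ha, hc.map_inv ha₀, AddSubgroup.add_mem_iff_of_index_two hidx,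
      neg_mem_iff]
    exact ⟨fun h => absurd h hwC, fun h => absurd (hpre a ha h) haV⟩
  obtain ⟨β, hβ, hβL', hβalt⟩ := exists_form hc hPn hj hcomm hMc hDc
  have hβL : ∀ (g : L) (x y : W), β (g • x) (g • y) = g • β x y := fun g x y => hβL' g x y (hρ g)
  have habel : (∀ x y, β x y = 0) → ∀ a ∈ ρ.ker, ∀ b ∈ ρ.ker, a * b = b * a := fun h a ha b hb => by
    have h' := hβ a ha b hb
    rw [h, hj.zero, eq_comm, mul_inv_eq_one, mul_inv_eq_iff_eq_mul] at h'
    exact h'
  -- the square of an outside element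
  have hsqout : ∀ a ∈ ρ.ker, a ∉ V → a * a ∉ M := by
    intro a ha haV h
    have hv := hcoset a ha haV
    set v := a₀⁻¹ * a with hvd
    have hx := hcomm v (hVP hv) a₀ ha₀
    have hxe : a * a = σ * (v * v) * (v⁻¹ * (v * a₀ * v⁻¹ * a₀⁻¹) * v) := by
      rw [show v⁻¹ * (v * a₀ * v⁻¹ * a₀⁻¹) * v = v⁻¹ * ((v * a₀ * v⁻¹ * a₀⁻¹) * v) by group,
        ← hMc v (hVP hv) _ hx, inv_mul_cancel_left]
      rw [show a * a = a₀ * (v * a₀ * v⁻¹ * a₀⁻¹) * a₀ * (v * v) by rw [hvd]; group,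
        hMc a₀ ha₀ _ hx, show v * a₀ * v⁻¹ * a₀⁻¹ * a₀ * a₀ * (v * v) =
          (v * a₀ * v⁻¹ * a₀⁻¹) * (σ * (v * v)) by rw [hσ]; group,
        ← hMc _ (mul_mem hσP (mul_mem (hVP hv) (hVP hv))) _ hx]
    rw [hxe, mul_mem_cancel_right (by simpa using hM.conj_mem _ hx v⁻¹),
      mul_mem_cancel_right (hsqV v hv)] at h
    exact hσM h
  by_cases hD1 : ∀ d ∈ D, d * d = 1
  swap
  · -- a cyclic group of order four
    push Not at hD1
    obtain ⟨d, hd, hd2⟩ := hD1
    have hσσ : σ * σ ≠ 1 := by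
      rcases hDcases d hd with h | ⟨m, hm, rfl⟩
      · exact absurd (hM2 d h) hd2
      · intro h
        apply hd2
        rw [show σ * m * (σ * m) = σ * (m * σ) * m by group, ← hMc σ hσP m hm,
          show σ * (σ * m) * m = σ * σ * (m * m) by group, h, hM2 m hm, one_mul]
    have hσσM : σ * σ ∈ M := hsqV σ (hDV hσD)
    have hfixττ : ∀ k, k * (σ * σ) * k⁻¹ = σ * σ := by
      intro k
      rcases hDcases _ (hD.conj_mem σ hσD k) with h | ⟨m, hm, h⟩
      · exfalso
        apply hσσ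
        have h1 := hM.conj_mem _ h k⁻¹
        rw [show k⁻¹ * (k * σ * k⁻¹) * k⁻¹⁻¹ = σ by group] at h1
        exact absurd h1 hσM
      · rw [show k * (σ * σ) * k⁻¹ = (k * σ * k⁻¹) * (k * σ * k⁻¹) by group, h,
          show σ * m * (σ * m) = σ * (m * σ) * m by group, ← hMc σ hσP m hm,
          show σ * (σ * m) * m = σ * σ * (m * m) by group, hM2 m hm, mul_one]
    obtain ⟨htriv, hR2c⟩ : (∀ (g : L) (r : R), g • r = r) ∧ Nat.card R = 2 :=
      hRirr.resolve_right fun h => by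
        obtain ⟨r, hr⟩ := hj.surj _ hσσM
        refine hσσ ?_
        rw [← hr, h.2.2 r fun g => ?_, hj.zero]
        obtain ⟨k, rfl⟩ := hρ g
        exact hj.inj (by rw [hj.smul, hr, hfixττ])
    have hM2c : Nat.card M = 2 := hj.card_eq.symm.trans hR2c
    have hMfix : ∀ k, ∀ m ∈ M, k * m * k⁻¹ = m := fun k m hm => by
      obtain ⟨r, rfl⟩ := hj.surj m hm
      rw [← hj.smul, htriv]
    have hMmem : ∀ m ∈ M, m = 1 ∨ m = σ * σ := by
      intro m hm
      by_contra hcon
      push Not at hcon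
      have h3 : Function.Injective ![(⟨1, one_mem M⟩ : M), ⟨σ * σ, hσσM⟩, ⟨m, hm⟩] := by
        intro x y h
        have h' := congrArg Subtype.val h
        fin_cases x <;> fin_cases y <;> simp at h' <;> first
          | rfl
          | exact absurd h' hσσ
          | exact absurd h'.symm hσσ
          | exact absurd h' hcon.1
          | exact absurd h'.symm hcon.1
          | exact absurd h' hcon.2
          | exact absurd h'.symm hcon.2
      have := Nat.card_le_card_of_injective _ h3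
      rw [Nat.card_fin, hM2c] at this
      omega
    have hab := habel (form_zero_trivial hL hW2 hW16 hWnt hC8 hCi htriv β hβL hβalt)
    let sqV : V →* M :=
      { toFun := fun v => ⟨v.1 * v.1, hsqV v.1 v.2⟩
        map_one' := Subtype.ext (one_mul 1)
        map_mul' := fun a b => Subtype.ext (by
          show a.1 * b.1 * (a.1 * b.1) = a.1 * a.1 * (b.1 * b.1)
          rw [show a.1 * b.1 * (a.1 * b.1) = a.1 * (b.1 * a.1) * b.1 by group,
            hab b.1 (hVP b.2) a.1 (hVP a.2)]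
          group) }
    set Ω := sqV.ker.map V.subtype with hΩ
    have hΩiff : ∀ a, a ∈ Ω ↔ a ∈ ρ.ker ∧ a * a = 1 := by
      intro a
      constructor
      · rintro ⟨v, hv, rfl⟩
        exact ⟨hVP v.2, congrArg Subtype.val (MonoidHom.mem_ker.1 hv)⟩
      · rintro ⟨ha, ha2⟩
        have haV : a ∈ V := by_contra fun h => hsqout a ha h (ha2.symm ▸ one_mem M)
        exact ⟨⟨a, haV⟩, MonoidHom.mem_ker.2 (Subtype.ext ha2), rfl⟩
    have hΩ16 : Nat.card Ω = 16 := by
      rw [hΩ, card_map_of_injective V.subtype_injective]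
      have h := card_mul_index sqV.ker
      have hsurj : Function.Surjective sqV := fun m => by
        rcases hMmem m.1 m.2 with e | e
        · exact ⟨1, by rw [map_one]; exact Subtype.ext e.symm⟩
        · exact ⟨⟨σ, hDV hσD⟩, Subtype.ext e.symm⟩
      rw [index_ker, MonoidHom.range_eq_top.2 hsurj, card_top, hVcard, hM2c] at h
      omega
    obtain ⟨S, _, _, _, jS, hS⟩ := exists_embeds ρ hρ ρ.ker hPn hab fun k hk a ha => by
      rw [hab k (MonoidHom.mem_ker.2 hk) a ha, mul_inv_cancel_right]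
    obtain ⟨w, hw⟩ := hS.surj a₀ ha₀
    have hMS : ∀ (g : L) (v : S), jS v ∈ M → g • v = v := fun g v hv => by
      obtain ⟨k, rfl⟩ := hρ g
      exact hS.inj (by rw [hS.smul, hMfix k _ hv])
    obtain ⟨k, a, ha, hka⟩ := exists_noncentral hL hρ hfaith
    have hσσ2 : σ * σ * (σ * σ) = 1 := hM2 _ hσσM
    refine no_cyclic hL hρ hS rfl (w := w) (fun h => hσσ ?_) (hS.inj ?_) (fun v => ?_)
      ((card_tor hS hΩiff).trans hΩ16) (hS.card_eq.trans (by rw [hPcard, hM2c])) (fun g => ?_)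
      (hS.exists_moved ha hka) hK
    · rw [hσ, ← hw, ← hS.add, ← hS.add, h, hS.zero]
    · rw [hS.add, hS.add, hS.add, hw, hS.zero]; exact hσσ2
    · have key : ∀ u : S, jS u ∈ V → ∃ i : ℕ, u - i • w ∈ tor S := fun u hu => by
        rcases hMmem _ (hsqV _ hu) with e | e
        · exact ⟨0, mem_tor.2 (by rw [zero_nsmul, sub_zero]; exact hS.inj (by rw [hS.add, e, hS.zero]))⟩
        · refine ⟨2, mem_tor.2 (hS.inj ?_)⟩
          rw [two_nsmul, sub_add_sub_comm, sub_eq_add_neg, hS.add, hS.add, hS.neg, hS.add, hS.add, hw, e,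
            hS.zero]
          exact mul_inv_cancel _
      by_cases hv : jS v ∈ V
      · exact key v hv
      · obtain ⟨i, hi⟩ := key (-w + v) (by rw [hS.add, hS.neg, hw]; exact hcoset _ (hS.mem v) hv)
        refine ⟨i + 1, ?_⟩
        rwa [add_nsmul, one_nsmul, show v - (i • w + w) = -w + v - i • w by abel]
    · refine fixed_of_dis_fixed hL (fun a b => hMS a _ ?_) g
      obtain ⟨k, rfl⟩ := hρ b
      rw [← hS.conj_mul_inv, hS.add, hw, ← hσ]
      rcases hDcases _ (hD.conj_mem σ hσD k) with h | ⟨m, hm, h⟩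
      · exfalso
        have h1 := hM.conj_mem _ h k⁻¹
        rw [show k⁻¹ * (k * σ * k⁻¹) * k⁻¹⁻¹ = σ by group] at h1
        exact hσM h1
      · rw [h, hab σ hσP m (hMP hm), mul_inv_cancel_right]
        exact hm
  -- an elementary group
  let cV : K → C := fun a => if h : c a ∈ C then ⟨c a, h⟩ else 0
  have hcV : ∀ a ∈ V, (cV a : W) = c a := fun a ha => by
    simp only [cV, dif_pos (show c a ∈ C from ⟨a, ha, rfl⟩)]
  have hc' : Sec ρ V D cV :=
    { le := hDV
      surj := fun x => by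
        obtain ⟨a, ha, hax⟩ := x.2
        exact ⟨a, ha, Subtype.ext ((hcV a ha).trans hax)⟩
      map_mul := fun a ha b hb => Subtype.ext (by
        rw [AddSubgroup.coe_add, hcV _ (mul_mem ha hb), hcV a ha, hcV b hb, hc.map_mul a (hVP ha) b (hVP hb)])
      ker := fun a ha => by
        rw [← hc.ker a (hVP ha), ← hcV a ha, Subtype.ext_iff]; rfl
      map_smul := fun k a ha => Subtype.ext (by
        show _ = ρ k • (cV a : W)
        rw [hcV _ (hV.conj_mem a ha k), hcV a ha, hc.map_smul k a (hVP ha)]) }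
  let βC : C →+ C →+ R := AddMonoidHom.compl₂ (β.comp C.subtype) C.subtype
  obtain ⟨q, hq, hqL', hqadd⟩ := exists_squaring hc' hV hj hsqV hD1 (fun a ha => hMc a (hVP ha))
    (fun a ha => hDc a (hVP ha)) βC fun a ha b hb => by
      show j (β (cV a).1 (cV b).1) = _
      rw [hcV a ha, hcV b hb, hβ a (hVP ha) b (hVP hb)]
  have hqL : ∀ (g : L) (x : C), q (g • x) = g • q x := fun g x => hqL' g x (hρ g)
  rcases quad_cases hL h2C hC8 hCnt hR2 (hRirr.imp (·.1) (·.1)) q hqL
    (fun x y z => quad_identity hqadd hR2 x y z) with h | ⟨hbij, hR8, hRnt, hadd⟩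
  · -- squares vanish
    have hV1 : ∀ a ∈ V, a * a = 1 := fun a ha => by rw [← hq a ha, h, hj.zero]
    have hle := section_le hK (A := V) (B := ⊥) bot_le (fun a _ n hn => by
      rw [mem_bot.1 hn, mul_one, mul_inv_cancel]; exact one_mem _) (fun a ha => mem_bot.2 (hV1 a ha))
      fun a ha b hb => by
        have hi : ∀ x ∈ V, x⁻¹ = x := fun x hx => inv_eq_of_mul_eq_one_left (hV1 x hx)
        rw [hi a ha, hi b hb, mem_bot, show a * b * a * b = (a * b) * (a * b) by group]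
        exact hV1 _ (mul_mem ha hb)
    rw [card_bot, hVcard] at hle
    have h1 : 1 < Nat.card M := M.one_lt_card_iff_ne_bot.2 hMne
    omega
  have hM8 : Nat.card M = 8 := hj.card_eq.symm.trans hR8
  have hCC : ∀ x y : C, β x.1 y.1 = 0 := fun x y => by
    have h := hqadd y x
    rw [hadd, left_eq_add] at h
    exact h
  let qh : C →+ R := AddMonoidHom.mk' q hadd
  let qe : C ≃+ R := AddEquiv.ofBijective qh hbij
  obtain ⟨E, _, _, _, jE, hE⟩ := exists_embeds ρ hρ D hD (fun a ha b hb => hDc a (hVP (hDV ha)) b hb)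
    fun k hk a ha => by rw [hDc k (MonoidHom.mem_ker.2 hk) a ha, mul_inv_cancel_right]
  by_cases hfix : ∃ σ' ∈ D, σ' ∉ M ∧ ∀ k, k * σ' * k⁻¹ = σ'
  · -- a fixed square gives a first layer of order eight
    obtain ⟨s', hs', hs'M, hs'c⟩ := hfix
    have hs'2 : s' * s' = 1 := hD1 s' hs'
    set Z : Subgroup K := zpowers s' with hZ
    have hZmem : ∀ z ∈ Z, z = 1 ∨ z = s' := by
      intro z hz
      obtain ⟨i, rfl⟩ := mem_zpowers_iff.1 hz
      rcases Int.even_or_odd i with ⟨l, rfl⟩ | ⟨l, rfl⟩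
      · left; rw [← two_mul, zpow_mul, zpow_ofNat, pow_two, hs'2, one_zpow]
      · right; rw [zpow_add_one, zpow_mul, zpow_ofNat, pow_two, hs'2, one_zpow, one_mul]
    haveI hZn : Z.Normal := ⟨fun z hz k => by
      obtain ⟨i, rfl⟩ := mem_zpowers_iff.1 hz
      rw [← conj_zpow, hs'c]; exact hz⟩
    have hZD : Z ≤ D := zpowers_le.2 hs'
    have hZk : Z ≤ ρ.ker := hZD.trans (hDV.trans hVP)
    let π := QuotientGroup.mk' Z
    let ρ' : K ⧸ Z →* L := QuotientGroup.lift Z ρ hZk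
    have hρ' : Function.Surjective ρ' := fun l => by
      obtain ⟨k, rfl⟩ := hρ l; exact ⟨π k, rfl⟩
    have hker : ∀ y ∈ ρ'.ker, ∃ a ∈ ρ.ker, π a = y := fun y hy => by
      obtain ⟨k, rfl⟩ := QuotientGroup.mk'_surjective Z y
      exact ⟨k, hy, rfl⟩
    have hπD : ∀ a ∈ ρ.ker, π a ∈ D.map π → a ∈ D := by
      rintro a - ⟨d, hd, hda⟩
      exact (mul_mem_cancel_left (inv_mem hd)).1 (hZD (QuotientGroup.eq.1 hda))
    have hMπ : ∀ d ∈ D, ∃ m ∈ M, π m = π d := by
      intro d hd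
      rcases hDcases d hd with h | ⟨m, hm, rfl⟩
      · exact ⟨d, h, rfl⟩
      · obtain ⟨m', hm', hs''⟩ := (hDcases s' hs').resolve_left hs'M
        refine ⟨m' * m, mul_mem hm' hm, QuotientGroup.eq.2 ?_⟩
        have hswap : σ * m = m * σ := hMc σ hσP m hm
        rw [show (m' * m)⁻¹ * (σ * m) = m⁻¹ * (m'⁻¹ * σ) * m by group,
          show m⁻¹ * (m'⁻¹ * σ) * m = (m⁻¹ * m'⁻¹) * (σ * m) by group, hswap,
          show m⁻¹ * m'⁻¹ * (m * σ) = m⁻¹ * (m'⁻¹ * m) * σ by group,
          ← hMc _ (inv_mem (hMP hm')) m hm |>.symm]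
        rw [show m⁻¹ * (m * m'⁻¹) * σ = m'⁻¹ * σ by group, inv_eq_of_mul_eq_one_left (hM2 m' hm'),
          ← hMc σ hσP m' hm', ← hs'']
        exact mem_zpowers s'
    have h := layer_one hL hρ' (sectional_bound hK π (QuotientGroup.mk'_surjective Z)) (M := D.map π)
      (fun y => by
        obtain ⟨a, ha, hay⟩ := hker y.1 y.2
        obtain ⟨n, hn⟩ := hP ⟨a, ha⟩
        refine ⟨n, Subtype.ext ?_⟩
        rw [SubmonoidClass.coe_pow, ← hay, ← map_pow, show a ^ 2 ^ n = 1 from congrArg Subtype.val hn,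
          map_one]
        rfl)
      (hD.map π (QuotientGroup.mk'_surjective Z))
      (by rintro _ ⟨d, hd, rfl⟩; exact hVP (hDV hd))
      (fun h => hMne (eq_bot_iff.2 fun m hm => by
        have h' : π m ∈ D.map π := mem_map_of_mem π (hMD hm)
        rw [h, mem_bot] at h'
        rcases hZmem m ((QuotientGroup.eq_one_iff m).1 h') with e | e
        · exact mem_bot.2 e
        · exact absurd (e ▸ hm) hs'M))
      (fun N hN hND => by
        have hcomap : ∀ a, a ∈ N.comap π → a ∈ D := fun a ha => by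
          obtain ⟨d, hd, hda⟩ := hND (mem_comap.1 ha)
          exact (mul_mem_cancel_left (inv_mem hd)).1 (hZD (QuotientGroup.eq.1 hda))
        haveI := hN
        rcases hmin (N.comap π ⊓ M) inferInstance inf_le_right with e | e
        · left
          refine eq_bot_iff.2 fun y hy => ?_
          obtain ⟨d, hd, rfl⟩ := hND hy
          obtain ⟨m, hm, hmd⟩ := hMπ d hd
          have hmN : m ∈ N.comap π ⊓ M := ⟨show π m ∈ N by rw [hmd]; exact hy, hm⟩
          rw [e, mem_bot] at hmN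
          rw [← hmd, hmN, map_one]
          exact one_mem _
        · right
          refine le_antisymm hND ?_
          rintro _ ⟨d, hd, rfl⟩
          obtain ⟨m, hm, hmd⟩ := hMπ d hd
          rw [← hmd]
          exact mem_comap.1 (e.ge hm).1)
      (fun y hy => by
        obtain ⟨a, ha, rfl⟩ := hker y hy
        exact ⟨a * a, hsq a ha, map_mul π a a⟩)
      (by
        haveI : Nontrivial R := Finite.one_lt_card_iff_nontrivial.1 (by omega)
        obtain ⟨r, hr⟩ := exists_ne (0 : R)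
        obtain ⟨x, rfl⟩ := hbij.2 r
        obtain ⟨v, hv, rfl⟩ := hc'.surj x
        refine ⟨π v, hVP hv, fun h => ?_⟩
        rw [← map_mul] at h
        rcases hZmem _ ((QuotientGroup.eq_one_iff _).1 h) with e | e
        · exact hr (hj.inj (by rw [hq v hv, e, hj.zero]))
        · exact hs'M (e ▸ hsqV v hv))
      (fun y hy => by
        obtain ⟨k, rfl⟩ := QuotientGroup.mk'_surjective Z y
        refine hfaith k fun a ha => hπD _ (mul_mem (hPn.conj_mem a ha k) (inv_mem ha)) ?_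
        rw [map_mul, map_mul, map_mul, map_inv, map_inv]
        exact hy (π a) ha)
    obtain ⟨hcard, -⟩ := h
    have h2 : Nat.card (D.map π) * 2 = Nat.card D := by
      have hZ2 : Nat.card Z = 2 := by
        rw [hZ, Nat.card_zpowers]
        exact orderOf_eq_prime (by rw [pow_two, hs'2]) (fun e => hs'M (e ▸ one_mem M))
      rw [← relIndex_ker (K := D) π, QuotientGroup.ker_mk', ← hZ2, mul_comm,
        ← Nat.card_congr (subgroupOfEquivOfLe hZD).toEquiv, relIndex, card_mul_index]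
    omega
  push Not at hfix
  let f : C →+ C := qe.symm.toAddMonoidHom.comp ((β (c a₀)).comp C.subtype)
  have hqe : ∀ x : C, qe x = q x := fun x => rfl
  have hfL : ∀ (g : L) (x : C), f (g • x) = g • f x := fun g x => by
    apply qe.injective
    rw [hqe, hqe, hqL]
    show qe (qe.symm (β (c a₀) (g • x.1))) = g • qe (qe.symm (β (c a₀) x.1))
    rw [qe.apply_symm_apply, qe.apply_symm_apply, ← hβL, smul_eq_add g (c a₀), map_add, AddMonoidHom.add_apply,
      hCC ⟨dis g (c a₀), hdis g _⟩ ⟨g • x.1, hCi g _ x.2⟩, zero_add]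
  have hf' : ∀ x : C, q (f x) = β (c a₀) x.1 := fun x => qe.apply_symm_apply _
  rcases endo_cases hL h2C hC8 hCnt f hfL with hf | hf
  · -- an abelian kernel
    have hab := habel (form_ext hW2 β hβalt hidx hwC hCC fun y => by
      rw [← hf' y, hf y, ← hqe, map_zero])
    obtain ⟨S, _, _, _, jS, hS⟩ := exists_embeds ρ hρ ρ.ker hPn hab fun k hk a ha => by
      rw [hab k (MonoidHom.mem_ker.2 hk) a ha, mul_inv_cancel_right]
    have hDiff : ∀ a, a ∈ D ↔ a ∈ ρ.ker ∧ a * a = 1 := fun a => by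
      refine ⟨fun ha => ⟨hVP (hDV ha), hD1 a ha⟩, fun ⟨ha, ha2⟩ => ?_⟩
      have haV : a ∈ V := by_contra fun h => hsqout a ha h (ha2.symm ▸ one_mem M)
      refine (hc'.ker a haV).1 (hbij.1 ?_)
      refine hj.inj ?_
      rw [hq a haV, ha2, ← hc'.one, hq 1 (one_mem V), one_mul]
    have hno : ∀ x : W, (∀ g : L, g • x = x) → x ∈ C := by
      intro x hx
      obtain ⟨a, ha, rfl⟩ := hc.surj x
      by_contra haC
      have haV : a ∉ V := fun h => haC ⟨a, h, rfl⟩
      obtain ⟨k, hk⟩ := hfix (a * a) (hsq a ha) (hsqout a ha haV)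
      apply hk
      have h := hx (ρ k)
      rw [← hc.map_smul k a ha, eq_comm, hc.eq_iff ha (hPn.conj_mem a ha k)] at h
      set d := a⁻¹ * (k * a * k⁻¹) with hd
      rw [show k * (a * a) * k⁻¹ = (a * d) * (a * d) by rw [hd]; group,
        show a * d * (a * d) = a * (d * a) * d by group, ← hDc a ha d h,
        show a * (a * d) * d = a * a * (d * d) by group, hD1 d h, mul_one]
    obtain ⟨s, hs⟩ := exists_order_four hL
    have hblock := block_of_invariant hL hW2 hW16 hWnt hC8 hCi hno hs hwC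
    obtain ⟨w, hw⟩ := hS.surj a₀ ha₀
    have hcd : ∀ (g : L) (v : S), c (jS (dis g v)) = dis g (c (jS v)) := by
      intro g v
      obtain ⟨k, rfl⟩ := hρ g
      have hconj := hPn.conj_mem _ (hS.mem v) k
      rw [← hS.conj_mul_inv, hc.map_mul _ hconj _ (inv_mem (hS.mem v)), hc.map_inv (hS.mem v),
        hc.map_smul k _ (hS.mem v), ← sub_eq_add_neg, dis_apply]
    have hD16 : Nat.card D = 16 := by omega
    refine no_block hL hρ hS rfl (hS.four fun a ha => hD1 _ (hsq a ha))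
      ((card_tor hS hDiff).trans hD16) hs (x := w) (fun h => hblock ?_) (fun v hv => ?_) hK
    · obtain ⟨y, -, hy⟩ := mem_twice.1 h
      rw [← hw, ← hcd, ← hcd, ← hcd, ← hy, hS.add, hc.map_mul _ (hS.mem y) _ (hS.mem y), hW2]
    · have hvD : jS v ∈ D := (hDiff _).2 ⟨hS.mem v, by rw [← hS.add, hv, hS.zero]⟩
      obtain ⟨k, rfl⟩ := hρ s
      have hd : jS (dis (ρ k) v) ∈ D := by
        rw [← hS.conj_mul_inv]
        exact mul_mem (hD.conj_mem _ hvD k) (inv_mem hvD)
      -- every element of `D` is a square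
      have hsquare : ∀ d ∈ D, ∃ a ∈ ρ.ker, a * a = d := by
        have hM' : ∀ m ∈ M, ∃ a ∈ V, a * a = m := fun m hm => by
          obtain ⟨r, rfl⟩ := hj.surj m hm
          obtain ⟨x, rfl⟩ := hbij.2 r
          obtain ⟨a, ha, rfl⟩ := hc'.surj x
          exact ⟨a, ha, (hq a ha).symm⟩
        intro d hd
        rcases hDcases d hd with h | ⟨m, hm, rfl⟩
        · obtain ⟨a, ha, e⟩ := hM' d h
          exact ⟨a, hVP ha, e⟩
        · obtain ⟨a, ha, e⟩ := hM' m hm
          refine ⟨a₀ * a, mul_mem ha₀ (hVP ha), ?_⟩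
          rw [show a₀ * a * (a₀ * a) = a₀ * (a * a₀) * a by group, hab a (hVP ha) a₀ ha₀,
            show a₀ * (a₀ * a) * a = a₀ * a₀ * (a * a) by group, e]
      obtain ⟨a, ha, e⟩ := hsquare _ hd
      obtain ⟨y, hy⟩ := hS.surj a ha
      exact mem_twice.2 ⟨y, trivial, hS.inj (by rw [hS.add, hy, e])⟩
  · -- outside elements invert the hyperplane, so their square is fixed
    have hinv : ∀ v ∈ V, a₀ * v * a₀⁻¹ = v⁻¹ := by
      intro v hv
      have h := hf' (cV v)
      rw [hf, hcV v hv] at h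
      have h' := hβ a₀ ha₀ v (hVP hv)
      rw [← h, hq v hv, eq_mul_inv_iff_mul_eq] at h'
      rw [← h']
      have h4 := hM2 _ (hsqV v hv)
      exact eq_inv_of_mul_eq_one_left (by rw [← h4]; group)
    obtain ⟨k, hk⟩ := hfix σ hσD hσM
    apply hk
    have hbV : k * a₀ * k⁻¹ ∉ V := fun h => ha₀V (by simpa [mul_assoc] using hV.conj_mem _ h k⁻¹)
    have hv := hcoset _ (hPn.conj_mem a₀ ha₀ k) hbV
    set v := a₀⁻¹ * (k * a₀ * k⁻¹) with hvd
    rw [show k * σ * k⁻¹ = (a₀ * v * a₀⁻¹) * σ * v by rw [hvd, hσ]; group, hinv v hv, mul_assoc,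
      ← hσc v (hVP hv), inv_mul_cancel_left]

end Cfsg.Lib.Small.SecRankFour.Linear
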