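import Cfsg.Agent.Lib.Small.SecRankFour.Linear.LayerTwo
import Cfsg.Agent.Lib.Small.AltEightSubgroups
import Cfsg.Agent.S3103

/-!
# The two-core over a linear group of order 168 in sectional rank four
-/

set_option autoImplicit false

namespace Cfsg.Lib.Small.SecRankFour.Linear

open Subgroup
open scoped commutatorElement

universe u

/-- The three-dimensional special linear group over two elements. -/
theorem psl_three {F : Type*} [Field F] [Fintype F] (hF : Fintype.card F = 2) :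
    IsSimpleGroup (Matrix.ProjectiveSpecialLinearGroup (Fin 3) F) ∧
      Nat.card (Matrix.ProjectiveSpecialLinearGroup (Fin 3) F) = 168 := by
  classical
  refine ⟨Cfsg.Agent.S0249.result 3 le_rfl, ?_⟩
  have hu : ∀ z : F, z ≠ 0 → z = 1 := by
    intro z hz
    by_contra h1
    have h : Function.Injective ![(0 : F), 1, z] := by
      intro i j h
      fin_cases i <;> fin_cases j <;> simp at h <;> first
        | rfl
        | exact absurd h hz
        | exact absurd h.symm hz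
        | exact absurd h h1
        | exact absurd h.symm h1
    have := Fintype.card_le_of_injective _ h
    simp [hF] at this
  let f : Matrix.SpecialLinearGroup (Fin 3) F →* GL (Fin 3) F := Matrix.SpecialLinearGroup.toGL
  have hf : Function.Bijective f := by
    refine ⟨fun a b h => Subtype.ext (congrArg Units.val h), fun A => ⟨⟨A.val, hu _ ?_⟩, Units.ext rfl⟩⟩
    exact ((Matrix.isUnit_iff_isUnit_det _).1 A.isUnit).ne_zero
  have hz : center (Matrix.SpecialLinearGroup (Fin 3) F) = ⊥ := by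
    refine eq_bot_iff.2 fun A hA => ?_
    obtain ⟨r, hr, hA'⟩ := Matrix.SpecialLinearGroup.mem_center_iff.1 hA
    have hr1 : r = 1 := hu r fun h0 => by
      rw [h0, zero_pow (by simp : Fintype.card (Fin 3) ≠ 0)] at hr
      exact zero_ne_one hr
    rw [hr1, map_one] at hA'
    exact mem_bot.2 (Subtype.ext hA'.symm)
  rw [Nat.card_congr ((((QuotientGroup.quotientMulEquivOfEq hz).trans QuotientGroup.quotientBot)).trans
    (MulEquiv.ofBijective f hf)).toEquiv, Matrix.card_GL_field, hF]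
  decide

variable {K : Type u} [Group K] [Finite K]

/-- Existence of a maximal normal subgroup properly inside another. -/
theorem exists_maximal_inside {B : Subgroup K} (hB : B ≠ ⊥) :
    ∃ N : Subgroup K, N.Normal ∧ N ≤ B ∧ N ≠ B ∧
      ∀ N' : Subgroup K, N'.Normal → N ≤ N' → N' ≤ B → N' = N ∨ N' = B := by
  obtain ⟨N, ⟨hN, hNB, hne⟩, hmax⟩ := Set.Finite.exists_maximal
    (s := {N : Subgroup K | N.Normal ∧ N ≤ B ∧ N ≠ B}) (Set.toFinite _)
    ⟨⊥, inferInstance, bot_le, hB.symm⟩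
  refine ⟨N, hN, hNB, hne, fun N' hN' hle hle' => ?_⟩
  by_cases h : N' = B
  · exact Or.inr h
  · exact Or.inl (le_antisymm (hmax ⟨hN', hle', h⟩ hle) hle)

/-- The image of the upper end of a maximal inclusion is minimal normal. -/
theorem minimal_image {N B : Subgroup K} [hN : N.Normal] (hNB : N ≤ B) (hne : N ≠ B)
    (hmax : ∀ N' : Subgroup K, N'.Normal → N ≤ N' → N' ≤ B → N' = N ∨ N' = B) :
    B.map (QuotientGroup.mk' N) ≠ ⊥ ∧
      ∀ U : Subgroup (K ⧸ N), U.Normal → U ≤ B.map (QuotientGroup.mk' N) →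
        U = ⊥ ∨ U = B.map (QuotientGroup.mk' N) := by
  refine ⟨fun h => hne (le_antisymm hNB ?_), fun U hU hUB => ?_⟩
  · rw [Subgroup.map_eq_bot_iff, QuotientGroup.ker_mk'] at h
    exact h
  · haveI := hU
    have hle : U.comap (QuotientGroup.mk' N) ≤ B := by
      intro x hx
      obtain ⟨b, hb, hbx⟩ := hUB (mem_comap.1 hx)
      exact (mul_mem_cancel_left (inv_mem hb)).1 (hNB (QuotientGroup.eq.1 hbx))
    have hNU : N ≤ U.comap (QuotientGroup.mk' N) := fun x hx => by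
      rw [mem_comap, show QuotientGroup.mk' N x = 1 from (QuotientGroup.eq_one_iff x).2 hx]
      exact one_mem U
    have hmc := map_comap_eq_self_of_surjective (QuotientGroup.mk'_surjective N) U
    rcases hmax _ inferInstance hNU hle with h | h
    · left; rw [← hmc, h, Subgroup.map_eq_bot_iff, QuotientGroup.ker_mk']
    · right; rw [← hmc, h]

omit [Finite K] in
/-- An abelian group of order thirty-two with an elementary subgroup of index two. -/
theorem exists_equiv_four {P : Type*} [CommGroup P] [Finite P] (V : Subgroup P) (hV : Nat.card V = 16)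
    (hP : Nat.card P = 32) (hV2 : ∀ a ∈ V, a * a = 1) (hsq : ∀ a : P, a * a ∈ V)
    {w : P} (hw : w * w ≠ 1) :
    Nonempty (P ≃* Multiplicative (ZMod 4) × (Fin 3 → Multiplicative (ZMod 2))) := by
  classical
  haveI : Fact (Nat.Prime 2) := ⟨Nat.prime_two⟩
  set τ : V := ⟨w * w, hsq w⟩ with hτ
  letI : Module (ZMod 2) (Additive V) := AddCommGroup.zmodModule fun a => by
    rw [← ofMul_toMul a, ← ofMul_pow, show a.toMul ^ 2 = 1 from Subtype.ext (by
      rw [SubmonoidClass.coe_pow, pow_two]; exact hV2 _ a.toMul.2)]; rfl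
  haveI : Module.Finite (ZMod 2) (Additive V) := Module.Finite.of_finite
  set t : Additive V := Additive.ofMul τ with ht
  have ht0 : t ≠ 0 := fun h => hw (congrArg Subtype.val (congrArg Additive.toMul h))
  obtain ⟨C, hC⟩ := Submodule.exists_isCompl (ZMod 2 ∙ t)
  have hC3 : Module.finrank (ZMod 2) C = 3 := by
    have h4 : Module.finrank (ZMod 2) (Additive V) = 4 := by
      have h1 := Module.natCard_eq_pow_finrank (K := ZMod 2) (V := Additive V)
      rw [Nat.card_zmod, Nat.card_congr Additive.toMul, hV] at h1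
      exact (Nat.pow_right_injective (le_refl 2) (h1.symm.trans (by norm_num : (16 : ℕ) = 2 ^ 4)))
    have := Submodule.finrank_add_eq_of_isCompl hC
    rw [finrank_span_singleton ht0, h4] at this
    omega
  let b : Module.Basis (Fin 3) (ZMod 2) C := Module.finBasisOfFinrankEq _ _ hC3
  have h4 : w ^ 4 = 1 := by
    rw [show 4 = 2 * 2 from rfl, pow_mul, pow_two, pow_two]; exact hV2 _ (hsq w)
  have hmulf : ∀ a c : ZMod 4, w ^ (a + c).val = w ^ a.val * w ^ c.val := fun a c => by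
    rw [← pow_add, ZMod.val_add, ← pow_mod_orderOf w (a.val + c.val), ← pow_mod_orderOf w ((a.val + c.val) % 4),
      Nat.mod_mod_of_dvd _ (orderOf_dvd_of_pow_eq_one h4)]
  let γ : (Fin 3 → ZMod 2) →+ Additive V := (C.subtype.comp b.equivFun.symm.toLinearMap).toAddMonoidHom
  have hγ : Function.Injective γ := Subtype.val_injective.comp b.equivFun.symm.injective
  have hγC : ∀ p, γ p ∈ C := fun p => (b.equivFun.symm p).2
  let F : Multiplicative (ZMod 4) × (Fin 3 → Multiplicative (ZMod 2)) →* P :=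
    MonoidHom.coprod
      { toFun := fun a => w ^ (Multiplicative.toAdd a).val
        map_one' := by simp
        map_mul' := fun a c => hmulf _ _ }
      { toFun := fun p => ((γ (fun i => Multiplicative.toAdd (p i))).toMul : V).1
        map_one' := by
          show ((γ 0).toMul : V).1 = 1
          rw [map_zero]; rfl
        map_mul' := fun p q => by
          show ((γ ((fun i => Multiplicative.toAdd (p i)) + fun i => Multiplicative.toAdd (q i))).toMul : V).1 = _
          rw [map_add]; rfl }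
  have hFinj : Function.Injective F := (injective_iff_map_eq_one F).2 fun ⟨a, p⟩ h => by
    have h' : w ^ (Multiplicative.toAdd a).val * ((γ (fun i => Multiplicative.toAdd (p i))).toMul : V).1 = 1 := h
    set v := γ (fun i => Multiplicative.toAdd (p i)) with hv
    have hwV : w ^ (Multiplicative.toAdd a).val ∈ V := by
      rw [eq_inv_of_mul_eq_one_left h']; exact inv_mem v.toMul.2
    have ha : Multiplicative.toAdd a = 0 ∨ Multiplicative.toAdd a = 2 := by
      rcases (show ∀ x : ZMod 4, x = 0 ∨ x = 2 ∨ x = 1 ∨ x = 3 by decide) (Multiplicative.toAdd a) with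
        e | e | e | e
      · exact Or.inl e
      · exact Or.inr e
      · exfalso
        rw [e, show (1 : ZMod 4).val = 1 from rfl, pow_one] at hwV
        exact hw (hV2 w hwV)
      · exfalso
        rw [e, show (3 : ZMod 4).val = 3 from rfl] at hwV
        have hwV' := inv_mem hwV
        rw [inv_eq_of_mul_eq_one_left (show w * w ^ 3 = 1 by rw [← pow_succ']; exact h4)] at hwV'
        exact hw (hV2 w hwV')
    rcases ha with e | e
    · rw [e, ZMod.val_zero, pow_zero, one_mul] at h'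
      have hp : γ (fun i => Multiplicative.toAdd (p i)) = 0 :=
        Additive.toMul.injective (Subtype.ext h')
      have hp' := hγ (hp.trans (map_zero γ).symm)
      exact Prod.ext (Multiplicative.toAdd.injective e)
        (funext fun i => Multiplicative.toAdd.injective (congrFun hp' i))
    · exfalso
      rw [e, show (2 : ZMod 4).val = 2 from rfl, pow_two] at h'
      have hvt : v = t := Additive.toMul.injective (Subtype.ext (by
        show (v.toMul : V).1 = w * w
        rw [← inv_eq_of_mul_eq_one_left (hV2 _ (hsq w))]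
        exact eq_inv_of_mul_eq_one_right h'))
      have hmem : t ∈ (ZMod 2 ∙ t) ⊓ C :=
        ⟨Submodule.mem_span_singleton_self t, hvt ▸ hγC _⟩
      rw [hC.inf_eq_bot] at hmem
      exact ht0 (by simpa using hmem)
  refine ⟨(MulEquiv.ofBijective F ((Nat.bijective_iff_injective_and_card F).2 ⟨hFinj, ?_⟩)).symm⟩
  rw [hP, Nat.card_prod, Nat.card_fun, Nat.card_fin]
  simp

variable {X : Type u} [Group X] [Finite X]

/-- The shape of the two-core. -/
theorem two_core_linear (hc : Cfsg.IsPConstrained 2 X) (hO : Cfsg.oddCore X = ⊥)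
    (h4 : Cfsg.SectionalPRankLE 2 4 X) [IsSimpleGroup (X ⧸ Cfsg.pCore 2 X)]
    (hL : Nat.card (X ⧸ Cfsg.pCore 2 X) = 168) :
    (Cfsg.IsElementaryAbelian 2 (Cfsg.pCore 2 X) ∧
      (Nat.card ↥(Cfsg.pCore 2 X) = 8 ∨ Nat.card ↥(Cfsg.pCore 2 X) = 16)) ∨
      Nonempty (↥(Cfsg.pCore 2 X) ≃* Multiplicative (ZMod 4) × (Fin 3 → Multiplicative (ZMod 2))) := by
  classical
  haveI : Fact (Nat.Prime 2) := ⟨Nat.prime_two⟩
  set Q := Cfsg.pCore 2 X with hQdef
  have hC := Cfsg.Agent.S3103.centralizer_le hc hO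
  have hQ : IsPGroup 2 Q := Cfsg.Lib.Core.pCore_isPGroup 2 X
  haveI hQn : Q.Normal := inferInstance
  set ρ := QuotientGroup.mk' Q with hρdef
  have hρ : Function.Surjective ρ := QuotientGroup.mk'_surjective Q
  have hker : ρ.ker = Q := QuotientGroup.ker_mk' Q
  set Φ : Subgroup X := (frattini ↥Q).map Q.subtype with hΦ
  haveI hΦn : Φ.Normal := inferInstance
  have hΦQ : Φ ≤ Q := map_subtype_le _
  have hel := Cfsg.Lib.PGroup.isElementaryAbelian_quotient_frattini hQ
  have hsqΦ : ∀ a ∈ Q, a * a ∈ Φ := fun a ha => by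
    have h := hel.2 ((⟨a, ha⟩ : ↥Q) : ↥Q ⧸ frattini ↥Q) (mem_top _)
    rw [← QuotientGroup.mk_pow, QuotientGroup.eq_one_iff] at h
    exact ⟨_, h, by simp [pow_two]⟩
  -- the centraliser of the Frattini quotient
  have hfaith : ∀ x : X, (∀ a ∈ Q, x * a * x⁻¹ * a⁻¹ ∈ Φ) → ρ x = 1 := by
    let conjQ : X →* MulAut ↥Q := MulAut.conjNormal
    let S : Subgroup X := (Cfsg.Lib.PGroup.frattiniStab ↥Q).comap conjQ
    have hS : ∀ z, z ∈ S ↔ ∀ a ∈ Q, z * a * z⁻¹ * a⁻¹ ∈ Φ := by
      intro z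
      constructor
      · intro hz a ha
        have h : (⟨a, ha⟩ : ↥Q) * ((⟨a, ha⟩ : ↥Q)⁻¹ * conjQ z ⟨a, ha⟩) * (⟨a, ha⟩ : ↥Q)⁻¹ ∈ frattini ↥Q :=
          (inferInstance : (frattini ↥Q).Normal).conj_mem _ (hz ⟨a, ha⟩) _
        exact ⟨_, h, by simp [conjQ, MulAut.conjNormal_apply]⟩
      · intro hz u
        obtain ⟨v, hv, hve⟩ := hz u.1 u.2
        have h := (inferInstance : (frattini ↥Q).Normal).conj_mem v hv u⁻¹
        have e : u⁻¹ * conjQ z u = u⁻¹ * v * u⁻¹⁻¹ := Subtype.ext (by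
          have hve' : (v : X) = z * u.1 * z⁻¹ * u.1⁻¹ := hve
          simp [conjQ, MulAut.conjNormal_apply, hve', mul_assoc])
        rw [e]; exact h
    haveI : S.Normal := ⟨fun z hz g => (hS _).2 fun a ha => by
      have h := hΦn.conj_mem _ ((hS z).1 hz (g⁻¹ * a * g) (by simpa using hQn.conj_mem a ha g⁻¹)) g
      rw [show g * z * g⁻¹ * a * (g * z * g⁻¹)⁻¹ * a⁻¹ =
        g * (z * (g⁻¹ * a * g) * z⁻¹ * (g⁻¹ * a * g)⁻¹) * g⁻¹ by group]
      exact h⟩
    have hSP : IsPGroup 2 S := by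
      rintro ⟨z, hz⟩
      obtain ⟨k, hk⟩ := Cfsg.Lib.PGroup.isPGroup_frattiniStab hQ ⟨conjQ z, hz⟩
      have hk' : z ^ 2 ^ k ∈ centralizer (Q : Set X) := by
        refine mem_centralizer_iff.2 fun y hy => ?_
        have := congrArg (fun a : Cfsg.Lib.PGroup.frattiniStab ↥Q => ((a.1 ⟨y, hy⟩ : ↥Q) : X)) hk
        simp only [SubmonoidClass.coe_pow, ← map_pow, OneMemClass.coe_one, MulAut.one_apply, conjQ,
          MulAut.conjNormal_apply] at this
        exact (mul_inv_eq_iff_eq_mul.1 this).symm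
      obtain ⟨i, hi⟩ := hQ ⟨_, hC hk'⟩
      exact ⟨k + i, Subtype.ext (by
        have := congrArg Subtype.val hi
        simpa [pow_add, pow_mul] using this)⟩
    intro x hx
    exact (QuotientGroup.eq_one_iff x).2 (Cfsg.Lib.Core.le_pCore hSP ((hS x).2 hx))
  by_cases hΦ0 : Φ = ⊥
  · -- an elementary two-core
    have hQ1 : ∀ a ∈ Q, a * a = 1 := fun a ha => mem_bot.1 (hΦ0 ▸ hsqΦ a ha)
    have hab : ∀ a ∈ Q, ∀ b ∈ Q, a * b = b * a := fun a ha b hb => by
      have hi : ∀ x ∈ Q, x⁻¹ = x := fun x hx => inv_eq_of_mul_eq_one_left (hQ1 x hx)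
      rw [← hi (a * b) (mul_mem ha hb), mul_inv_rev, hi a ha, hi b hb]
    obtain ⟨R, _, _, _, j, hj⟩ := exists_embeds ρ hρ Q hQn hab fun k hk a ha => by
      rw [hab k ((QuotientGroup.eq_one_iff k).1 hk) a ha, mul_inv_cancel_right]
    have hR2 : ∀ r : R, r + r = 0 := fun r => hj.inj (by rw [hj.add, hQ1 _ (hj.mem r), hj.zero])
    obtain ⟨k, a, ha, hka⟩ := exists_noncentral hL hρ (M := Φ) (by rw [hker]; exact hfaith)
    have h8 := eight_le hL (hj.exists_moved (hker ▸ ha) hka) hR2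
    rw [hj.card_eq] at h8
    have h16 := section_le h4 (A := Q) (B := ⊥) bot_le
      (fun a _ n hn => by rw [mem_bot.1 hn, mul_one, mul_inv_cancel]; exact one_mem _)
      (fun a ha => mem_bot.2 (hQ1 a ha))
      (fun a ha b hb => by rw [mem_bot, hab a ha b hb, mul_inv_cancel_right, mul_inv_cancel])
    rw [card_bot, mul_one] at h16
    refine Or.inl ⟨⟨⟨⟨fun a b => Subtype.ext (hab a.1 a.2 b.1 b.2)⟩⟩,
      fun a ha => by rw [pow_two]; exact hQ1 a ha⟩, ?_⟩
    obtain ⟨n, hn⟩ := IsPGroup.iff_card.1 hQ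
    rw [hn] at h8 h16 ⊢
    have hn4 : n ≤ 4 := (Nat.pow_le_pow_iff_right (le_refl 2)).1 (h16.trans (by norm_num))
    interval_cases n <;> first | (norm_num at h8; done) | norm_num
  right
  obtain ⟨N₁, hN₁, hN₁Φ, hN₁ne, hmax₁⟩ := exists_maximal_inside hΦ0
  -- some square lies outside every proper normal part
  have hout : ∀ N : Subgroup X, N.Normal → N ≤ Φ → N ≠ Φ → ∃ a ∈ Q, a * a ∉ N := by
    intro N hN hNΦ hne
    by_contra hall
    push Not at hall
    refine hne (le_antisymm hNΦ ?_)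
    rw [hΦ, map_le_iff_le_comap]
    refine Cfsg.Lib.PGroup.frattini_le_of_commutator_le_of_pow_mem (p := 2) ?_ fun g => by
      show ((g ^ 2 : ↥Q) : X) ∈ N
      rw [SubmonoidClass.coe_pow, pow_two]
      exact hall g.1 g.2
    rw [commutator_def, commutator_le]
    intro a _ b _
    show ((⁅a, b⁆ : ↥Q) : X) ∈ N
    rw [commutatorElement_def]
    push_cast
    exact comm_mem_of_sq hN hall a.2 b.2
  obtain ⟨a₁, ha₁, ha₁N⟩ := hout N₁ hN₁ hN₁Φ hN₁ne
  by_cases hN₁0 : N₁ = ⊥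
  · -- the group of order thirty-two
    have hmin : ∀ N : Subgroup X, N.Normal → N ≤ Φ → N = ⊥ ∨ N = Φ := fun N hN hle => by
      rcases hmax₁ N hN (hN₁0 ▸ bot_le) hle with h | h
      · exact Or.inl (h.trans hN₁0)
      · exact Or.inr h
    obtain ⟨hΦ2, hab, h32, V, hVn, hΦV, hVQ, hV16, hV2⟩ := layer_one hL hρ h4 (M := Φ) (hker.symm ▸ hQ) hΦn
      (hker.symm ▸ hΦQ) hΦ0 hmin (by rw [hker]; exact hsqΦ)
      ⟨a₁, hker.symm ▸ ha₁, fun h => ha₁N (h ▸ one_mem N₁)⟩ (by rw [hker]; exact hfaith)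
    letI : CommGroup ↥Q := commGrp Q (hker ▸ hab)
    refine exists_equiv_four (V.subgroupOf Q) ?_ (hker ▸ h32) (fun a ha => Subtype.ext (hV2 a.1 ha))
      (fun a => mem_subgroupOf.2 (hΦV (hsqΦ a.1 a.2))) (w := ⟨a₁, ha₁⟩)
      fun h => ha₁N ((show a₁ * a₁ = 1 from congrArg Subtype.val h).symm ▸ one_mem N₁)
    rw [Nat.card_congr (subgroupOfEquivOfLe (hker ▸ hVQ)).toEquiv, hV16]
  exfalso
  obtain ⟨N₂, hN₂, hN₂N, hN₂ne, hmax₂⟩ := exists_maximal_inside hN₁0
  -- the first layer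
  let π₁ := QuotientGroup.mk' N₁
  let ρ₁ : X ⧸ N₁ →* X ⧸ Q := QuotientGroup.lift N₁ ρ (hker.symm ▸ hN₁Φ.trans hΦQ)
  have hρ₁ : Function.Surjective ρ₁ := fun l => by
    obtain ⟨x, rfl⟩ := hρ l; exact ⟨π₁ x, rfl⟩
  have hker₁ : ρ₁.ker = Q.map π₁ := by
    ext y
    obtain ⟨x, rfl⟩ := QuotientGroup.mk'_surjective N₁ y
    refine ⟨fun hy => mem_map_of_mem π₁ ((QuotientGroup.eq_one_iff x).1 hy), ?_⟩
    rintro ⟨a, ha, hay⟩
    rw [← hay]
    exact (QuotientGroup.eq_one_iff a).2 ha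
  obtain ⟨hMne₁, hmin₁⟩ := minimal_image hN₁Φ hN₁ne hmax₁
  have hback : ∀ (A : Subgroup X), N₁ ≤ A → ∀ a, π₁ a ∈ A.map π₁ → a ∈ A := by
    rintro A hA a ⟨d, hd, hda⟩
    exact (mul_mem_cancel_left (inv_mem hd)).1 (hA (QuotientGroup.eq.1 hda))
  obtain ⟨hM2, hab₁, h32, V, hVn, hMV, hVQ, hV16, hV2⟩ := layer_one hL hρ₁
    (sectional_bound h4 π₁ (QuotientGroup.mk'_surjective N₁)) (M := Φ.map π₁) (hker₁.symm ▸ hQ.map π₁)
    (hΦn.map π₁ (QuotientGroup.mk'_surjective N₁)) (hker₁.symm ▸ map_mono hΦQ) hMne₁ hmin₁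
    (by
      rw [hker₁]
      rintro _ ⟨a, ha, rfl⟩
      exact ⟨a * a, hsqΦ a ha, map_mul π₁ a a⟩)
    ⟨π₁ a₁, hker₁.symm ▸ mem_map_of_mem π₁ ha₁, fun h => ha₁N ((QuotientGroup.eq_one_iff _).1 (by
      rw [← map_mul] at h; exact h))⟩
    (fun y hy => by
      obtain ⟨x, rfl⟩ := QuotientGroup.mk'_surjective N₁ y
      refine hfaith x fun a ha => hback Φ hN₁Φ _ ?_
      rw [map_mul, map_mul, map_mul, map_inv, map_inv]
      exact hy (π₁ a) (hker₁.symm ▸ mem_map_of_mem π₁ ha))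
  -- the second quotient
  let π := QuotientGroup.mk' N₂
  have hN₂Φ : N₂ ≤ Φ := hN₂N.trans hN₁Φ
  let ρ₂ : X ⧸ N₂ →* X ⧸ Q := QuotientGroup.lift N₂ ρ (hker.symm ▸ hN₂Φ.trans hΦQ)
  have hρ₂ : Function.Surjective ρ₂ := fun l => by
    obtain ⟨x, rfl⟩ := hρ l; exact ⟨π x, rfl⟩
  have hker₂ : ρ₂.ker = Q.map π := by
    ext y
    obtain ⟨x, rfl⟩ := QuotientGroup.mk'_surjective N₂ y
    refine ⟨fun hy => mem_map_of_mem π ((QuotientGroup.eq_one_iff x).1 hy), ?_⟩
    rintro ⟨a, ha, hay⟩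
    rw [← hay]
    exact (QuotientGroup.eq_one_iff a).2 ha
  obtain ⟨hMne₂, hmin₂⟩ := minimal_image hN₂N hN₂ne hmax₂
  set V' : Subgroup X := V.comap π₁ with hV'
  haveI hV'n : V'.Normal := hVn.comap π₁
  have hΦV' : Φ ≤ V' := fun a ha => hMV (mem_map_of_mem π₁ ha)
  have hV'Q : V' ≤ Q := fun a ha => hback Q (hN₁Φ.trans hΦQ) a (hker₁ ▸ hVQ (mem_comap.1 ha))
  have hback₂ : ∀ (A : Subgroup X), N₂ ≤ A → ∀ a, π a ∈ A.map π → a ∈ A := by
    rintro A hA a ⟨d, hd, hda⟩
    exact (mul_mem_cancel_left (inv_mem hd)).1 (hA (QuotientGroup.eq.1 hda))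
  have hcard : ∀ A : Subgroup X, N₁ ≤ A →
      Nat.card (A.map π) = Nat.card (A.map π₁) * Nat.card (N₁.map π) := by
    intro A hA
    have h1 : Nat.card A = Nat.card (A.map π₁) * Nat.card N₁ := by
      rw [← relIndex_ker (K := A) π₁, QuotientGroup.ker_mk', mul_comm,
        ← Nat.card_congr (subgroupOfEquivOfLe hA).toEquiv, relIndex, card_mul_index]
    have h2 : ∀ B : Subgroup X, N₂ ≤ B → Nat.card B = Nat.card (B.map π) * Nat.card N₂ := fun B hB => by
      rw [← relIndex_ker (K := B) π, QuotientGroup.ker_mk', mul_comm,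
        ← Nat.card_congr (subgroupOfEquivOfLe hB).toEquiv, relIndex, card_mul_index]
    rw [h2 A (hN₂N.trans hA), h2 N₁ hN₂N, ← mul_assoc] at h1
    exact Nat.eq_of_mul_eq_mul_right Nat.card_pos h1
  refine no_layer_two hL hρ₂ (hker₂.symm ▸ hQ.map π) (sectional_bound h4 π (QuotientGroup.mk'_surjective N₂))
    (M := N₁.map π) (D := Φ.map π) (V := V'.map π) (hN₁.map π (QuotientGroup.mk'_surjective N₂))
    (hΦn.map π (QuotientGroup.mk'_surjective N₂)) (hV'n.map π (QuotientGroup.mk'_surjective N₂)) hMne₂ hmin₂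
    (map_mono hN₁Φ) (map_mono hΦV') (hker₂.symm ▸ map_mono hV'Q) ?_ ?_ ?_ ?_ ?_ ?_ ?_ ?_
  · rw [hcard Φ hN₁Φ, hM2]
  · rw [hcard V' (hN₁Φ.trans hΦV'), hV', map_comap_eq_self_of_surjective (QuotientGroup.mk'_surjective N₁),
      hV16]
  · rw [hker₂, hcard Q (hN₁Φ.trans hΦQ), ← hker₁, h32]
  · rw [hker₂]
    rintro _ ⟨a, ha, rfl⟩
    exact ⟨a * a, hsqΦ a ha, map_mul π a a⟩
  · rintro _ ⟨a, ha, rfl⟩
    refine ⟨a * a, (QuotientGroup.eq_one_iff _).1 ?_, map_mul π a a⟩
    show π₁ (a * a) = 1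
    rw [map_mul]
    exact hV2 _ (mem_comap.1 ha)
  · refine ⟨π a₁, hker₂.symm ▸ mem_map_of_mem π ha₁, fun h => ha₁N (hback₂ N₁ hN₂N _ ?_)⟩
    rw [map_mul]; exact h
  · rw [hker₂]
    rintro _ ⟨a, ha, rfl⟩ _ ⟨b, hb, rfl⟩
    refine ⟨a * b * a⁻¹ * b⁻¹, (QuotientGroup.eq_one_iff _).1 ?_, by simp only [map_mul, map_inv]⟩
    show π₁ (a * b * a⁻¹ * b⁻¹) = 1
    have h := hab₁ (π₁ a) (by rw [hker₁]; exact mem_map_of_mem π₁ ha) (π₁ b)
      (by rw [hker₁]; exact mem_map_of_mem π₁ hb)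
    rw [map_mul, map_mul, map_mul, map_inv, map_inv, h, mul_inv_cancel_right, mul_inv_cancel]
  · intro y hy
    obtain ⟨x, rfl⟩ := QuotientGroup.mk'_surjective N₂ y
    refine hfaith x fun a ha => hback₂ Φ hN₂Φ _ ?_
    rw [map_mul, map_mul, map_mul, map_inv, map_inv]
    exact hy (π a) (hker₂.symm ▸ mem_map_of_mem π ha)

end Cfsg.Lib.Small.SecRankFour.Linear
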