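import Cfsg.Agent.Lib.Small.SecRankFour.Linear.Basic

/-!
# The module of order eight of a simple group of order 168
-/

set_option autoImplicit false

namespace Cfsg.Lib.Small.SecRankFour.Linear

variable {L : Type*} [Group L] [Finite L] [IsSimpleGroup L] (hL : Nat.card L = 168)
  {V : Type*} [AddCommGroup V] [Finite V] [DistribMulAction L V]
  (h2 : ∀ v : V, v + v = 0) (hV : Nat.card V = 8) (hnt : ∃ (g : L) (v : V), g • v ≠ v)

local notation "F3" => ZMod 2 × ZMod 2 × ZMod 2

theorem card_bases : Nat.card {p : F3 × F3 × F3 // ∀ a b c : ZMod 2,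
    a.val • p.1 + b.val • p.2.1 + c.val • p.2.2 = 0 → a = 0 ∧ b = 0 ∧ c = 0} = 168 := by
  rw [Nat.card_eq_fintype_card]
  decide +kernel

omit [Finite L] [IsSimpleGroup L] [DistribMulAction L V] in
theorem card_aut_le (e : F3 ≃+ V) : Nat.card (V ≃+ V) ≤ 168 := by
  have he : ∀ a b c : ZMod 2, a.val • (1, 0, 0) + b.val • (0, 1, 0) + c.val • ((0, 0, 1) : F3) = (a, b, c) := by
    decide
  rw [← card_bases]
  refine Nat.card_le_card_of_injective (fun φ : V ≃+ V => ⟨(e.symm (φ (e (1, 0, 0))), e.symm (φ (e (0, 1, 0))),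
    e.symm (φ (e (0, 0, 1)))), fun a b c h => ?_⟩) fun φ ψ h => ?_
  · have h' : e.symm (φ (e (a, b, c))) = 0 := by
      rw [← he a b c]; simpa only [map_add, map_nsmul] using h
    have := he a b c
    rw [AddEquiv.map_eq_zero_iff, AddEquiv.map_eq_zero_iff, AddEquiv.map_eq_zero_iff] at h'
    simp only [Prod.mk_eq_zero] at h'
    exact h'
  · simp only [Subtype.mk.injEq, Prod.mk.injEq, EmbeddingLike.apply_eq_iff_eq] at h
    refine AddEquiv.ext fun v => ?_
    obtain ⟨⟨a, b, c⟩, rfl⟩ := e.surjective v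
    rw [← he a b c]
    simp only [map_add, map_nsmul, h.1, h.2.1, h.2.2]

include hL h2 hV hnt

/-- Coordinates adapted to an element of order four. -/
theorem exists_coords {s : L} (hs : orderOf s = 4) :
    ∃ e : F3 ≃+ V, ∀ a b c, dis s (e (a, b, c)) = e (0, a, b) := by
  have hd3 : ∀ v : V, dis s (dis s (dis s v)) = 0 := fun v => by
    by_contra hne
    set D := dis s (V := V)
    have hD := dis_four h2 hs (V := V)
    obtain ⟨e, he⟩ := coords_three h2 hV (D v) (D (D v)) (D (D (D v))) fun a b c h => by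
      have ha : a = 0 := eq_zero_of_val_nsmul hne (by simpa [hD, D] using congrArg (fun w => D (D w)) h)
      subst ha
      have hb : b = 0 := eq_zero_of_val_nsmul hne (by simpa [hD, D] using congrArg D h)
      subst hb
      exact ⟨rfl, rfl, eq_zero_of_val_nsmul hne (by simpa using h)⟩
    obtain ⟨⟨a, b, c⟩, hp⟩ := e.surjective v
    rw [he] at hp
    apply hne
    rw [← hp]
    simp [hD, D]
  obtain ⟨x, hx⟩ : ∃ x : V, dis s (dis s x) ≠ 0 := by
    by_contra hall
    push Not at hall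
    have h1 : s * s = 1 := faithful hnt fun v => dis_eq_zero.1 (by rw [← dis_dis h2, hall])
    have := orderOf_sq hs
    rw [h1, orderOf_one] at this
    exact absurd this (by norm_num)
  obtain ⟨e, -, he⟩ := chain_three h2 hV (dis s) hd3 hx
  exact ⟨e, he⟩

/-- Every automorphism is realised. -/
theorem realize (φ : V ≃+ V) : ∃ g : L, ∀ v, g • v = φ v := by
  obtain ⟨s, hs⟩ := exists_order_four hL
  obtain ⟨e, -⟩ := exists_coords hL h2 hV hnt hs
  let f : L → (V ≃+ V) := DistribMulAction.toAddEquiv V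
  have hf : Function.Injective f := fun g k h => by
    have h1 : k⁻¹ * g = 1 := faithful hnt fun v => by
      rw [mul_smul, inv_smul_eq_iff]
      exact congrArg (fun ψ : V ≃+ V => ψ v) h
    exact (inv_mul_eq_one.1 h1).symm
  haveI : Finite (V ≃+ V) := Finite.of_injective (fun ψ : V ≃+ V => (ψ : V → V)) DFunLike.coe_injective
  obtain ⟨g, hg⟩ := (hf.bijective_of_nat_card_le ((card_aut_le e).trans hL.ge)).2 φ
  exact ⟨g, fun v => congrArg (fun ψ : V ≃+ V => ψ v) hg⟩

theorem transitive {x y : V} (hx : x ≠ 0) (hy : y ≠ 0) : ∃ g : L, g • x = y := by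
  obtain ⟨s, hs⟩ := exists_order_four hL
  obtain ⟨e, -⟩ := exists_coords hL h2 hV hnt hs
  have key : ∀ p : F3, p ≠ 0 → ∃ q r : F3, ∀ a b c : ZMod 2,
      a.val • p + b.val • q + c.val • r = 0 → a = 0 ∧ b = 0 ∧ c = 0 := by decide +kernel
  have hbase : ∀ v : V, v ≠ 0 → ∃ φ : F3 ≃+ V, φ (1, 0, 0) = v := fun v hv => by
    obtain ⟨q, r, hqr⟩ := key (e.symm v) (by simpa using hv)
    obtain ⟨φ, hφ⟩ := coords_three h2 hV v (e q) (e r) fun a b c h => hqr a b c (e.injective (by
      rw [map_add, map_add, map_nsmul, map_nsmul, map_nsmul, e.apply_symm_apply, map_zero]; exact h))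
    exact ⟨φ, by rw [hφ]; simp [ZMod.val_one]⟩
  obtain ⟨φ, rfl⟩ := hbase x hx
  obtain ⟨ψ, rfl⟩ := hbase y hy
  obtain ⟨g, hg⟩ := realize hL h2 hV hnt (φ.symm.trans ψ)
  exact ⟨g, by simp [hg]⟩

/-- Coordinates, and conjugating elements producing the transvections with one centre. -/
theorem pencil {s : L} (hs : orderOf s = 4) :
    ∃ (e : F3 ≃+ V) (k₁ k₂ : L), (∀ a b c, dis s (e (a, b, c)) = e (0, a, b)) ∧
      (∀ a b c, dis (s * s) (e (a, b, c)) = e (0, 0, a)) ∧
      (∀ a b c, k₁ • e (a, b, c) = e (b, a, c)) ∧ (∀ a b c, k₂ • e (a, b, c) = e (a + b, b, c)) ∧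
      (∀ a b c, dis (k₁ * (s * s) * k₁⁻¹) (e (a, b, c)) = e (0, 0, b)) ∧
      (∀ a b c, dis (k₂ * (s * s) * k₂⁻¹) (e (a, b, c)) = e (0, 0, a + b)) ∧
      k₂ * (s * s) * k₂⁻¹ = s * s * (k₁ * (s * s) * k₁⁻¹) := by
  obtain ⟨e, he⟩ := exists_coords hL h2 hV hnt hs
  have ht : ∀ a b c, dis (s * s) (e (a, b, c)) = e (0, 0, a) := fun a b c => by
    rw [← dis_dis h2, he, he]
  let sw : F3 ≃+ F3 :=
    { toFun := fun p => (p.2.1, p.1, p.2.2)
      invFun := fun p => (p.2.1, p.1, p.2.2)
      left_inv := fun _ => rfl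
      right_inv := fun _ => rfl
      map_add' := fun _ _ => rfl }
  let sk : F3 ≃+ F3 :=
    { toFun := fun p => (p.1 + p.2.1, p.2.1, p.2.2)
      invFun := fun p => (p.1 + p.2.1, p.2.1, p.2.2)
      left_inv := fun p => by revert p; decide
      right_inv := fun p => by revert p; decide
      map_add' := fun p q => by revert p q; decide }
  have hconj : ∀ (σ : F3 ≃+ F3) (k : L), (∀ v, k • v = e (σ (e.symm v))) → ∀ p,
      dis (k * (s * s) * k⁻¹) (e p) = e (σ (e.symm (dis (s * s) (e (σ.symm p))))) := by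
    intro σ k hk p
    have hk' : k⁻¹ • e p = e (σ.symm p) := by
      rw [inv_smul_eq_iff, hk]; simp
    rw [dis_apply, dis_apply, mul_smul, mul_smul, hk', ← hk, smul_sub]
    congr 1
    rw [← hk', smul_inv_smul]
  obtain ⟨k₁, hk₁⟩ := realize hL h2 hV hnt ((e.symm.trans sw).trans e)
  obtain ⟨k₂, hk₂⟩ := realize hL h2 hV hnt ((e.symm.trans sk).trans e)
  have h1 : ∀ a b c, dis (k₁ * (s * s) * k₁⁻¹) (e (a, b, c)) = e (0, 0, b) := fun a b c => by
    rw [hconj sw k₁ hk₁]
    show e (sw (e.symm (dis (s * s) (e (b, a, c))))) = _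
    rw [ht, e.symm_apply_apply]; rfl
  have h2' : ∀ a b c, dis (k₂ * (s * s) * k₂⁻¹) (e (a, b, c)) = e (0, 0, a + b) := fun a b c => by
    rw [hconj sk k₂ hk₂]
    show e (sk (e.symm (dis (s * s) (e (a + b, b, c))))) = _
    rw [ht, e.symm_apply_apply]
    show e (0 + 0, 0, a + b) = _
    rw [add_zero]
  refine ⟨e, k₁, k₂, he, ht, ?_, ?_, h1, h2', ?_⟩
  · exact fun a b c => by rw [hk₁]; simp [sw]
  · exact fun a b c => by rw [hk₂]; simp [sk]
  · refine inv_mul_eq_one.1 (faithful hnt fun v => ?_)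
    rw [mul_smul, inv_smul_eq_iff]
    obtain ⟨⟨a, b, c⟩, rfl⟩ := e.surjective v
    rw [mul_smul (s * s), smul_eq_add (k₂ * (s * s) * k₂⁻¹) (e _), h2',
      smul_eq_add (k₁ * (s * s) * k₁⁻¹) (e _), h1, ← map_add, ← map_add,
      smul_eq_add (s * s) (e _)]
    simp only [Prod.mk_add_mk, zero_add]
    rw [ht, ← map_add]
    simp only [Prod.mk_add_mk, zero_add]
    congr 1
    simp [add_assoc, add_comm, add_left_comm]

/-- An element of order four fixing a given vector fixes nothing else. -/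
theorem fix_only {x : V} (hx : x ≠ 0) : ∃ g : L, g • x = x ∧ ∀ y, g • y = y → y = 0 ∨ y = x := by
  obtain ⟨s, hs⟩ := exists_order_four hL
  obtain ⟨e, he⟩ := exists_coords hL h2 hV hnt hs
  obtain ⟨k, rfl⟩ := transitive hL h2 hV hnt (x := e (0, 0, 1)) (by simp) hx
  refine ⟨k * s * k⁻¹, ?_, fun y hy => ?_⟩
  · have h : dis s (e (0, 0, 1)) = 0 := by rw [he]; exact map_zero e
    rw [mul_smul, mul_smul, inv_smul_smul, dis_eq_zero.1 h]
  · rw [mul_smul, mul_smul, smul_eq_iff_eq_inv_smul] at hy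
    obtain ⟨⟨a, b, c⟩, hp⟩ := e.surjective (k⁻¹ • y)
    have h : dis s (e (a, b, c)) = 0 := dis_eq_zero.2 (by rw [hp]; exact hy)
    rw [he, AddEquiv.map_eq_zero_iff, Prod.mk_eq_zero, Prod.mk_eq_zero] at h
    obtain ⟨-, rfl, rfl⟩ := h
    rw [eq_inv_smul_iff] at hp
    rcases (show ∀ c : ZMod 2, c = 0 ∨ c = 1 by decide) c with rfl | rfl
    · left; rw [← hp]; exact (congrArg (k • ·) (map_zero e)).trans (smul_zero k)
    · exact Or.inr hp.symm

/-- Two vectors are fixed by a common nontrivial element. -/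
theorem exists_fix_pair (x y : V) : ∃ g : L, g ≠ 1 ∧ g • x = x ∧ g • y = y := by
  obtain ⟨s, hs⟩ := exists_order_four hL
  obtain ⟨e, k₁, k₂, he, ht, -, -, h1, h2', -⟩ := pencil hL h2 hV hnt hs
  have hs2 : s * s ≠ 1 := fun h => by
    have := orderOf_sq hs
    rw [h, orderOf_one] at this
    exact absurd this (by norm_num)
  have key : ∀ k : L, k * (s * s) * k⁻¹ ≠ 1 := fun k h => hs2 (conj_eq_one_iff.1 h)
  have hfix : ∀ y : V, ∃ g : L, g ≠ 1 ∧ g • e (0, 0, 1) = e (0, 0, 1) ∧ g • y = y := fun y => by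
    obtain ⟨⟨a, b, c⟩, rfl⟩ := e.surjective y
    rcases (show ∀ a b : ZMod 2, a = 0 ∨ b = 0 ∨ a + b = 0 by decide) a b with h | h | h
    · exact ⟨s * s, hs2, dis_eq_zero.1 (by rw [ht]; exact map_zero e),
        dis_eq_zero.1 (by rw [ht, h]; exact map_zero e)⟩
    · exact ⟨_, key k₁, dis_eq_zero.1 (by rw [h1]; exact map_zero e),
        dis_eq_zero.1 (by rw [h1, h]; exact map_zero e)⟩
    · exact ⟨_, key k₂, dis_eq_zero.1 (by rw [h2', add_zero]; exact map_zero e),
        dis_eq_zero.1 (by rw [h2', h]; exact map_zero e)⟩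
  by_cases hx : x = 0
  · obtain ⟨g, hg, -, hy⟩ := hfix y
    exact ⟨g, hg, by rw [hx, smul_zero], hy⟩
  · obtain ⟨k, rfl⟩ := transitive hL h2 hV hnt (x := e (0, 0, 1)) (by simp) hx
    obtain ⟨g, hg, hu, hy⟩ := hfix (k⁻¹ • y)
    refine ⟨k * g * k⁻¹, fun h => hg (conj_eq_one_iff.1 h), ?_, ?_⟩
    · rw [mul_smul, mul_smul, inv_smul_smul, hu]
    · rw [mul_smul, mul_smul, hy, smul_inv_smul]

/-- An invariant functional vanishes. -/
theorem functional_eq_zero {A : Type*} [AddCommGroup A] (l : V →+ A)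
    (hl : ∀ (g : L) (v : V), l (g • v) = l v) (v : V) : l v = 0 := by
  obtain ⟨s, hs⟩ := exists_order_four hL
  obtain ⟨e, he⟩ := exists_coords hL h2 hV hnt hs
  by_cases hv : v = 0
  · rw [hv, map_zero]
  obtain ⟨k, rfl⟩ := transitive hL h2 hV hnt (x := e (0, 0, 1)) (by simp) hv
  rw [hl, ← he 0 1 0, dis_apply, map_sub, hl, sub_self]

/-- An invariant alternating form with trivial values vanishes. -/
theorem form_eq_zero {A : Type*} [AddCommGroup A] (β : V →+ V →+ A)
    (hβ : ∀ (g : L) (x y : V), β (g • x) (g • y) = β x y) (halt : ∀ x, β x x = 0) (x y : V) :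
    β x y = 0 := by
  obtain ⟨s, hs⟩ := exists_order_four hL
  obtain ⟨e, k₁, -, he, -, hk₁, -, -, -, -⟩ := pencil hL h2 hV hnt hs
  by_cases hx : x = 0
  · rw [hx, map_zero]; rfl
  obtain ⟨k, rfl⟩ := transitive hL h2 hV hnt (x := e (0, 0, 1)) (by simp) hx
  rw [← smul_inv_smul k y, hβ]
  generalize k⁻¹ • y = z
  set u := e (0, 0, 1) with hu
  have hsu : s • u = u := dis_eq_zero.1 (by rw [hu, he]; exact map_zero e)
  have hD : ∀ v, β u (dis s v) = 0 := fun v => by
    rw [dis_apply, map_sub]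
    conv_lhs => arg 1; arg 1; rw [← hsu]
    rw [hβ, sub_self]
  have hh : β u (e (0, 1, 0)) = 0 := by rw [← he 1 0 0]; exact hD _
  have hg : ∀ v : V, β u (k₁ • v) = β u v := fun v => by
    conv_lhs => arg 1; rw [← show k₁ • u = u from hk₁ 0 0 1]
    rw [hβ]
  obtain ⟨⟨a, b, c⟩, rfl⟩ := e.surjective z
  have hdec : ((a, b, c) : F3) = a.val • (1, 0, 0) + b.val • (0, 1, 0) + c.val • (0, 0, 1) := by
    revert a b c; decide
  have hx0 : β u (e (1, 0, 0)) = 0 := by rw [← hk₁ 0 1 0, hg, hh]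
  rw [hdec]
  simp only [map_add, map_nsmul, hh, hx0]
  rw [show e (0, 0, 1) = u from rfl, halt]
  simp

/-- An equivariant endomorphism is zero or the identity. -/
theorem endo_cases (f : V →+ V) (hf : ∀ (g : L) (v : V), f (g • v) = g • f v) :
    (∀ v, f v = 0) ∨ ∀ v, f v = v := by
  obtain ⟨x, hx⟩ : ∃ x : V, x ≠ 0 := by
    obtain ⟨g, v, hv⟩ := hnt
    exact ⟨v, fun h => hv (by rw [h, smul_zero])⟩
  obtain ⟨g, hgx, hg⟩ := fix_only hL h2 hV hnt hx
  rcases hg (f x) (by rw [← hf, hgx]) with h | h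
  · refine Or.inl fun v => ?_
    by_cases hv : v = 0
    · rw [hv, map_zero]
    obtain ⟨k, rfl⟩ := transitive hL h2 hV hnt hx hv
    rw [hf, h, smul_zero]
  · refine Or.inr fun v => ?_
    by_cases hv : v = 0
    · rw [hv, map_zero]
    obtain ⟨k, rfl⟩ := transitive hL h2 hV hnt hx hv
    rw [hf, h]

variable {M : Type*} [AddCommGroup M] [Finite M] [DistribMulAction L M]

/-- An equivariant quadratic map is zero or an isomorphism. -/
theorem quad_cases (hM2 : ∀ m : M, m + m = 0) (hM : (∀ (g : L) (m : M), g • m = m) ∨ Nat.card M = 8)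
    (q : V → M) (hq : ∀ (g : L) (v : V), q (g • v) = g • q v)
    (hb : ∀ x y z, q (x + y + z) = q (x + y) + q (x + z) + q (y + z) + q x + q y + q z) :
    (∀ x, q x = 0) ∨ (Function.Bijective q ∧ Nat.card M = 8 ∧ (∃ (g : L) (m : M), g • m ≠ m) ∧
      ∀ x y, q (x + y) = q x + q y) := by
  have hq0 : q 0 = 0 := by
    have h := hb 0 0 0
    simp only [add_zero, hM2, zero_add] at h
    exact h
  obtain ⟨s, hs⟩ := exists_order_four hL
  obtain ⟨e, -⟩ := exists_coords hL h2 hV hnt hs
  by_cases htriv : ∀ (g : L) (m : M), g • m = m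
  · left
    have hc : ∀ x : V, x ≠ 0 → q x = q (e (1, 0, 0)) := fun x hx => by
      obtain ⟨k, rfl⟩ := transitive hL h2 hV hnt (x := e (1, 0, 0)) (by simp) hx
      rw [hq, htriv]
    have h := hb (e (1, 0, 0)) (e (0, 1, 0)) (e (0, 0, 1))
    simp only [← map_add, Prod.mk_add_mk, add_zero, zero_add] at h
    rw [hc (e (1, 1, 1)) (by simp), hc (e (1, 1, 0)) (by simp), hc (e (1, 0, 1)) (by simp),
      hc (e (0, 1, 1)) (by simp), hc (e (0, 1, 0)) (by simp), hc (e (0, 0, 1)) (by simp)] at h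
    simp only [hM2, zero_add] at h
    intro x
    by_cases hx : x = 0
    · rw [hx, hq0]
    · rw [hc x hx, h]
  · push Not at htriv
    have hM8 : Nat.card M = 8 := hM.resolve_left fun h => by
      obtain ⟨g, m, hg⟩ := htriv
      exact hg (h g m)
    by_cases hz : ∀ x, q x = 0
    · exact Or.inl hz
    right
    push Not at hz
    obtain ⟨x₀, hx₀⟩ := hz
    have hne : ∀ x : V, x ≠ 0 → q x ≠ 0 := fun x hx h => by
      have h0 : x₀ ≠ 0 := fun h0 => hx₀ (by rw [h0, hq0])
      obtain ⟨k, rfl⟩ := transitive hL h2 hV hnt hx h0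
      exact hx₀ (by rw [hq, h, smul_zero])
    have hstab : ∀ x : V, x ≠ 0 → MulAction.stabilizer L x = MulAction.stabilizer L (q x) := by
      intro x hx
      have hle : MulAction.stabilizer L x ≤ MulAction.stabilizer L (q x) := fun g hg => by
        rw [MulAction.mem_stabilizer_iff] at hg ⊢
        rw [← hq, hg]
      refine Subgroup.eq_of_le_of_card_ge hle ?_
      have ho : MulAction.orbit L x = {(0 : V)}ᶜ := by
        ext y
        refine ⟨?_, fun hy => transitive hL h2 hV hnt hx hy⟩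
        rintro ⟨g, rfl⟩
        simpa [smul_eq_zero_iff_eq] using hx
      rcases orbit_cases hL x with h | ⟨-, h⟩
      · exfalso
        obtain ⟨g, v, hv⟩ := hnt
        have h8 : (MulAction.orbit L x).ncard = 7 := by rw [ho, Set.ncard_compl, Set.ncard_singleton, hV]
        rw [show MulAction.orbit L x = {x} from Set.eq_singleton_iff_unique_mem.2
          ⟨MulAction.mem_orbit_self x, fun y ⟨g, hg⟩ => hg ▸ h g⟩, Set.ncard_singleton] at h8
        omega
      · rw [ho, Set.ncard_compl, Set.ncard_singleton, hV] at h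
        rcases orbit_cases hL (q x) with h' | ⟨h7, h'⟩
        · exfalso
          have hall : ∀ (g : L) (m : M), g • m = m := by
            intro g m
            by_cases hm : g = 1
            · rw [hm, one_smul]
            exfalso
            have hV' : ∀ y : V, q y = q x ∨ y = 0 := fun y => by
              by_cases hy : y = 0
              · exact Or.inr hy
              obtain ⟨k, rfl⟩ := transitive hL h2 hV hnt hx hy
              exact Or.inl (by rw [hq, h'])
            have hb' := hb (e (1, 0, 0)) (e (0, 1, 0)) (e (0, 0, 1))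
            simp only [← map_add, Prod.mk_add_mk, add_zero, zero_add] at hb'
            have hc : ∀ p : F3, p ≠ 0 → q (e p) = q x := fun p hp =>
              (hV' (e p)).resolve_right (by simpa using hp)
            rw [hc _ (by decide), hc _ (by decide), hc _ (by decide), hc _ (by decide), hc _ (by decide),
              hc _ (by decide), hc _ (by decide)] at hb'
            simp only [hM2, zero_add] at hb'
            exact hne x hx hb'
          obtain ⟨g, m, hg⟩ := htriv
          exact hg (hall g m)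
        · have hle7 : (MulAction.orbit L (q x)).ncard ≤ 8 := hM8 ▸ Set.ncard_le_card _
          nlinarith
    have hinj : Function.Injective q := by
      intro x y hxy
      by_cases hx : x = 0
      · subst hx
        by_contra hy
        exact hne y (Ne.symm hy) (hxy ▸ hq0)
      have hy : y ≠ 0 := fun h => hne x hx (by rw [hxy, h, hq0])
      obtain ⟨g, hgx, hg⟩ := fix_only hL h2 hV hnt hx
      have : g ∈ MulAction.stabilizer L y := by
        rw [hstab y hy, ← hxy, ← hstab x hx]; exact hgx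
      exact ((hg y this).resolve_left hy).symm
    refine ⟨hinj.bijective_of_nat_card_le (by rw [hV, hM8]), hM8, htriv, fun x y => ?_⟩
    by_cases hx : x = 0
    · rw [hx, hq0, zero_add, zero_add]
    by_cases hy : y = 0
    · rw [hy, hq0, add_zero, add_zero]
    by_cases hxy : x = y
    · rw [hxy, h2, hq0, hM2]
    obtain ⟨g, hg1, hgx, hgy⟩ := exists_fix_pair hL h2 hV hnt x y
    have hgz : g • q (x + y) = q (x + y) := by rw [← hq, smul_add, hgx, hgy]
    have hga : g • q x = q x := by rw [← hq, hgx]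
    have hgb : g • q y = q y := by rw [← hq, hgy]
    by_contra hne'
    obtain ⟨φ, hφ⟩ := coords_three hM2 hM8 (q x) (q y) (q (x + y)) fun a b c h => by
      have hab : q x ≠ q y := fun h => hxy (hinj h)
      have hac : q x ≠ q (x + y) := fun h => hy (by simpa using hinj h)
      have hbc : q y ≠ q (x + y) := fun h => hx (by simpa using hinj h)
      have hxy0 : x + y ≠ 0 := fun h => hxy (by rw [← add_zero x, ← h2 y, ← add_assoc, h, zero_add])
      have h0 : ∀ {m n : M}, m + n = 0 → m = n := fun {m n} h => by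
        rw [← add_zero m, ← hM2 n, ← add_assoc, h, zero_add]
      rcases (show ∀ a : ZMod 2, a = 0 ∨ a = 1 by decide) a with rfl | rfl <;>
      rcases (show ∀ a : ZMod 2, a = 0 ∨ a = 1 by decide) b with rfl | rfl <;>
      rcases (show ∀ a : ZMod 2, a = 0 ∨ a = 1 by decide) c with rfl | rfl <;>
      simp [ZMod.val_one] at h ⊢
      · exact hne _ hxy0 h
      · exact hne _ hy h
      · exact hbc (h0 h)
      · exact hne _ hx h
      · exact hac (h0 h)
      · exact hab (h0 h)
      · exact hne' (h0 h).symm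
    refine hg1 (faithful htriv fun m => ?_)
    obtain ⟨⟨a, b, c⟩, rfl⟩ := φ.surjective m
    rw [hφ, smul_add, smul_add, smul_comm g a.val (q x), smul_comm g b.val (q y),
      smul_comm g c.val (q (x + y)), hga, hgb, hgz]

end Cfsg.Lib.Small.SecRankFour.Linear
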