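import Cfsg.Agent.Lib.Small.Order168Classes
import Mathlib.GroupTheory.Transfer

/-!
# Central extensions of a simple group of order 168 by two-groups
-/

set_option autoImplicit false

namespace Cfsg.Lib.Small.SecRankFour.Linear

open Subgroup
open scoped commutatorElement

/-- A central two-group extension has a covering part meeting the centre in exponent two. -/
theorem exists_cover {Y : Type*} [Group Y] [Finite Y] {L : Type*} [Group L] [Finite L] [IsSimpleGroup L]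
    (hL : Nat.card L = 168) (ρ : Y →* L) (hρ : Function.Surjective ρ) (hZ : ρ.ker ≤ center Y)
    (hP : IsPGroup 2 ρ.ker) :
    ∃ Y₁ : Subgroup Y, Y₁.map ρ = ⊤ ∧ ∀ p ∈ Y₁, ρ p = 1 → p * p = 1 := by
  haveI : Fact (Nat.Prime 2) := ⟨Nat.prime_two⟩
  refine ⟨commutator Y, ?_, fun p hp hp1 => ?_⟩
  · rw [commutator_def, map_commutator, map_top_of_surjective ρ hρ, ← commutator_def]
    rcases (inferInstance : (commutator L).Normal).eq_bot_or_eq_top with h | h
    · exfalso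
      obtain ⟨T⟩ : Nonempty (Sylow 2 L) := inferInstance
      refine Order168.not_comm_two hL T ⟨⟨fun a b => Subtype.ext ?_⟩⟩
      have hm : ⁅(a : L), (b : L)⁆ ∈ (⊥ : Subgroup L) :=
        h ▸ commutator_mem_commutator (mem_top _) (mem_top _)
      exact commutatorElement_eq_one_iff_mul_comm.1 (mem_bot.1 hm)
    · exact h
  obtain ⟨T⟩ : Nonempty (Sylow 2 L) := inferInstance
  obtain ⟨a', b', -, -, ha, hb, -, hinv, htop⟩ := Order168.exists_dihedral_gens hL T
  obtain ⟨a, rfl⟩ := hρ a'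
  obtain ⟨b, rfl⟩ := hρ b'
  set S : Subgroup Y := (T : Subgroup L).comap ρ with hS
  have hSgen : S = closure {a, b} ⊔ ρ.ker := by
    rw [hS, ← htop, ← comap_map_eq, MonoidHom.map_closure, Set.image_pair]
  set c := b * a * b⁻¹ * a⁻¹ with hc
  have hcen : ∀ z, ρ z = 1 → ∀ y : Y, y * z = z * y := fun z hz y =>
    mem_center_iff.1 (hZ (MonoidHom.mem_ker.2 hz)) y
  obtain ⟨ζ, hζ1, hba⟩ : ∃ ζ, ρ ζ = 1 ∧ b * a * b⁻¹ = a⁻¹ * ζ :=
    ⟨a * (b * a * b⁻¹), by rw [map_mul, map_mul, map_mul, map_inv, hinv, mul_inv_cancel], by group⟩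
  have hcbc : b * c * b⁻¹ = c⁻¹ := by
    have hζ := hcen ζ hζ1
    have hcb : c = a⁻¹ * ζ * a⁻¹ := by rw [hc, hba]
    rw [show b * c * b⁻¹ = (b * (b * a * b⁻¹) * b⁻¹) * (b * a * b⁻¹)⁻¹ by rw [hc]; group, hba,
      show b * (a⁻¹ * ζ) * b⁻¹ = (b * a * b⁻¹)⁻¹ * (b * ζ * b⁻¹) by group, hba,
      show b * ζ * b⁻¹ = ζ by rw [hζ b]; group, hcb]
    rw [mul_inv_rev, mul_inv_rev, mul_inv_rev, inv_inv]
    rw [show ζ⁻¹ * a * ζ = a by rw [mul_assoc, hζ a]; group]
  have hc2 : ρ (c * c) = 1 := by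
    rw [hc]
    simp only [map_mul, map_inv, hinv]
    rw [show (ρ a)⁻¹ * (ρ a)⁻¹ * ((ρ a)⁻¹ * (ρ a)⁻¹) = (ρ a ^ 4)⁻¹ by group, ← ha, pow_orderOf_eq_one,
      inv_one]
  have hc4 : c * c * (c * c) = 1 := by
    have h : b * (c * c) * b⁻¹ = c * c := by rw [hcen _ hc2 b, mul_inv_cancel_right]
    rw [show b * (c * c) * b⁻¹ = (b * c * b⁻¹) * (b * c * b⁻¹) by group, hcbc] at h
    rw [mul_eq_one_iff_eq_inv]
    nth_rw 1 [← h]
    group
  have hac : a * c * a⁻¹ = c := by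
    have hζ := hcen ζ hζ1
    rw [hc, hba, show a * (a⁻¹ * ζ * a⁻¹) * a⁻¹ = ζ * a⁻¹ * a⁻¹ by group, hζ a⁻¹]
  have haS : a ∈ S := hSgen ▸ mem_sup_left (subset_closure (Set.mem_insert _ _))
  have hbS : b ∈ S := hSgen ▸ mem_sup_left (subset_closure (Set.mem_insert_of_mem _ rfl))
  set C : Subgroup Y := zpowers c with hC
  have hcS : c ∈ S := by rw [hc]; exact mul_mem (mul_mem (mul_mem hbS haS) (inv_mem hbS)) (inv_mem haS)
  have hnorm : S ≤ normalizer (C : Set Y) := by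
    have key : ∀ g : Y, (g * c * g⁻¹ = c ∨ g * c * g⁻¹ = c⁻¹) → g ∈ normalizer (C : Set Y) := by
      intro g hg
      rw [mem_normalizer_iff]
      intro x
      have he : C.map (MulAut.conj g).toMonoidHom = C := by
        rw [hC, MonoidHom.map_zpowers]
        show zpowers (g * c * g⁻¹) = _
        rcases hg with h | h <;> rw [h]
        exact zpowers_inv
      constructor
      · intro hx
        rw [← he]
        exact mem_map_of_mem _ hx
      · intro hx
        rw [← he] at hx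
        obtain ⟨y, hy, hyx⟩ := hx
        have hyx' : g * y * g⁻¹ = g * x * g⁻¹ := hyx
        rwa [← mul_left_cancel (mul_right_cancel hyx')]
    rw [hSgen]
    refine sup_le ((closure_le _).2 ?_) fun z hz => key z (Or.inl ?_)
    · rintro g (rfl | rfl)
      · exact key g (Or.inl hac)
      · exact key g (Or.inr hcbc)
    · rw [← hcen z (MonoidHom.mem_ker.1 hz) c, mul_inv_cancel_right]
  haveI : (C.subgroupOf S).Normal :=
    (normal_subgroupOf_iff_le_normalizer (zpowers_le.2 hcS)).2 hnorm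
  have hgens : closure (((↑) : S → Y) ⁻¹' ({a, b} ∪ (ρ.ker : Set Y))) = ⊤ := by
    have h : closure ({a, b} ∪ (ρ.ker : Set Y)) = S := by rw [Subgroup.closure_union, closure_eq, hSgen]
    have := closure_closure_coe_preimage (k := ({a, b} ∪ (ρ.ker : Set Y)))
    rw [eq_top_iff]
    rintro ⟨x, hx⟩ -
    have hle : S ≤ (closure (((↑) : S → Y) ⁻¹' ({a, b} ∪ (ρ.ker : Set Y)))).map S.subtype := by
      conv_lhs => rw [← h]
      rw [closure_le]
      intro y hy
      have hyS : y ∈ S := h ▸ subset_closure hy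
      exact ⟨⟨y, hyS⟩, subset_closure hy, rfl⟩
    obtain ⟨y, hy, hyx⟩ := hle hx
    rwa [show (⟨x, hx⟩ : S) = y from Subtype.ext hyx.symm]
  let π := QuotientGroup.mk' (C.subgroupOf S)
  have hcomm : ∀ x y : S, π (x * y) = π (y * x) := by
    have hgc : ∀ x ∈ ({a, b} ∪ (ρ.ker : Set Y)), ∀ y ∈ ({a, b} ∪ (ρ.ker : Set Y)),
        x * y * x⁻¹ * y⁻¹ ∈ C := by
      have hz : ∀ z y : Y, ρ z = 1 → z * y * z⁻¹ * y⁻¹ ∈ C := fun z y hz => by
        rw [← hcen z hz y, mul_inv_cancel_right, mul_inv_cancel]; exact one_mem C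
      rintro x ((rfl | rfl) | hx) y ((rfl | rfl) | hy)
      · rw [mul_inv_cancel_right, mul_inv_cancel]; exact one_mem C
      · rw [show x * y * x⁻¹ * y⁻¹ = (y * x * y⁻¹ * x⁻¹)⁻¹ by group]
        exact inv_mem (mem_zpowers c)
      · rw [show x * y * x⁻¹ * y⁻¹ = (y * x * y⁻¹ * x⁻¹)⁻¹ by group]
        exact inv_mem (hz y x (MonoidHom.mem_ker.1 hy))
      · exact mem_zpowers c
      · rw [mul_inv_cancel_right, mul_inv_cancel]; exact one_mem C
      · rw [show x * y * x⁻¹ * y⁻¹ = (y * x * y⁻¹ * x⁻¹)⁻¹ by group]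
        exact inv_mem (hz y x (MonoidHom.mem_ker.1 hy))
      · exact hz x _ (MonoidHom.mem_ker.1 hx)
      · exact hz x _ (MonoidHom.mem_ker.1 hx)
      · exact hz x _ (MonoidHom.mem_ker.1 hx)
    haveI hcl : IsMulCommutative (closure (π '' (((↑) : S → Y) ⁻¹' ({a, b} ∪ (ρ.ker : Set Y))))) :=
      isMulCommutative_closure (by
        rintro _ ⟨x, hx, rfl⟩ _ ⟨y, hy, rfl⟩
        rw [← mul_inv_eq_one, mul_inv_rev, ← mul_assoc, ← map_inv, ← map_inv, ← map_mul, ← map_mul,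
          ← map_mul]
        exact (QuotientGroup.eq_one_iff _).2 (mem_subgroupOf.2 (hgc _ hx _ hy)))
    intro x y
    have hmem : ∀ x : S, π x ∈ closure (π '' (((↑) : S → Y) ⁻¹' ({a, b} ∪ (ρ.ker : Set Y)))) := fun x => by
      rw [← MonoidHom.map_closure, hgens]
      exact mem_map_of_mem _ (mem_top x)
    rw [map_mul, map_mul]
    exact congrArg Subtype.val (mul_comm' (⟨π x, hmem x⟩ : Subgroup.closure _) ⟨π y, hmem y⟩)
  -- transfer into the abelian quotient of the preimage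
  letI : CommGroup (S ⧸ C.subgroupOf S) :=
    { (inferInstance : Group (S ⧸ C.subgroupOf S)) with
      mul_comm := fun p q => by
        obtain ⟨x, rfl⟩ := QuotientGroup.mk'_surjective _ p
        obtain ⟨y, rfl⟩ := QuotientGroup.mk'_surjective _ q
        exact (map_mul π x y).symm.trans ((hcomm x y).trans (map_mul π y x)) }
  have hpker : MonoidHom.transfer π p = 1 := MonoidHom.mem_ker.1 (Abelianization.commutator_subset_ker _ hp)
  have hkey : ∀ (k : ℕ) (g : Y), g⁻¹ * p ^ k * g ∈ S → g⁻¹ * p ^ k * g = p ^ k := fun k g _ => by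
    rw [hcen (p ^ k) (by rw [map_pow, hp1, one_pow]) g⁻¹, inv_mul_cancel_right]
  rw [MonoidHom.transfer_eq_pow π p hkey] at hpker
  obtain ⟨i, hi⟩ := mem_zpowers_iff.1 (mem_subgroupOf.1 ((QuotientGroup.eq_one_iff _).1 hpker))
  have hidx : S.index = 21 := by
    rw [hS, index_comap_of_surjective _ hρ]
    have h := card_mul_index (T : Subgroup L)
    rw [Order168.sylow_two_card hL T, hL] at h
    omega
  change c ^ i = p ^ S.index at hi
  rw [hidx] at hi
  have hρc : ρ c ^ i = 1 := by rw [← map_zpow, hi, map_pow, hp1, one_pow]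
  have hρc1 : orderOf (ρ c) = 2 := by
    have e : ρ c = (ρ a)⁻¹ ^ 2 := by
      rw [hc, map_mul, map_mul, map_mul, map_inv, map_inv, hinv, pow_two]
    rw [e, orderOf_pow' _ two_ne_zero, orderOf_inv, ha]
    rfl
  obtain ⟨l, rfl⟩ : (2 : ℤ) ∣ i := by
    have h := orderOf_dvd_iff_zpow_eq_one.2 hρc
    rw [hρc1] at h
    exact_mod_cast h
  have h42 : p ^ 42 = 1 := by
    rw [show 42 = 21 * 2 from rfl, pow_mul, ← hi, ← zpow_natCast, ← zpow_mul,
      show 2 * l * ((2 : ℕ) : ℤ) = 4 * l by ring, zpow_mul, show c ^ (4 : ℤ) = c * c * (c * c) by simp [zpow_ofNat, pow_succ, mul_assoc],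
      hc4, one_zpow]
  obtain ⟨m, hm⟩ := hP ⟨p, MonoidHom.mem_ker.2 hp1⟩
  have hm' : p ^ 2 ^ m = 1 := congrArg Subtype.val hm
  have hg := pow_gcd_eq_one.2 ⟨h42, hm'⟩
  have hd : Nat.gcd 42 (2 ^ m) ∣ 2 := by
    have h1 : Nat.gcd 42 (2 ^ m) ∣ 2 * 21 := Nat.gcd_dvd_left 42 _
    exact Nat.Coprime.dvd_of_dvd_mul_right
      (Nat.Coprime.coprime_dvd_left (Nat.gcd_dvd_right 42 _) ((by norm_num : Nat.Coprime 2 21).pow_left m)) h1
  rw [← pow_two]
  exact orderOf_dvd_iff_pow_eq_one.1 ((orderOf_dvd_of_pow_eq_one hg).trans hd)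

end Cfsg.Lib.Small.SecRankFour.Linear
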